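import Cfsg.Agent.Lib.ReeG2.L4

/-!
# The normaliser of the Sylow 2-subgroup
-/

set_option autoImplicit false
set_option linter.unusedTactic false
set_option linter.unreachableTactic false
set_option linter.unusedSectionVars false
set_option linter.unusedVariables false
set_option linter.ambiguousOpen false
set_option linter.dupNamespace false
set_option maxHeartbeats 2000000

namespace Cfsg.Agent.Lib.ReeG2.L5

open scoped MatrixGroups Matrix
open Cfsg Lie ChevalleyDatum
open Cfsg.Agent.Lib.Chev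
open Tables Tables2 Tables3 Raise Basic AxBasic Torus Products Products2 Mono1 Mono2 Mono3 Bn ChevSimple
open Cfsg.Agent.Lib.Twisted.Fact Cfsg.Agent.Lib.Twisted.Bruhat Cfsg.Agent.Lib.Twisted.Tw
open Cfsg.Agent.Lib.Twisted.Struct Cfsg.Agent.Lib.Twisted.Check Cfsg.Agent.Lib.Twisted.Ortho
open Cfsg.Agent.Lib.ReeG2.Blocks Cfsg.Agent.Lib.ReeG2.Tw Cfsg.Agent.Lib.ReeG2.Blk7 Cfsg.Agent.Lib.ReeG2.Unip
open Cfsg.Agent.Lib.ReeG2.RTD Cfsg.Agent.Lib.ReeG2.H1 Cfsg.Agent.Lib.ReeG2.Rank1 Cfsg.Agent.Lib.ReeG2.Str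
open Cfsg.Agent.Lib.ReeG2.Fini Cfsg.Agent.Lib.ReeG2.Fini2 Cfsg.Agent.Lib.ReeG2.L Cfsg.Agent.Lib.ReeG2.Rank1b
open Cfsg.Agent.Lib.ReeG2.L2 Cfsg.Agent.Lib.ReeG2.L3 Cfsg.Agent.Lib.ReeG2.E8 Cfsg.Agent.Lib.ReeG2.L4
open Cfsg.Agent.Lib.Chev.SL2 (upM loM)

section Num

/-- The block of `b`. -/
def Bn : Matrix (Fin 7) (Fin 7) (ZMod 3) := Jm
/-- The block of `c`. -/
def Cn : Matrix (Fin 7) (Fin 7) (ZMod 3) := Pm 1 1 1 (-1) 1 1 1 (-1)
/-- The block of the element of order seven. -/
def Sn : Matrix (Fin 7) (Fin 7) (ZMod 3) := Rm 0 0 0 0 1 1 * Jm * Rm 1 1 1 1 1 1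
/-- The block of the element of order three. -/
def Tn : Matrix (Fin 7) (Fin 7) (ZMod 3) := Rm 0 0 1 1 0 0

theorem num1 : Sn * Dn = Bn * Cn * Sn := by decide +kernel
theorem num2 : Sn * Bn = Dn * Bn * Sn := by decide +kernel
theorem num3 : Sn * Cn = Dn * Bn * Cn * Sn := by decide +kernel
theorem num4 : Sn ^ 7 = 1 := by decide +kernel
theorem num5 : Tn * Dn = Dn * Tn := by decide +kernel
theorem num6 : Tn * Bn = Cn * Tn := by decide +kernel
theorem num7 : Tn * Cn = Bn * Cn * Tn := by decide +kernel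
theorem num8 : Tn ^ 3 = 1 := by decide +kernel

end Num

section Twist

variable {F : Type*} [Field F] [CharP F 3] (ax : Ax chevG2 F)
variable (f : F ≃+* F) {e : ℕ} (hf : ∀ t, f t = t ^ e) (hff : ∀ t, f (f t) ^ 3 = t)

/-- The reduction map. -/
noncomputable def φ₃ (F : Type*) [Field F] [CharP F 3] : ZMod 3 →+* F := ZMod.castHom (dvd_refl 3) F

lemma hmm (A B : Matrix (Fin 7) (Fin 7) (ZMod 3)) : (A * B).map (φ₃ F) = A.map (φ₃ F) * B.map (φ₃ F) :=
  Matrix.map_mul

lemma hpow (A : Matrix (Fin 7) (Fin 7) (ZMod 3)) (n : ℕ) : (A ^ n).map (φ₃ F) = (A.map (φ₃ F)) ^ n :=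
  (map_pow (RingHom.mapMatrix (φ₃ F)) A n)

lemma Dn_map : Dn.map (φ₃ F) = Dm (-1 : Fˣ) (-1 : Fˣ) := by
  ext a b
  by_cases hab : a = b
  · subst hab
    simp only [Dn, Dm, Matrix.map_apply, Matrix.diagonal_apply_eq]
    fin_cases a <;> simp [φ₃]
  · simp only [Dn, Dm, Matrix.map_apply, Matrix.diagonal_apply_ne _ hab, map_zero]

lemma Pm_map (α β γ δ α' β' γ' δ' : ZMod 3) :
    (Pm α β γ δ α' β' γ' δ').map (φ₃ F) = Pm (φ₃ F α) (φ₃ F β) (φ₃ F γ) (φ₃ F δ) (φ₃ F α') (φ₃ F β') (φ₃ F γ') (φ₃ F δ') := by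
  ext a b
  have h2 : φ₃ F 2 = 2 := map_ofNat _ 2
  fin_cases a <;> fin_cases b <;> simp [Pm, h2]

include ax hf hff

lemma G1_grp {x : GL chevG2.Idx F} (hx : x ∈ twistedG2 F e) : x ∈ chevG2.group F :=
  (G1_le ax f hf hff hx).1

/-- The short block on `G¹`. -/
def pG : ↥(twistedG2 F e) →* Matrix (Fin 7) (Fin 7) F :=
  (psi ax).comp (Subgroup.inclusion (fun x hx => G1_grp ax f hf hff hx))

lemma pG_val (x : ↥(twistedG2 F e)) : pG ax f hf hff x = Blk ((x.1 : GL chevG2.Idx F) : Matrix chevG2.Idx chevG2.Idx F) := rfl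

lemma pG_inj : Function.Injective (pG ax f hf hff) := by
  intro x y h
  exact Subtype.ext (eq_of_blk ax (G1_grp ax f hf hff x.2) (G1_grp ax f hf hff y.2) h)

/-- The element of order seven. -/
def sG : ↥(twistedG2 F e) := ⟨xx ax f 0 0 1 * n0 ax * xx ax f 1 1 1,
  Subgroup.mul_mem _ (Subgroup.mul_mem _ (xx_mem ax f hf _ _ _) (n0_mem' ax f hf)) (xx_mem ax f hf _ _ _)⟩

/-- The element of order three. -/
def tG : ↥(twistedG2 F e) := ⟨xx ax f 0 1 0, xx_mem ax f hf _ _ _⟩

lemma pG_a : pG ax f hf hff (aG ax f hf hff) = Dn.map (φ₃ F) := by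
  rw [pG_val, aG_val, aa, blk_tt, Dn_map]

lemma pG_b : pG ax f hf hff (LL ax f hf hff iM) = Bn.map (φ₃ F) := by
  rw [pG_val, blk_LL, PM_iM, Bn, Jm_map]

lemma pG_c : pG ax f hf hff (LL ax f hf hff jM) = Cn.map (φ₃ F) := by
  rw [pG_val, blk_LL, PM_apply, Cn, Pm_map]
  simp [jM]

lemma pG_s : pG ax f hf hff (sG ax f hf) = Sn.map (φ₃ F) := by
  rw [pG_val, Sn, hmm, hmm, Rm_map, Rm_map, Jm_map]
  show Blk (((xx ax f 0 0 1 * n0 ax * xx ax f 1 1 1 : GL chevG2.Idx F)) : Matrix chevG2.Idx chevG2.Idx F) = _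
  have hx : ∀ t u v : F, xx ax f t u v ∈ chevG2.group F := fun t u v => UU_mem ax _ _ _ _ _ _
  rw [blk_mul' ax (hx _ _ _), blk_mul' ax (n0_mem ax), blk_n0]
  simp only [xx, blk_UU, map_one, map_zero]

lemma pG_t : pG ax f hf hff (tG ax f hf) = Tn.map (φ₃ F) := by
  rw [pG_val, Tn, Rm_map]
  show Blk (((xx ax f 0 1 0 : GL chevG2.Idx F)) : Matrix chevG2.Idx chevG2.Idx F) = _
  simp only [xx, blk_UU, map_one, map_zero]

lemma rel_s_a : sG ax f hf * aG ax f hf hff = LL ax f hf hff iM * LL ax f hf hff jM * sG ax f hf := by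
  apply pG_inj ax f hf hff
  simp only [map_mul, pG_a, pG_b, pG_c, pG_s, ← hmm]
  rw [num1]

lemma rel_s_b : sG ax f hf * LL ax f hf hff iM = aG ax f hf hff * LL ax f hf hff iM * sG ax f hf := by
  apply pG_inj ax f hf hff
  simp only [map_mul, pG_a, pG_b, pG_c, pG_s, ← hmm]
  rw [num2]

lemma rel_s_c : sG ax f hf * LL ax f hf hff jM = aG ax f hf hff * LL ax f hf hff iM * LL ax f hf hff jM * sG ax f hf := by
  apply pG_inj ax f hf hff
  simp only [map_mul, pG_a, pG_b, pG_c, pG_s, ← hmm]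
  rw [num3]

lemma s_pow : sG ax f hf ^ 7 = 1 := by
  apply pG_inj ax f hf hff
  rw [map_pow, pG_s, ← hpow, num4, map_one]
  simp

lemma rel_t_a : tG ax f hf * aG ax f hf hff = aG ax f hf hff * tG ax f hf := by
  apply pG_inj ax f hf hff
  simp only [map_mul, pG_a, pG_t, ← hmm]
  rw [num5]

lemma rel_t_b : tG ax f hf * LL ax f hf hff iM = LL ax f hf hff jM * tG ax f hf := by
  apply pG_inj ax f hf hff
  simp only [map_mul, pG_b, pG_c, pG_t, ← hmm]
  rw [num6]

lemma rel_t_c : tG ax f hf * LL ax f hf hff jM = LL ax f hf hff iM * LL ax f hf hff jM * tG ax f hf := by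
  apply pG_inj ax f hf hff
  simp only [map_mul, pG_b, pG_c, pG_t, ← hmm]
  rw [num7]

lemma t_pow : tG ax f hf ^ 3 = 1 := by
  apply pG_inj ax f hf hff
  rw [map_pow, pG_t, ← hpow, num8, map_one]
  simp

lemma s_ne : sG ax f hf ≠ 1 := by
  intro h
  have h1 := pG_s ax f hf hff
  rw [h, map_one] at h1
  have h2 : (1 : Matrix (Fin 7) (Fin 7) F) 0 6 = (Sn.map (φ₃ F)) 0 6 := congrFun (congrFun h1 0) 6
  have h3 : Sn 0 6 = -1 := by decide +kernel
  rw [Matrix.map_apply, h3, Matrix.one_apply_ne (by decide)] at h2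
  simp at h2

lemma t_ne : tG ax f hf ≠ 1 := by
  intro h
  have h1 := pG_t ax f hf hff
  rw [h, map_one] at h1
  have h2 : (1 : Matrix (Fin 7) (Fin 7) F) 4 0 = (Tn.map (φ₃ F)) 4 0 := congrFun (congrFun h1 4) 0
  have h3 : Tn 4 0 = 1 := by decide +kernel
  rw [Matrix.map_apply, h3, Matrix.one_apply_ne (by decide)] at h2
  simp at h2

omit ax hf hff in
lemma mul_entry (x y : SL(2, F)) (a b : Fin 2) : (x * y).1 a b = x.1 a 0 * y.1 0 b + x.1 a 1 * y.1 1 b := by
  show (x.1 * y.1) a b = _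
  rw [Matrix.mul_apply, Fin.sum_univ_two]

omit ax hf hff in
/-- The centraliser in `SL₂` of the quaternion group modulo the centre. -/
lemma ij_form {g : SL(2, F)} (h1 : g * iM = iM * g ∨ g * iM = mOne * (iM * g))
    (h2 : g * jM = jM * g ∨ g * jM = mOne * (jM * g)) :
    g = 1 ∨ g = mOne ∨ g = iM ∨ g = mOne * iM ∨ g = jM ∨ g = mOne * jM ∨ g = iM * jM ∨ g = mOne * (iM * jM) := by
  have h3 : (3 : F) = 0 := three_eq_zero
  have hdet := Cfsg.Agent.Lib.Chev.SL2.det_eq g
  have i00 : (iM : SL(2, F)).1 0 0 = 0 := rfl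
  have i01 : (iM : SL(2, F)).1 0 1 = 1 := rfl
  have i10 : (iM : SL(2, F)).1 1 0 = -1 := rfl
  have i11 : (iM : SL(2, F)).1 1 1 = 0 := rfl
  have j00 : (jM : SL(2, F)).1 0 0 = 1 := rfl
  have j01 : (jM : SL(2, F)).1 0 1 = 1 := rfl
  have j10 : (jM : SL(2, F)).1 1 0 = 1 := rfl
  have j11 : (jM : SL(2, F)).1 1 1 = -1 := rfl
  have m00 : (mOne : SL(2, F)).1 0 0 = -1 := rfl
  have m01 : (mOne : SL(2, F)).1 0 1 = 0 := rfl
  have m10 : (mOne : SL(2, F)).1 1 0 = 0 := rfl
  have m11 : (mOne : SL(2, F)).1 1 1 = -1 := rfl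
  have ext2 : ∀ x : SL(2, F), g.1 0 0 = x.1 0 0 → g.1 0 1 = x.1 0 1 → g.1 1 0 = x.1 1 0 → g.1 1 1 = x.1 1 1 → g = x := by
    intro x e00 e01 e10 e11
    apply Subtype.ext
    ext a b
    fin_cases a <;> fin_cases b <;> assumption
  set p := g.1 0 0 with hp
  set q := g.1 0 1 with hq
  set r := g.1 1 0 with hr
  set s := g.1 1 1 with hs
  have sqr : ∀ x : F, x * x = 1 → x = 1 ∨ x = -1 := fun x h => mul_self_eq_one_iff.mp h
  have two_zero : ∀ x : F, x + x = 0 → x = 0 := by
    intro x hx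
    linear_combination (-1 : F) * hx + x * h3
  have ent : ∀ {x y : SL(2, F)} (a b : Fin 2), x = y → x.1 a b = y.1 a b := by
    rintro x y a b rfl
    rfl
  have gi00 : (g * iM).1 0 0 = -q := by
    rw [mul_entry, i00, i10, ← hp, ← hq]; ring
  have gi01 : (g * iM).1 0 1 = p := by
    rw [mul_entry, i01, i11, ← hp, ← hq]; ring
  have ig00 : (iM * g).1 0 0 = r := by
    rw [mul_entry, i00, i01, ← hp, ← hr]; ring
  have ig01 : (iM * g).1 0 1 = s := by
    rw [mul_entry, i00, i01, ← hq, ← hs]; ring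
  have ig10 : (iM * g).1 1 0 = -p := by
    rw [mul_entry, i10, i11, ← hp, ← hr]; ring
  have ig11 : (iM * g).1 1 1 = -q := by
    rw [mul_entry, i10, i11, ← hq, ← hs]; ring
  have mig00 : (mOne * (iM * g)).1 0 0 = -r := by
    rw [mul_entry, m00, m01, ig00, ig10]; ring
  have mig01 : (mOne * (iM * g)).1 0 1 = -s := by
    rw [mul_entry, m00, m01, ig01, ig11]; ring
  have gj00 : (g * jM).1 0 0 = p + q := by
    rw [mul_entry, j00, j10, ← hp, ← hq]; ring
  have gj01 : (g * jM).1 0 1 = p - q := by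
    rw [mul_entry, j01, j11, ← hp, ← hq]; ring
  have jg00 : (jM * g).1 0 0 = p + r := by
    rw [mul_entry, j00, j01, ← hp, ← hr]; ring
  have jg01 : (jM * g).1 0 1 = q + s := by
    rw [mul_entry, j00, j01, ← hq, ← hs]; ring
  have jg10 : (jM * g).1 1 0 = p - r := by
    rw [mul_entry, j10, j11, ← hp, ← hr]; ring
  have jg11 : (jM * g).1 1 1 = q - s := by
    rw [mul_entry, j10, j11, ← hq, ← hs]; ring
  have mjg00 : (mOne * (jM * g)).1 0 0 = -(p + r) := by
    rw [mul_entry, m00, m01, jg00, jg10]; ring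
  have mjg01 : (mOne * (jM * g)).1 0 1 = -(q + s) := by
    rw [mul_entry, m00, m01, jg01, jg11]; ring
  have one00 : (1 : SL(2, F)).1 0 0 = 1 := by simp
  have one01 : (1 : SL(2, F)).1 0 1 = 0 := by simp
  have one10 : (1 : SL(2, F)).1 1 0 = 0 := by simp
  have one11 : (1 : SL(2, F)).1 1 1 = 1 := by simp
  rcases h1 with h1 | h1 <;> rcases h2 with h2 | h2
  · -- `g` is central
    have e1 := ent 0 0 h1
    have e2 := ent 0 1 h1
    have e3 := ent 0 0 h2
    have e4 := ent 0 1 h2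
    rw [gi00, ig00] at e1
    rw [gi01, ig01] at e2
    rw [gj00, jg00] at e3
    rw [gj01, jg01] at e4
    have hq0 : q = 0 := two_zero q (by linear_combination e3 - e1)
    have hr0 : r = 0 := by rw [← e1, hq0]; simp
    have hs0 : s = p := e2.symm
    rw [hq0, hr0, hs0] at hdet
    rcases sqr p (by linear_combination hdet) with h5 | h5
    · left
      refine ext2 1 ?_ ?_ ?_ ?_
      · rw [h5, one00]
      · rw [hq0, one01]
      · rw [hr0, one10]
      · rw [hs0, h5, one11]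
    · right; left
      refine ext2 mOne ?_ ?_ ?_ ?_
      · rw [h5, m00]
      · rw [hq0, m01]
      · rw [hr0, m10]
      · rw [hs0, h5, m11]
  · have e1 := ent 0 0 h1
    have e2 := ent 0 1 h1
    have e3 := ent 0 0 h2
    have e4 := ent 0 1 h2
    rw [gi00, ig00] at e1
    rw [gi01, ig01] at e2
    rw [gj00, mjg00] at e3
    rw [gj01, mjg01] at e4
    have hp0 : p = 0 := two_zero p (by linear_combination e4 + e2)
    have hs0 : s = 0 := by rw [← e2, hp0]
    have hr0 : r = -q := e1.symm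
    rw [hp0, hs0, hr0] at hdet
    rcases sqr q (by linear_combination hdet) with h5 | h5
    · right; right; left
      refine ext2 iM ?_ ?_ ?_ ?_
      · rw [hp0, i00]
      · rw [h5, i01]
      · rw [hr0, h5, i10]
      · rw [hs0, i11]
    · right; right; right; left
      refine ext2 (mOne * iM) ?_ ?_ ?_ ?_
      · rw [hp0, mul_entry, m00, m01, i00, i10]; ring
      · rw [h5, mul_entry, m00, m01, i01, i11]; ring
      · rw [hr0, h5, mul_entry, m10, m11, i00, i10]; ring
      · rw [hs0, mul_entry, m10, m11, i01, i11]; ring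
  · have e1 := ent 0 0 h1
    have e2 := ent 0 1 h1
    have e3 := ent 0 0 h2
    have e4 := ent 0 1 h2
    rw [gi00, mig00] at e1
    rw [gi01, mig01] at e2
    rw [gj00, jg00] at e3
    rw [gj01, jg01] at e4
    have hqr : q = r := by linear_combination (-1 : F) * e1
    have hs' : s = -p := by linear_combination e2
    have hpq : p = q := by
      have : (p - q) + (p - q) = 0 := by linear_combination e4 + hs'
      have := two_zero _ this
      linear_combination this
    rcases sqr q (by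
        rw [hs', ← hqr, hpq] at hdet
        linear_combination hdet + q * q * h3) with h5 | h5
    · right; right; right; right; left
      refine ext2 jM ?_ ?_ ?_ ?_
      · rw [hpq, h5, j00]
      · rw [h5, j01]
      · rw [← hqr, h5, j10]
      · rw [hs', hpq, h5, j11]
    · right; right; right; right; right; left
      refine ext2 (mOne * jM) ?_ ?_ ?_ ?_
      · rw [hpq, h5, mul_entry, m00, m01, j00, j10]; ring
      · rw [h5, mul_entry, m00, m01, j01, j11]; ring
      · rw [← hqr, h5, mul_entry, m10, m11, j00, j10]; ring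
      · rw [hs', hpq, h5, mul_entry, m10, m11, j01, j11]; ring
  · have e1 := ent 0 0 h1
    have e2 := ent 0 1 h1
    have e3 := ent 0 0 h2
    have e4 := ent 0 1 h2
    rw [gi00, mig00] at e1
    rw [gi01, mig01] at e2
    rw [gj00, mjg00] at e3
    rw [gj01, mjg01] at e4
    have hqr : q = r := by linear_combination (-1 : F) * e1
    have hs' : s = -p := by linear_combination e2
    have hpq : p = -q := by
      have : (p + q) + (p + q) = 0 := by linear_combination e3 + hqr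
      have := two_zero _ this
      linear_combination this
    have ij00 : ((iM : SL(2, F)) * jM).1 0 0 = 1 := by rw [mul_entry, i00, i01, j00, j10]; ring
    have ij01 : ((iM : SL(2, F)) * jM).1 0 1 = -1 := by rw [mul_entry, i00, i01, j01, j11]; ring
    have ij10 : ((iM : SL(2, F)) * jM).1 1 0 = -1 := by rw [mul_entry, i10, i11, j00, j10]; ring
    have ij11 : ((iM : SL(2, F)) * jM).1 1 1 = -1 := by rw [mul_entry, i10, i11, j01, j11]; ring
    rcases sqr q (by
        rw [hs', ← hqr, hpq] at hdet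
        linear_combination hdet + q * q * h3) with h5 | h5
    · right; right; right; right; right; right; right
      refine ext2 (mOne * (iM * jM)) ?_ ?_ ?_ ?_
      · rw [hpq, h5, mul_entry, m00, m01, ij00, ij10]; ring
      · rw [h5, mul_entry, m00, m01, ij01, ij11]; ring
      · rw [← hqr, h5, mul_entry, m10, m11, ij00, ij10]; ring
      · rw [hs', hpq, h5, mul_entry, m10, m11, ij01, ij11]; ring
    · right; right; right; right; right; right; left
      refine ext2 (iM * jM) ?_ ?_ ?_ ?_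
      · rw [hpq, h5, ij00]; ring
      · rw [h5, ij01]
      · rw [← hqr, h5, ij10]
      · rw [hs', hpq, h5, ij11]; ring

/-- The centraliser of `E`. -/
theorem comm_ij {g : SL(2, F)} (h1 : LL ax f hf hff g * LL ax f hf hff iM = LL ax f hf hff iM * LL ax f hf hff g)
    (h2 : LL ax f hf hff g * LL ax f hf hff jM = LL ax f hf hff jM * LL ax f hf hff g) :
    LL ax f hf hff g ∈ EE (aG ax f hf hff) (LL ax f hf hff iM) (LL ax f hf hff jM) := by
  have hm : LL ax f hf hff (mOne : SL(2, F)) = 1 := (LL_eq_one_iff ax f hf hff).mpr (Or.inr rfl)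
  rw [← map_mul, ← map_mul] at h1 h2
  have hb := b_mem (a := aG ax f hf hff) (b := LL ax f hf hff iM) (c := LL ax f hf hff jM)
  have hc := c_mem (a := aG ax f hf hff) (b := LL ax f hf hff iM) (c := LL ax f hf hff jM)
  rcases ij_form (LL_eq_iff ax f hf hff h1) (LL_eq_iff ax f hf hff h2) with rfl | rfl | rfl | rfl | rfl | rfl | rfl | rfl
  · rw [map_one]; exact Subgroup.one_mem _
  · rw [hm]; exact Subgroup.one_mem _
  · exact hb
  · rw [map_mul, hm, one_mul]; exact hb
  · exact hc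
  · rw [map_mul, hm, one_mul]; exact hc
  · rw [map_mul]; exact Subgroup.mul_mem _ hb hc
  · rw [map_mul, hm, one_mul, map_mul]; exact Subgroup.mul_mem _ hb hc

variable (hns : ∀ l : Fˣ, (∃ ν : Fˣ, l = ν ^ 2) ∨ ∃ ν : Fˣ, l = -ν ^ 2)

include hns in
theorem hC {y : ↥(twistedG2 F e)} (ha : y * aG ax f hf hff = aG ax f hf hff * y)
    (hb : y * LL ax f hf hff iM = LL ax f hf hff iM * y)
    (hc : y * LL ax f hf hff jM = LL ax f hf hff jM * y) :
    y ∈ EE (aG ax f hf hff) (LL ax f hf hff iM) (LL ax f hf hff jM) := by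
  obtain ⟨g, rfl | rfl⟩ := C_le_AL ax f hf hff hns ha.symm
  · exact comm_ij ax f hf hff hb hc
  · have hcomm := aG_comm ax f hf hff
    have key : ∀ z : SL(2, F), aG ax f hf hff * LL ax f hf hff g * LL ax f hf hff z = LL ax f hf hff z * (aG ax f hf hff * LL ax f hf hff g) →
        LL ax f hf hff g * LL ax f hf hff z = LL ax f hf hff z * LL ax f hf hff g := by
      intro z h
      apply mul_left_cancel (a := aG ax f hf hff)
      rw [← mul_assoc, h, ← mul_assoc, ← mul_assoc, hcomm z]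
    exact Subgroup.mul_mem _ a_mem (comm_ij ax f hf hff (key _ hb) (key _ hc))

include hns in
/-- The centraliser and normaliser of the Sylow 2-subgroup. -/
theorem main_E [Finite F] {k : ℕ} (hcard : Nat.card ↥(twistedG2 F e) = 8 * k) (hk : Odd k) :
    Subgroup.centralizer ((EE (aG ax f hf hff) (LL ax f hf hff iM) (LL ax f hf hff jM) : Subgroup _) : Set ↥(twistedG2 F e)) =
        EE (aG ax f hf hff) (LL ax f hf hff iM) (LL ax f hf hff jM) ∧
      Nat.card (Subgroup.normalizer ((EE (aG ax f hf hff) (LL ax f hf hff iM) (LL ax f hf hff jM) : Subgroup _) : Set ↥(twistedG2 F e))) = 168 := by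
  haveI : Fintype F := Fintype.ofFinite F
  haveI : Finite ↥(twistedG2 F e) := inferInstance
  have S := isE8 ax f hf hff
  have ham := a_mem (a := aG ax f hf hff) (b := LL ax f hf hff iM) (c := LL ax f hf hff jM)
  have hbm := b_mem (a := aG ax f hf hff) (b := LL ax f hf hff iM) (c := LL ax f hf hff jM)
  have hcm := c_mem (a := aG ax f hf hff) (b := LL ax f hf hff iM) (c := LL ax f hf hff jM)
  apply S.main hcard hk (fun y ha hb hc => hC ax f hf hff hns ha hb hc)
    (c₇ := sG ax f hf) (d₃ := tG ax f hf)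
  · haveI : Fact (Nat.Prime 7) := ⟨by norm_num⟩
    exact orderOf_eq_prime (s_pow ax f hf hff) (s_ne ax f hf hff)
  · apply S.mem_normalizer_of
    · rw [mul_inv_eq_iff_eq_mul.mpr (rel_s_a ax f hf hff)]
      exact Subgroup.mul_mem _ hbm hcm
    · rw [mul_inv_eq_iff_eq_mul.mpr (rel_s_b ax f hf hff)]
      exact Subgroup.mul_mem _ ham hbm
    · rw [mul_inv_eq_iff_eq_mul.mpr (rel_s_c ax f hf hff)]
      exact Subgroup.mul_mem _ (Subgroup.mul_mem _ ham hbm) hcm
  · haveI : Fact (Nat.Prime 3) := ⟨by norm_num⟩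
    exact orderOf_eq_prime (t_pow ax f hf hff) (t_ne ax f hf hff)
  · apply S.mem_normalizer_of
    · rw [mul_inv_eq_iff_eq_mul.mpr (rel_t_a ax f hf hff)]
      exact ham
    · rw [mul_inv_eq_iff_eq_mul.mpr (rel_t_b ax f hf hff)]
      exact hcm
    · rw [mul_inv_eq_iff_eq_mul.mpr (rel_t_c ax f hf hff)]
      exact Subgroup.mul_mem _ hbm hcm
  · exact rel_t_a ax f hf hff

end Twist

theorem res1157 {K : Type*} [Field K] [Fintype K] {m : ℕ} (hK : Fintype.card K = 3 ^ (2 * m + 1))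
    (S : Sylow 2 ↥(twistedG2 K (3 ^ m))) :
    Subgroup.centralizer ((S : Subgroup ↥(twistedG2 K (3 ^ m))) : Set ↥(twistedG2 K (3 ^ m))) = S ∧
      Nat.card (Subgroup.normalizer ((S : Subgroup ↥(twistedG2 K (3 ^ m))) : Set ↥(twistedG2 K (3 ^ m)))) = 168 := by
  obtain ⟨hc, f, hf, hff, ax, hns⟩ := exists_ctx hK
  haveI := hc
  haveI : Finite ↥(twistedG2 K (3 ^ m)) := inferInstance
  obtain ⟨k, hk, hodd⟩ := card_eq_eight_mul hK
  obtain ⟨h1, h2⟩ := main_E ax f hf hff hns hk hodd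
  exact (isE8 ax f hf hff).main' hk hodd h1 h2 S

end Cfsg.Agent.Lib.ReeG2.L5
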