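import Cfsg.Agent.Lib.ReeG2.Rank1

/-!
# Abstract Ree-type groups: counting fixed points
-/

set_option autoImplicit false
set_option linter.unusedSectionVars false
set_option linter.unusedVariables false
set_option linter.unusedTactic false
set_option linter.unreachableTactic false

namespace Cfsg.Agent.Lib.ReeG2.Ab1

open Cfsg.Agent.Lib.ReeG2.Rank1 Cfsg.Agent.Lib.ReeG2.Rank1.Sp

variable {G : Type*} [Group G] {U H : Subgroup G} {n : G}

/-- The points fixed by an element of `H`. -/
lemma h_smul_pt (S : Sp U H n) {h u : G} (hh : h ∈ H) : h • pt U H n u = pt U H n (h * u * h⁻¹) := by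
  have h2 := ((S.stab_two).mpr hh).2
  have : pt U H n u = u • pt U H n 1 := by
    rw [S.smul_pt, mul_one]
  calc h • pt U H n u = (h * u) • pt U H n 1 := by rw [this, mul_smul]
    _ = ((h * u * h⁻¹) * h) • pt U H n 1 := by
      congr 1
      group
    _ = (h * u * h⁻¹) • h • pt U H n 1 := mul_smul _ _ _
    _ = (h * u * h⁻¹) • pt U H n 1 := by rw [h2]
    _ = _ := by rw [S.smul_pt, mul_one]

variable [Finite G]

/-- The number of fixed points. -/
noncomputable def fc (U H : Subgroup G) (g : G) : ℕ := by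
  classical
  exact (Set.ncard {x : Om U H | g • x = x})

section

variable (S : Sp U H n)
include S

lemma exists_smul_inf (x : Om U H) : ∃ t : G, t • x = inf U H := by
  rcases S.pt_cases x with rfl | ⟨u, hu, rfl⟩
  · exact ⟨1, one_smul _ _⟩
  · refine ⟨n * u⁻¹, ?_⟩
    rw [S.smul_pt, pt, inf, QuotientGroup.eq]
    have e : n * u⁻¹ * u * n = n * n := by group
    rw [e, S.n_sq]
    simp [one_mem]

/-- Stabilisers of points. -/
lemma card_stab_one (x : Om U H) : Nat.card (MulAction.stabilizer G x) = Nat.card (B U H) := by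
  obtain ⟨t, ht⟩ := exists_smul_inf S x
  apply Nat.card_congr
  refine ⟨fun g => ⟨t * g.1 * t⁻¹, ?_⟩, fun g => ⟨t⁻¹ * g.1 * t, ?_⟩, ?_, ?_⟩
  · apply S.smul_inf_eq.mp
    rw [← ht, ← mul_smul]
    simp only [inv_mul_cancel_right]
    rw [mul_smul, MulAction.mem_stabilizer_iff.mp g.2]
  · rw [MulAction.mem_stabilizer_iff, mul_smul, mul_smul, ht, S.smul_inf_eq.mpr g.2, ← ht, inv_smul_smul]
  · intro g
    apply Subtype.ext
    show t⁻¹ * (t * g.1 * t⁻¹) * t = g.1
    group
  · intro g
    apply Subtype.ext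
    show t * (t⁻¹ * g.1 * t) * t⁻¹ = g.1
    group

/-- Two point stabilisers. -/
lemma card_stab_two {x y : Om U H} (hxy : x ≠ y) :
    Nat.card {g : G // g • x = x ∧ g • y = y} = Nat.card H := by
  obtain ⟨t, ht, ht'⟩ := S.two_trans hxy
  apply Nat.card_congr
  refine ⟨fun g => ⟨t * g.1 * t⁻¹, ?_⟩, fun g => ⟨t⁻¹ * g.1 * t, ?_, ?_⟩, ?_, ?_⟩
  · apply S.stab_two.mp
    constructor
    · rw [← ht, ← mul_smul]
      simp only [inv_mul_cancel_right]
      rw [mul_smul, g.2.1]
    · rw [← ht', ← mul_smul]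
      simp only [inv_mul_cancel_right]
      rw [mul_smul, g.2.2]
  · rw [mul_smul, mul_smul, ht, ((S.stab_two).mpr g.2).1, ← ht, inv_smul_smul]
  · rw [mul_smul, mul_smul, ht', ((S.stab_two).mpr g.2).2, ← ht', inv_smul_smul]
  · intro g
    apply Subtype.ext
    show t⁻¹ * (t * g.1 * t⁻¹) * t = g.1
    group
  · intro g
    apply Subtype.ext
    show t * (t⁻¹ * g.1 * t) * t⁻¹ = g.1
    group

/-- The two sums: `∑ fix(g) = |G|` and `∑ fix(g)² = |G| + |Ω|(|Ω|-1)|H|`. -/
theorem sums (hq : Nat.card (Om U H) = Nat.card U + 1) :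
    (∑ᶠ g : G, fc U H g) = Nat.card G ∧
    (∑ᶠ g : G, fc U H g ^ 2) = Nat.card G + (Nat.card U + 1) * Nat.card U * Nat.card H := by
  classical
  letI := Fintype.ofFinite G
  letI := Fintype.ofFinite (Om U H)
  have hfc : ∀ g : G, fc U H g = (Finset.univ.filter (fun x : Om U H => g • x = x)).card := by
    intro g
    rw [fc, ← Set.ncard_coe_finset]
    congr 1
    ext x
    simp
  have hcardB : Nat.card G = Nat.card (B U H) * (Nat.card U + 1) := by
    rw [← hq]
    exact (Subgroup.card_mul_index (B U H)).symm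
  have hst : ∀ x : Om U H, (Finset.univ.filter (fun g : G => g • x = x)).card = Nat.card (B U H) := by
    intro x
    rw [← card_stab_one S x]
    symm
    apply Nat.subtype_card
    intro g
    simp [MulAction.mem_stabilizer_iff]
  have hst2 : ∀ x y : Om U H, x ≠ y → (Finset.univ.filter (fun g : G => g • x = x ∧ g • y = y)).card = Nat.card H := by
    intro x y hxy
    rw [← card_stab_two S hxy]
    symm
    apply Nat.subtype_card
    intro g
    simp
  rw [finsum_eq_sum_of_fintype, finsum_eq_sum_of_fintype]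
  constructor
  · have h := Finset.sum_card_bipartiteAbove_eq_sum_card_bipartiteBelow (fun (g : G) (p : Om U H) => g • p = p)
      (s := Finset.univ) (t := Finset.univ)
    simp only [Finset.bipartiteAbove, Finset.bipartiteBelow] at h
    simp_rw [hfc]
    rw [h, Finset.sum_congr rfl (fun p _ => hst p), Finset.sum_const, Finset.card_univ, smul_eq_mul,
      ← Nat.card_eq_fintype_card, hq, hcardB, mul_comm]
  · have h := Finset.sum_card_bipartiteAbove_eq_sum_card_bipartiteBelow
      (fun (g : G) (p : Om U H × Om U H) => g • p.1 = p.1 ∧ g • p.2 = p.2)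
      (s := Finset.univ) (t := Finset.univ)
    simp only [Finset.bipartiteAbove, Finset.bipartiteBelow] at h
    have e1 : ∀ g : G, fc U H g ^ 2 = (Finset.univ.filter (fun p : Om U H × Om U H => g • p.1 = p.1 ∧ g • p.2 = p.2)).card := by
      intro g
      rw [hfc, pow_two, ← Finset.card_product]
      congr 1
      ext ⟨x, y⟩
      simp
    simp_rw [e1]
    rw [h]
    have e2 : ∀ p : Om U H × Om U H, (Finset.univ.filter (fun g : G => g • p.1 = p.1 ∧ g • p.2 = p.2)).card =
        if p.1 = p.2 then Nat.card (B U H) else Nat.card H := by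
      rintro ⟨x, y⟩
      by_cases hxy : x = y
      · subst hxy
        simp only [and_self, if_true]
        exact hst x
      · simp only [hxy, if_false]
        exact hst2 x y hxy
    rw [Finset.sum_congr rfl (fun p _ => e2 p), Fintype.sum_prod_type]
    have e3 : ∀ x : Om U H, ∑ y : Om U H, (if x = y then Nat.card (B U H) else Nat.card H) =
        Nat.card (B U H) + (Nat.card U) * Nat.card H := by
      intro x
      rw [← Finset.add_sum_erase Finset.univ _ (Finset.mem_univ x)]
      simp only [if_true]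
      congr 1
      rw [Finset.sum_congr rfl (fun y hy => if_neg (Ne.symm (Finset.ne_of_mem_erase hy))), Finset.sum_const,
        Finset.card_erase_of_mem (Finset.mem_univ _), Finset.card_univ, smul_eq_mul, ← Nat.card_eq_fintype_card, hq]
      simp
    rw [Finset.sum_congr rfl (fun x _ => e3 x), Finset.sum_const, Finset.card_univ, smul_eq_mul,
      ← Nat.card_eq_fintype_card, hq, hcardB]
    ring

end

/-- The data of an abstract Ree-type group. -/
structure Rd (U H M A : Subgroup G) (n a : G) (m : ℕ) : Prop where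
  S : Sp U H n
  hm : 1 ≤ m
  cardU : Nat.card U = (3 ^ (2 * m + 1)) ^ 3
  cardH : Nat.card H = 3 ^ (2 * m + 1) - 1
  cycH : IsCyclic H
  a_H : a ∈ H
  a_ne : a ≠ 1
  a_sq : a * a = 1
  n_inv : ∀ h ∈ H, n * h * n = h⁻¹
  fix3 : ∀ h ∈ H, ∀ u ∈ U, u ≠ 1 → h * u = u * h → h = 1 ∨ h = a
  CUa : Nat.card (U ⊓ Subgroup.centralizer {a} : Subgroup G) = 3 ^ (2 * m + 1)
  CUa3 : ∀ u ∈ U, u * a = a * u → u ^ 3 = 1
  U9 : ∀ u ∈ U, u ^ 9 = 1
  Ca : Nat.card (Subgroup.centralizer {a}) = 3 ^ (2 * m + 1) * ((3 ^ (2 * m + 1)) ^ 2 - 1)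
  inv_conj : ∀ t : G, t * t = 1 → t ≠ 1 → ∃ x, t = x * a * x⁻¹
  M_comm : ∀ x ∈ M, ∀ y ∈ M, x * y = y * x
  M_card : Nat.card M = 3 ^ (2 * m + 1) + 1
  M_exp : ∀ x ∈ M, x ^ ((3 ^ (2 * m + 1) + 1) / 2) = 1
  M_C : ∀ w ∈ M, Odd (orderOf w) → w ≠ 1 → Subgroup.centralizer {w} = M
  M_N : Nat.card (Subgroup.normalizer (M : Set G)) = 6 * (3 ^ (2 * m + 1) + 1)
  M_V : {x : G | x ∈ M ∧ x * x = 1}.ncard = 4
  no4 : ∀ g : G, g ^ 4 = 1 → g * g = 1
  A_cyc : IsCyclic A
  A_card : Nat.card A = (3 ^ (2 * m + 1) + 1) / 4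
  A_iff : ∀ x : G, x ∈ A ↔ x ∈ M ∧ x ^ ((3 ^ (2 * m + 1) + 1) / 4) = 1
  hY : ∀ (x : G) (p : ℕ), p.Prime → orderOf x = p → p ∣ (3 ^ (2 * m + 1)) ^ 2 + 1 - 3 ^ (2 * m + 1) →
    Nat.Coprime (Nat.card (Subgroup.centralizer {x})) (3 ^ (2 * m + 1) - 1) →
    IsCyclic (Subgroup.centralizer {x}) ∧
      Nat.card (Subgroup.normalizer ((Subgroup.centralizer {x} : Subgroup G) : Set G)) ≤ 6 * Nat.card (Subgroup.centralizer {x})

section

variable {M A : Subgroup G} {a : G} {m : ℕ} (R : Rd U H M A n a m)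
include R

/-- Three fixed points. -/
lemma fix_three {g : G} {x y z : Om U H} (hxy : x ≠ y) (hxz : x ≠ z) (hyz : y ≠ z) (h1 : g • x = x) (h2 : g • y = y)
    (h3 : g • z = z) : g = 1 ∨ ∃ t, g = t * a * t⁻¹ := by
  have S := R.S
  obtain ⟨t, ht, ht'⟩ := S.two_trans hxy
  have hz : t • z ≠ inf U H := by
    intro e
    exact hxz (MulAction.injective t (ht.trans e.symm))
  have hz' : t • z ≠ pt U H n 1 := by
    intro e
    exact hyz (MulAction.injective t (ht'.trans e.symm))
  rcases S.pt_cases (t • z) with e | ⟨u, hu, e⟩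
  · exact absurd e hz
  have hu1 : u ≠ 1 := by
    rintro rfl
    exact hz' e
  have e1 : (t * g * t⁻¹) • inf U H = inf U H := by
    rw [← ht, ← mul_smul]
    simp only [inv_mul_cancel_right]
    rw [mul_smul, h1]
  have e2 : (t * g * t⁻¹) • pt U H n 1 = pt U H n 1 := by
    rw [← ht', ← mul_smul]
    simp only [inv_mul_cancel_right]
    rw [mul_smul, h2]
  have e3 : (t * g * t⁻¹) • pt U H n u = pt U H n u := by
    rw [← e, ← mul_smul]
    simp only [inv_mul_cancel_right]
    rw [mul_smul, h3]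
  obtain ⟨h4, h5⟩ := (S.stab_three hu).mp ⟨e1, e2, e3⟩
  rcases R.fix3 _ h4 u hu hu1 h5 with h6 | h6
  · left
    have : g = t⁻¹ * (t * g * t⁻¹) * t := by group
    rw [this, h6]
    group
  · right
    refine ⟨t⁻¹, ?_⟩
    have : g = t⁻¹ * (t * g * t⁻¹) * t := by group
    rw [this, h6]
    group

lemma fc_one : fc U H (1 : G) = (3 ^ (2 * m + 1)) ^ 3 + 1 := by
  have S := R.S
  haveI : Finite U := inferInstance
  rw [fc]
  simp only [one_smul, Set.setOf_true, Set.ncard_univ]
  rw [S.card_Om, R.cardU]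

lemma fc_a : fc U H a = 3 ^ (2 * m + 1) + 1 := by
  have S := R.S
  classical
  rw [fc, ← R.CUa, ← Finite.card_option, ← Nat.card_coe_set_eq]
  apply Nat.card_congr
  symm
  let φ : Option ↥(U ⊓ Subgroup.centralizer {a}) → {x : Om U H | a • x = x} := fun o =>
    o.elim ⟨inf U H, S.smul_inf_eq.mpr (H_le_B R.a_H)⟩ (fun u => ⟨pt U H n u.1, by
      show a • pt U H n u.1 = pt U H n u.1
      rw [h_smul_pt S R.a_H]
      congr 1
      have : u.1 * a = a * u.1 := Subgroup.mem_centralizer_singleton_iff.mp u.2.2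
      rw [← this]
      group⟩)
  refine Equiv.ofBijective φ ⟨?_, ?_⟩
  · rintro (_ | u) (_ | u') e
    · rfl
    · exact absurd (congrArg Subtype.val e).symm (S.inf_ne_pt u'.2.1)
    · exact absurd (congrArg Subtype.val e) (S.inf_ne_pt u.2.1)
    · have := S.pt_inj u.2.1 u'.2.1 (congrArg Subtype.val e)
      congr 1
      exact Subtype.ext this
  · rintro ⟨x, hx⟩
    rcases S.pt_cases x with rfl | ⟨u, hu, rfl⟩
    · exact ⟨none, rfl⟩
    · have hx' : a • pt U H n u = pt U H n u := hx
      rw [h_smul_pt S R.a_H] at hx'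
      have e := S.pt_inj (S.H_U a R.a_H u hu) hu hx'
      have e' : u * a = a * u := by
        rw [mul_inv_eq_iff_eq_mul] at e
        exact e.symm
      exact ⟨some ⟨u, hu, Subgroup.mem_centralizer_singleton_iff.mpr e'⟩, rfl⟩

omit R in
lemma fc_conj (g t : G) : fc U H (t * g * t⁻¹) = fc U H g := by
  rw [fc, fc, ← Nat.card_coe_set_eq, ← Nat.card_coe_set_eq]
  apply Nat.card_congr
  refine ⟨fun x => ⟨t⁻¹ • x.1, ?_⟩, fun x => ⟨t • x.1, ?_⟩, ?_, ?_⟩
  · have h := x.2
    show g • t⁻¹ • x.1 = t⁻¹ • x.1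
    have h1 : (t * g * t⁻¹) • x.1 = x.1 := h
    have h2 : g • t⁻¹ • x.1 = t⁻¹ • (t * g * t⁻¹) • x.1 := by
      simp [mul_smul]
    rw [h2, h1]
  · have h : g • x.1 = x.1 := x.2
    show (t * g * t⁻¹) • t • x.1 = t • x.1
    rw [← mul_smul]
    simp only [inv_mul_cancel_right]
    rw [mul_smul, h]
  · intro x
    apply Subtype.ext
    simp
  · intro x
    apply Subtype.ext
    simp

lemma fc_inv {t : G} (h1 : t * t = 1) (h2 : t ≠ 1) : fc U H t = 3 ^ (2 * m + 1) + 1 := by
  obtain ⟨x, rfl⟩ := R.inv_conj t h1 h2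
  rw [fc_conj, fc_a R]

lemma fc_le {g : G} (h1 : g ≠ 1) (h2 : g * g ≠ 1) : fc U H g ≤ 2 := by
  classical
  by_contra hlt
  push Not at hlt
  rw [fc] at hlt
  obtain ⟨x, hx, y, hy, z, hz, hxy, hxz, hyz⟩ := (Set.two_lt_ncard (Set.toFinite _)).mp hlt
  rcases fix_three R hxy hxz hyz hx hy hz with h | ⟨t, rfl⟩
  · exact h1 h
  · apply h2
    have : t * a * t⁻¹ * (t * a * t⁻¹) = t * (a * a) * t⁻¹ := by group
    rw [this, R.a_sq]
    group

/-- The fixed point free elements. -/
def F0 (U H : Subgroup G) : Set G := {g | ∀ x : Om U H, g • x ≠ x}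

/-- The involutions. -/
def Inv (G : Type*) [Group G] : Set G := {g | g * g = 1 ∧ g ≠ 1}

omit R in
lemma fc_eq_zero_iff {g : G} : fc U H g = 0 ↔ g ∈ F0 U H := by
  rw [fc, Set.ncard_eq_zero (Set.toFinite _)]
  constructor
  · intro h x hx
    have : x ∈ ({x : Om U H | g • x = x}) := hx
    rw [h] at this
    exact this
  · intro h
    ext x
    simp only [Set.mem_setOf_eq, Set.mem_empty_iff_false, iff_false]
    exact h x

/-- The counting equation. -/
theorem count0 : 2 * (F0 U H).ncard + 3 ^ (2 * m + 1) * (3 ^ (2 * m + 1) - 1) * (Inv G).ncard +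
    (3 ^ (2 * m + 1)) ^ 3 * ((3 ^ (2 * m + 1)) ^ 3 - 1) = Nat.card G := by
  classical
  letI := Fintype.ofFinite G
  have S := R.S
  haveI : Finite U := inferInstance
  set q := 3 ^ (2 * m + 1) with hq
  have hq1 : 1 ≤ q := Nat.one_le_pow _ _ (by norm_num)
  have hq31 : 1 ≤ q ^ 3 := Nat.one_le_pow _ _ (by omega)
  obtain ⟨hs1, hs2⟩ := sums S (S.card_Om)
  rw [finsum_eq_sum_of_fintype] at hs1 hs2
  have hG := S.card_G
  rw [R.cardU, R.cardH, ← hq] at hG
  rw [R.cardU, R.cardH, ← hq] at hs2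
  have hs3 : (q ^ 3 + 1) * q ^ 3 * (q - 1) = Nat.card G := by
    rw [hG]
    ring
  rw [hs3] at hs2
  -- the pointwise identity
  have hpoint : ∀ g : G, fc U H g ^ 2 + 2 = 3 * fc U H g +
      ((if g ∈ F0 U H then 2 else 0) + (if g ∈ Inv G then q * (q - 1) else 0) + (if g = 1 then q ^ 3 * (q ^ 3 - 1) else 0)) := by
    intro g
    by_cases h1 : g = 1
    · subst h1
      have h2 : (1 : G) ∉ Inv G := fun h => h.2 rfl
      have h3 : (1 : G) ∉ F0 U H := by
        intro h
        exact h (inf U H) (one_smul _ _)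
      simp only [h2, h3, if_true, if_false, fc_one R, ← hq]
      obtain ⟨c, hc⟩ : ∃ c, q ^ 3 = c + 1 := ⟨q ^ 3 - 1, by omega⟩
      rw [hc]
      simp only [Nat.add_sub_cancel]
      ring
    · by_cases h2 : g * g = 1
      · have h3 : g ∈ Inv G := ⟨h2, h1⟩
        have h4 : fc U H g = q + 1 := fc_inv R h2 h1
        have h5 : g ∉ F0 U H := by
          intro h
          rw [← fc_eq_zero_iff, h4] at h
          omega
        simp only [h3, h5, h1, if_true, if_false, h4]
        obtain ⟨c, hc⟩ : ∃ c, q = c + 1 := ⟨q - 1, by omega⟩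
        rw [hc]
        simp only [Nat.add_sub_cancel]
        ring
      · have h3 : g ∉ Inv G := fun h => h2 h.1
        have h4 := fc_le R h1 h2
        by_cases h5 : g ∈ F0 U H
        · have h6 : fc U H g = 0 := fc_eq_zero_iff.mpr h5
          simp [h3, h5, h1, h6]
        · have h6 : fc U H g ≠ 0 := fun h => h5 (fc_eq_zero_iff.mp h)
          simp only [h3, h5, h1, if_false]
          interval_cases (fc U H g)
          · exact absurd rfl h6
          · norm_num
          · norm_num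
  have htotal := Finset.sum_congr (rfl : (Finset.univ : Finset G) = Finset.univ) (fun g _ => hpoint g)
  rw [Finset.sum_add_distrib, Finset.sum_const, Finset.card_univ, smul_eq_mul, hs2, Finset.sum_add_distrib,
    ← Finset.mul_sum, hs1, Finset.sum_add_distrib, Finset.sum_add_distrib] at htotal
  have e1 : ∑ g : G, (if g ∈ F0 U H then 2 else 0) = 2 * (F0 U H).ncard := by
    rw [← Finset.sum_filter, Finset.sum_const, smul_eq_mul, mul_comm]
    congr 1
    rw [← Set.ncard_coe_finset]
    congr 1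
    ext g
    simp
  have e2 : ∑ g : G, (if g ∈ Inv G then q * (q - 1) else 0) = q * (q - 1) * (Inv G).ncard := by
    rw [← Finset.sum_filter, Finset.sum_const, smul_eq_mul, mul_comm]
    congr 1
    rw [← Set.ncard_coe_finset]
    congr 1
    ext g
    simp
  have e3 : ∑ g : G, (if g = 1 then q ^ 3 * (q ^ 3 - 1) else 0) = q ^ 3 * (q ^ 3 - 1) := by
    rw [Finset.sum_ite_eq' Finset.univ (1 : G)]
    simp
  rw [e1, e2, e3] at htotal
  have e4 : Fintype.card G = Nat.card G := (Nat.card_eq_fintype_card).symm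
  rw [e4] at htotal
  omega

/-- The number of involutions. -/
theorem card_Inv : (Inv G).ncard * Nat.card (Subgroup.centralizer {a}) = Nat.card G := by
  classical
  have hsm : ∀ (g y : G), (ConjAct.toConjAct g) • y = g * y * g⁻¹ := fun g y => ConjAct.toConjAct_smul g y
  have horb : MulAction.orbit (ConjAct G) a = Inv G := by
    ext t
    constructor
    · rintro ⟨g, rfl⟩
      obtain ⟨g, rfl⟩ := ConjAct.toConjAct.surjective g
      show (ConjAct.toConjAct g) • a ∈ Inv G
      rw [hsm]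
      refine ⟨?_, ?_⟩
      · have : g * a * g⁻¹ * (g * a * g⁻¹) = g * (a * a) * g⁻¹ := by group
        rw [this, R.a_sq]
        group
      · intro h
        apply R.a_ne
        have : a = g⁻¹ * (g * a * g⁻¹) * g := by group
        rw [this, h]
        group
    · rintro ⟨h1, h2⟩
      obtain ⟨x, rfl⟩ := R.inv_conj t h1 h2
      exact ⟨ConjAct.toConjAct x, (hsm x a)⟩
  have hst : Nat.card (MulAction.stabilizer (ConjAct G) a) = Nat.card (Subgroup.centralizer {a}) := by
    have key : ∀ g : G, ConjAct.toConjAct g ∈ MulAction.stabilizer (ConjAct G) a ↔ g ∈ Subgroup.centralizer {a} := by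
      intro g
      rw [MulAction.mem_stabilizer_iff, hsm, Subgroup.mem_centralizer_singleton_iff, mul_inv_eq_iff_eq_mul]
    apply Nat.card_congr
    refine ⟨fun g => ⟨ConjAct.ofConjAct g.1, (key _).mp (by simpa using g.2)⟩, fun g => ⟨ConjAct.toConjAct g.1, (key _).mpr g.2⟩, ?_, ?_⟩
    · intro g
      rfl
    · intro g
      rfl
  have h1 := Subgroup.card_mul_index (MulAction.stabilizer (ConjAct G) a)
  rw [MulAction.index_stabilizer, horb, hst] at h1
  rw [mul_comm, h1]
  exact Nat.card_congr (ConjAct.ofConjAct (G := G)).toEquiv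

end

end Cfsg.Agent.Lib.ReeG2.Ab1
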