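import Mathlib

/-!
# The torus `F_{q⁶}ˣ × Fˣ` of `GL₇(F)`
-/

set_option autoImplicit false
set_option linter.unusedSectionVars false
set_option linter.unusedVariables false

namespace Cfsg.Agent.Lib.ReeG2.GL7

open scoped MatrixGroups Matrix Pointwise

section general

variable {K : Type*} [Group K] [Finite K] {p : ℕ} [Fact p.Prime]

/-- A subgroup of index prime to `p` contains a Sylow subgroup. -/
theorem exists_sylow_le (H : Subgroup K) (hp : ¬ p ∣ H.index) : ∃ T : Sylow p K, (T : Subgroup K) ≤ H := by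
  obtain ⟨S⟩ : Nonempty (Sylow p H) := inferInstance
  have hT : IsPGroup p (S.1.map H.subtype) := S.isPGroup'.map H.subtype
  have hidx : ¬ p ∣ (S.1.map H.subtype).index := by
    rw [Subgroup.index_map_subtype, Nat.Prime.dvd_mul (Fact.out)]
    rintro (h | h)
    · exact S.not_dvd_index h
    · exact hp h
  refine ⟨hT.toSylow hidx, ?_⟩
  rw [IsPGroup.toSylow_coe]
  exact Subgroup.map_subtype_le _

/-- Every `p`-subgroup is conjugate into a subgroup of index prime to `p`. -/
theorem exists_conj_le (H : Subgroup K) (hp : ¬ p ∣ H.index) (P : Subgroup K)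
    (hP : IsPGroup p P) : ∃ g : K, ∀ x ∈ P, g⁻¹ * x * g ∈ H := by
  obtain ⟨T, hT⟩ := exists_sylow_le (p := p) H hp
  obtain ⟨S, hPS⟩ := hP.exists_le_sylow
  obtain ⟨g, hg⟩ := MulAction.exists_smul_eq K T S
  refine ⟨g, fun x hx => hT ?_⟩
  have hx' : x ∈ (S : Subgroup K) := hPS hx
  rw [← hg, Sylow.coe_subgroup_smul, Subgroup.mem_smul_pointwise_iff_exists] at hx'
  obtain ⟨s, hs, rfl⟩ := hx'
  have : g⁻¹ * (MulAut.conj g • s) * g = s := by
    simp [MulAut.smul_def, mul_assoc]
  rwa [this]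

/-- If a cyclic subgroup has index prime to `p`, then every `p`-subgroup is cyclic. -/
theorem isCyclic_pGroup (H : Subgroup K) [IsCyclic H] (hp : ¬ p ∣ H.index) (P : Subgroup K)
    (hP : IsPGroup p P) : IsCyclic P := by
  obtain ⟨g, hg⟩ := exists_conj_le H hp P hP
  let f : P →* H := ((MulAut.conj g⁻¹).toMonoidHom.comp P.subtype).codRestrict H (fun x => by
    simpa using hg x x.2)
  refine isCyclic_of_injective f ?_
  intro x y hxy
  have := congrArg (fun z : H => (z : K)) hxy
  simp only [f, MonoidHom.codRestrict_apply, MonoidHom.comp_apply, Subgroup.subtype_apply,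
    MulEquiv.coe_toMonoidHom, MulEquiv.apply_eq_iff_eq] at this
  exact Subtype.ext this

/-- Pull back along an injective homomorphism. -/
theorem isCyclic_pGroup_of_injective {G : Type*} [Group G] (φ : G →* K)
    (hφ : Function.Injective φ) (H : Subgroup K) [IsCyclic H] (hp : ¬ p ∣ H.index)
    (P : Subgroup G) (hP : IsPGroup p P) : IsCyclic P := by
  have h1 : IsCyclic (P.map φ) := isCyclic_pGroup H hp _ (hP.map φ)
  exact isCyclic_of_injective (φ.subgroupMap P)
    (fun x y h => Subtype.ext (hφ (congrArg (fun z : P.map φ => (z : K)) h)))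

end general

section field

variable (F : Type*) [Field F] [Fintype F] [CharP F 3]

instance : Fact (Nat.Prime 3) := ⟨Nat.prime_three⟩

/-- The degree six extension of `F`. -/
abbrev E6 : Type _ := FiniteField.Extension F 3 6

noncomputable instance : Fintype (E6 F) := Fintype.ofFinite _

lemma finrank_E6 : Module.finrank F (E6 F) = 6 := FiniteField.finrank_extension F 3 6

/-- The product algebra. -/
abbrev A7 : Type _ := E6 F × F

lemma finrank_A7 : Module.finrank F (A7 F) = 7 := by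
  rw [Module.finrank_prod, finrank_E6, Module.finrank_self]

/-- A basis of `A7 F` over `F`. -/
noncomputable def bA : Module.Basis (Fin 7) F (A7 F) :=
  Module.finBasisOfFinrankEq F (A7 F) (finrank_A7 F)

/-- The regular representation. -/
noncomputable def iota : A7 F →ₐ[F] Matrix (Fin 7) (Fin 7) F := Algebra.leftMulMatrix (bA F)

lemma iota_injective : Function.Injective (iota F) := Algebra.leftMulMatrix_injective (bA F)

/-- The regular representation on units. -/
noncomputable def iotaU : (A7 F)ˣ →* GL (Fin 7) F := Units.map (iota F).toRingHom.toMonoidHom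

lemma iotaU_injective : Function.Injective (iotaU F) := by
  intro x y h
  have := congrArg (fun z : GL (Fin 7) F => (z : Matrix (Fin 7) (Fin 7) F)) h
  exact Units.ext (iota_injective F this)

@[simp] lemma coe_iotaU (x : (A7 F)ˣ) :
    ((iotaU F x : GL (Fin 7) F) : Matrix (Fin 7) (Fin 7) F) = iota F (x : A7 F) := rfl

/-- The unit `(e, 1)`. -/
noncomputable def iP : (E6 F)ˣ →* (A7 F)ˣ := (MulEquiv.prodUnits.symm.toMonoidHom).comp (MonoidHom.inl _ _)

lemma iP_inj : Function.Injective (iP F) := by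
  intro x y h
  have h1 := congrArg (MulEquiv.prodUnits) h
  simp only [iP, MonoidHom.coe_comp, Function.comp_apply, MonoidHom.inl_apply, MulEquiv.toMonoidHom_eq_coe, MonoidHom.coe_coe, MulEquiv.apply_symm_apply] at h1
  exact (Prod.ext_iff.mp h1).1

/-- The cyclic subgroup `F_{q⁶}ˣ` of `GL₇`. -/
noncomputable def HE : Subgroup (GL (Fin 7) F) := ((iotaU F).comp (iP F)).range

lemma comp_inj : Function.Injective ((iotaU F).comp (iP F)) :=
  (iotaU_injective F).comp (iP_inj F)

instance : IsCyclic (HE F) := by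
  have : IsCyclic (E6 F)ˣ := inferInstance
  exact isCyclic_of_surjective ((iotaU F).comp (iP F)).rangeRestrict ((iotaU F).comp (iP F)).rangeRestrict_surjective

lemma card_E6 : Nat.card (E6 F) = Fintype.card F ^ 6 := by
  rw [FiniteField.natCard_extension, Nat.card_eq_fintype_card]

lemma card_HE : Nat.card (HE F) = Fintype.card F ^ 6 - 1 := by
  have h1 : Nat.card (HE F) = Nat.card (E6 F)ˣ := by
    rw [HE, Nat.card_congr (MonoidHom.ofInjective (comp_inj F)).toEquiv.symm]
  rw [h1, Nat.card_units, card_E6]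

lemma index_HE : (HE F).index * (Fintype.card F ^ 6 - 1) =
    (Fintype.card F ^ 7 - 1) * (Fintype.card F * (Fintype.card F ^ 6 - 1) * ((Fintype.card F ^ 7 - Fintype.card F ^ 2) *
      (Fintype.card F ^ 7 - Fintype.card F ^ 3) * (Fintype.card F ^ 7 - Fintype.card F ^ 4) *
      (Fintype.card F ^ 7 - Fintype.card F ^ 5) * (Fintype.card F ^ 7 - Fintype.card F ^ 6))) := by
  have h1 := Subgroup.card_mul_index (HE F)
  rw [card_HE, Matrix.card_GL_field, Fin.prod_univ_seven] at h1
  simp only [Fin.val_zero, Fin.val_one, Fin.val_two, pow_zero, pow_one] at h1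
  have h3 : ((3 : Fin 7) : ℕ) = 3 := rfl
  have h4 : ((4 : Fin 7) : ℕ) = 4 := rfl
  have h5 : ((5 : Fin 7) : ℕ) = 5 := rfl
  have h6 : ((6 : Fin 7) : ℕ) = 6 := rfl
  rw [h3, h4, h5, h6] at h1
  have e : Fintype.card F ^ 7 - Fintype.card F = Fintype.card F * (Fintype.card F ^ 6 - 1) := by
    rw [Nat.mul_sub, mul_one, pow_succ' _ 6]
  rw [mul_comm, h1, e]
  ring

end field

/-- Arithmetic: a prime `p > 3` dividing `q² - q + 1` does not divide the index. -/
lemma not_dvd_index7 {p q : ℕ} [hp : Fact p.Prime] (hp3 : 3 < p) (hq : 2 ≤ q)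
    (h : p ∣ q ^ 2 + 1 - q) :
    ¬ p ∣ (q ^ 7 - 1) * (q * ((q ^ 7 - q ^ 2) * (q ^ 7 - q ^ 3) * (q ^ 7 - q ^ 4) * (q ^ 7 - q ^ 5) * (q ^ 7 - q ^ 6))) := by
  have hle0 : q ≤ q ^ 2 + 1 := by nlinarith
  have hx0 : ((q : ZMod p)) ^ 2 + 1 - q = 0 := by
    have : ((q ^ 2 + 1 - q : ℕ) : ZMod p) = 0 := (ZMod.natCast_eq_zero_iff _ _).2 h
    rw [Nat.cast_sub hle0] at this
    push_cast at this
    exact this
  have h20 : (2 : ZMod p) ≠ 0 := by
    intro h0
    have : ((2 : ℕ) : ZMod p) = 0 := by exact_mod_cast h0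
    rw [ZMod.natCast_eq_zero_iff] at this
    have := Nat.le_of_dvd (by norm_num) this
    omega
  have h30 : (3 : ZMod p) ≠ 0 := by
    intro h0
    have : ((3 : ℕ) : ZMod p) = 0 := by exact_mod_cast h0
    rw [ZMod.natCast_eq_zero_iff] at this
    have := Nat.le_of_dvd (by norm_num) this
    omega
  have hone : (1 : ZMod p) ≠ 0 := one_ne_zero
  intro hd
  have hd' : (((q ^ 7 - 1) * (q * ((q ^ 7 - q ^ 2) * (q ^ 7 - q ^ 3) * (q ^ 7 - q ^ 4) * (q ^ 7 - q ^ 5) * (q ^ 7 - q ^ 6))) : ℕ) : ZMod p) = 0 :=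
    (ZMod.natCast_eq_zero_iff _ _).2 hd
  have hlek : ∀ k, k ≤ 7 → q ^ k ≤ q ^ 7 := fun k hk => Nat.pow_le_pow_right (by omega) hk
  have hle1 : 1 ≤ q ^ 7 := Nat.one_le_pow _ _ (by omega)
  rw [Nat.cast_mul, Nat.cast_mul, Nat.cast_mul, Nat.cast_mul, Nat.cast_mul, Nat.cast_mul, Nat.cast_sub hle1,
    Nat.cast_sub (hlek 2 (by norm_num)), Nat.cast_sub (hlek 3 (by norm_num)), Nat.cast_sub (hlek 4 (by norm_num)),
    Nat.cast_sub (hlek 5 (by norm_num)), Nat.cast_sub (hlek 6 (by norm_num))] at hd'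
  push_cast at hd'
  set x := (q : ZMod p)
  have hx3 : x ^ 3 = -1 := by linear_combination (x + 1) * hx0
  have hx6 : x ^ 6 = 1 := by
    calc x ^ 6 = (x ^ 3) ^ 2 := by ring
      _ = 1 := by rw [hx3]; ring
  have hx7 : x ^ 7 = x := by
    calc x ^ 7 = x ^ 6 * x := by ring
      _ = x := by rw [hx6]; ring
  have hx4 : x ^ 4 = -x := by
    calc x ^ 4 = x ^ 3 * x := by ring
      _ = -x := by rw [hx3]; ring
  have hx5 : x ^ 5 = -x ^ 2 := by
    calc x ^ 5 = x ^ 3 * x ^ 2 := by ring
      _ = -x ^ 2 := by rw [hx3]; ring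
  rw [hx7, hx6, hx5, hx4, hx3] at hd'
  have hne0 : x ≠ 0 := by
    intro h0
    rw [h0] at hx0
    apply hone
    linear_combination hx0
  have hne1 : x - 1 ≠ 0 := by
    intro h0
    have : x = 1 := by linear_combination h0
    rw [this] at hx0
    apply hone
    linear_combination hx0
  have hnem : x + 1 ≠ 0 := by
    intro h0
    have : x = -1 := by linear_combination h0
    rw [this] at hx0
    apply h30
    linear_combination hx0
  have e1 : x - x ^ 2 = -(x * (x - 1)) := by ring
  have e2 : x - -1 = x + 1 := by ring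
  have e3 : x - -x = 2 * x := by ring
  have e4 : x - -x ^ 2 = x * (x + 1) := by ring
  rw [e1, e2, e3, e4] at hd'
  have : (x - 1) * (x * (-(x * (x - 1)) * (x + 1) * (2 * x) * (x * (x + 1)) * (x - 1))) ≠ 0 := by
    have h6 : -(x * (x - 1)) ≠ 0 := neg_ne_zero.mpr (mul_ne_zero hne0 hne1)
    exact mul_ne_zero hne1 (mul_ne_zero hne0 (mul_ne_zero (mul_ne_zero (mul_ne_zero (mul_ne_zero h6 hnem) (mul_ne_zero h20 hne0)) (mul_ne_zero hne0 hnem)) hne1))
  exact this hd'

/-- The index of the cyclic torus is prime to `p`. -/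
theorem not_dvd_index_HE (F : Type*) [Field F] [Fintype F] [CharP F 3] {p : ℕ} [hp : Fact p.Prime] (hp3 : 3 < p)
    (h : p ∣ Fintype.card F ^ 2 + 1 - Fintype.card F) : ¬ p ∣ (HE F).index := by
  have h2 : 2 ≤ Fintype.card F := Fintype.one_lt_card
  have h1 := index_HE F
  have h6 : 1 < Fintype.card F ^ 6 := one_lt_pow₀ (by omega) (by norm_num)
  have h7 : 0 < Fintype.card F ^ 6 - 1 := by omega
  have e : (HE F).index = (Fintype.card F ^ 7 - 1) * (Fintype.card F * ((Fintype.card F ^ 7 - Fintype.card F ^ 2) *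
      (Fintype.card F ^ 7 - Fintype.card F ^ 3) * (Fintype.card F ^ 7 - Fintype.card F ^ 4) *
      (Fintype.card F ^ 7 - Fintype.card F ^ 5) * (Fintype.card F ^ 7 - Fintype.card F ^ 6))) := by
    apply Nat.eq_of_mul_eq_mul_right h7
    rw [h1]
    ring
  rw [e]
  exact not_dvd_index7 hp3 h2 h

end Cfsg.Agent.Lib.ReeG2.GL7
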