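import Cfsg.Agent.Lib.ReeG2.Ab1
import Cfsg.Agent.Lib.ReeG2.GL7

/-!
# Abstract Ree-type groups: classification of the fixed point free elements
-/

set_option autoImplicit false
set_option linter.unusedSectionVars false
set_option linter.unusedVariables false
set_option linter.unusedTactic false
set_option linter.unreachableTactic false

namespace Cfsg.Agent.Lib.ReeG2.Ab2

open Cfsg.Agent.Lib.ReeG2.Rank1 Cfsg.Agent.Lib.ReeG2.Rank1.Sp Cfsg.Agent.Lib.ReeG2.Ab1

section Arith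

/-- Facts about the number `q`. -/
lemma q_facts (m : ℕ) : 3 ^ (2 * m + 1) % 8 = 3 ∧ (3 ^ (2 * m + 1) % 5 = 2 ∨ 3 ^ (2 * m + 1) % 5 = 3) ∧ 3 ^ (2 * m + 1) % 3 = 0 := by
  induction m with
  | zero => norm_num
  | succ k ih =>
    have e : 3 ^ (2 * (k + 1) + 1) = 9 * 3 ^ (2 * k + 1) := by ring
    rw [e]
    omega

lemma q_ge (m : ℕ) (hm : 1 ≤ m) : 27 ≤ 3 ^ (2 * m + 1) := by
  calc 27 = 3 ^ 3 := by norm_num
    _ ≤ 3 ^ (2 * m + 1) := Nat.pow_le_pow_right (by norm_num) (by omega)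

lemma prime_dvd_q {p m : ℕ} (hp : p.Prime) (h : p ∣ 3 ^ (2 * m + 1)) : p = 3 :=
  (Nat.prime_dvd_prime_iff_eq hp Nat.prime_three).mp (hp.dvd_of_dvd_pow h)

lemma D_eq1 (q : ℕ) (hq : 1 ≤ q) : q ^ 2 + 1 - q = q * (q - 1) + 1 := by
  obtain ⟨d, rfl⟩ : ∃ d, q = d + 1 := ⟨q - 1, by omega⟩
  have : (d + 1) ^ 2 + 1 = (d + 1) * d + 1 + (d + 1) := by ring
  simp only [Nat.add_sub_cancel]
  omega

lemma D_eq2 (q : ℕ) (hq : 2 ≤ q) : q ^ 2 + 1 - q = (q + 1) * (q - 2) + 3 := by
  obtain ⟨d, rfl⟩ : ∃ d, q = d + 2 := ⟨q - 2, by omega⟩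
  have : (d + 2) ^ 2 + 1 = (d + 2 + 1) * d + 3 + (d + 2) := by ring
  simp only [Nat.add_sub_cancel]
  omega

/-- A prime dividing `q² - q + 1`. -/
lemma prime_D {p m : ℕ} (hp : p.Prime) (hd : p ∣ (3 ^ (2 * m + 1)) ^ 2 + 1 - 3 ^ (2 * m + 1)) :
    p ≠ 2 ∧ p ≠ 3 ∧ p ≠ 5 ∧ ¬ p ∣ 3 ^ (2 * m + 1) ∧ ¬ p ∣ 3 ^ (2 * m + 1) - 1 ∧ ¬ p ∣ 3 ^ (2 * m + 1) + 1 := by
  obtain ⟨h8, h5, h3⟩ := q_facts m
  set q := 3 ^ (2 * m + 1) with hq
  have hq3 : 3 ≤ q := by
    rw [hq, pow_succ]
    have : 1 ≤ 3 ^ (2 * m) := Nat.one_le_pow _ _ (by norm_num)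
    omega
  have e1 := D_eq1 q (by omega)
  have e2 := D_eq2 q (by omega)
  have hc : ∀ c, Nat.Prime c → c ∣ q ^ 2 + 1 - q → ¬ c ∣ q := by
    intro c hc hcd hcq
    rw [e1] at hcd
    have : c ∣ q * (q - 1) := hcq.mul_right _
    have := (Nat.dvd_add_right this).mp hcd
    exact hc.one_lt.ne' (Nat.dvd_one.mp this)
  have h2' : ¬ p ∣ q - 1 := by
    intro h
    rw [e1] at hd
    have : p ∣ q * (q - 1) := h.mul_left _
    have := (Nat.dvd_add_right this).mp hd
    exact hp.one_lt.ne' (Nat.dvd_one.mp this)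
  have hp2 : p ≠ 2 := by
    rintro rfl
    apply h2'
    have : (q - 1) % 2 = 0 := by omega
    exact Nat.dvd_of_mod_eq_zero this
  have hp3 : p ≠ 3 := by
    rintro rfl
    apply hc 3 Nat.prime_three hd
    exact Nat.dvd_of_mod_eq_zero h3
  have hp5 : p ≠ 5 := by
    rintro rfl
    rw [e2] at hd
    have h6 : ((q + 1) * (q - 2) + 3) % 5 = 0 := Nat.mod_eq_zero_of_dvd hd
    obtain ⟨c, hc⟩ : ∃ c, q = c + 2 := ⟨q - 2, by omega⟩
    rw [hc] at h6 h5
    simp only [Nat.add_sub_cancel] at h6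
    have h7 : (c + 2 + 1) * c + 3 = c * c + 3 * c + 3 := by ring
    rw [h7, Nat.add_mod, Nat.add_mod (c * c), Nat.mul_mod c c, Nat.mul_mod 3 c] at h6
    have h9 : (c + 2) % 5 = 2 ∨ (c + 2) % 5 = 3 := h5
    have h10 : c % 5 = 0 ∨ c % 5 = 1 := by omega
    rcases h10 with h10 | h10 <;> rw [h10] at h6 <;> norm_num at h6
  refine ⟨hp2, hp3, hp5, hc p hp hd, h2', ?_⟩
  intro h
  rw [e2] at hd
  have : p ∣ (q + 1) * (q - 2) := h.mul_right _
  have := (Nat.dvd_add_right this).mp hd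
  exact hp3 ((Nat.prime_dvd_prime_iff_eq hp Nat.prime_three).mp this)

/-- An odd prime dividing `q - 1`. -/
lemma prime_qm {p m : ℕ} (hp : p.Prime) (h2 : p ≠ 2) (hd : p ∣ 3 ^ (2 * m + 1) - 1) :
    p ≠ 3 ∧ ¬ p ∣ 3 ^ (2 * m + 1) ∧ ¬ p ∣ 3 ^ (2 * m + 1) + 1 ∧ ¬ p ∣ (3 ^ (2 * m + 1)) ^ 2 + 1 - 3 ^ (2 * m + 1) := by
  obtain ⟨h8, h5, h3⟩ := q_facts m
  set q := 3 ^ (2 * m + 1) with hq
  have hq3 : 3 ≤ q := by
    rw [hq, pow_succ]
    have : 1 ≤ 3 ^ (2 * m) := Nat.one_le_pow _ _ (by norm_num)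
    omega
  have h3' : ¬ p ∣ q := by
    intro h
    have h4 : p ∣ q - (q - 1) := Nat.dvd_sub h hd
    have h5 : q - (q - 1) = 1 := by omega
    rw [h5] at h4
    exact hp.one_lt.ne' (Nat.dvd_one.mp h4)
  have hp3 : p ≠ 3 := by
    rintro rfl
    exact h3' (Nat.dvd_of_mod_eq_zero h3)
  refine ⟨hp3, h3', ?_, ?_⟩
  · intro h
    have h4 : p ∣ q + 1 - (q - 1) := Nat.dvd_sub h hd
    have h5 : q + 1 - (q - 1) = 2 := by omega
    rw [h5] at h4
    exact h2 ((Nat.prime_dvd_prime_iff_eq hp Nat.prime_two).mp h4)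
  · intro h
    exact (prime_D hp h).2.2.2.2.1 hd

/-- An odd prime dividing `q + 1`. -/
lemma prime_qp {p m : ℕ} (hp : p.Prime) (h2 : p ≠ 2) (hd : p ∣ 3 ^ (2 * m + 1) + 1) :
    p ≠ 3 ∧ ¬ p ∣ 3 ^ (2 * m + 1) ∧ ¬ p ∣ 3 ^ (2 * m + 1) - 1 ∧ ¬ p ∣ (3 ^ (2 * m + 1)) ^ 2 + 1 - 3 ^ (2 * m + 1) := by
  obtain ⟨h8, h5, h3⟩ := q_facts m
  set q := 3 ^ (2 * m + 1) with hq
  have hq3 : 3 ≤ q := by
    rw [hq, pow_succ]
    have : 1 ≤ 3 ^ (2 * m) := Nat.one_le_pow _ _ (by norm_num)
    omega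
  have h3' : ¬ p ∣ q := by
    intro h
    have h4 : p ∣ q + 1 - q := Nat.dvd_sub hd h
    have h5 : q + 1 - q = 1 := by omega
    rw [h5] at h4
    exact hp.one_lt.ne' (Nat.dvd_one.mp h4)
  have hp3 : p ≠ 3 := by
    rintro rfl
    exact h3' (Nat.dvd_of_mod_eq_zero h3)
  refine ⟨hp3, h3', ?_, ?_⟩
  · intro h
    have h4 : p ∣ q + 1 - (q - 1) := Nat.dvd_sub hd h
    have h5 : q + 1 - (q - 1) = 2 := by omega
    rw [h5] at h4
    exact h2 ((Nat.prime_dvd_prime_iff_eq hp Nat.prime_two).mp h4)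
  · intro h
    exact (prime_D hp h).2.2.2.2.2 hd

end Arith

variable {G : Type*} [Group G] [Finite G] {U H M A : Subgroup G} {n a : G} {m : ℕ} (R : Rd U H M A n a m)

include R

/-- The order of the group. -/
lemma card_G : Nat.card G = (3 ^ (2 * m + 1)) ^ 3 * (3 ^ (2 * m + 1) - 1) *
    ((3 ^ (2 * m + 1) + 1) * ((3 ^ (2 * m + 1)) ^ 2 + 1 - 3 ^ (2 * m + 1))) := by
  have S := R.S
  haveI : Finite U := inferInstance
  rw [S.card_G, R.cardU, R.cardH]
  set q := 3 ^ (2 * m + 1) with hq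
  have hq1 : 1 ≤ q := Nat.one_le_pow _ _ (by norm_num)
  congr 1
  have e1 := D_eq1 q hq1
  rw [e1]
  obtain ⟨d, hd⟩ : ∃ d, q = d + 1 := ⟨q - 1, by omega⟩
  rw [hd]
  simp only [Nat.add_sub_cancel]
  ring

omit R in
/-- An element of prime order is conjugate into a subgroup of index prime to that prime. -/
lemma conj_into {s : ℕ} (hs : s.Prime) (K : Subgroup G) (hi : ¬ s ∣ K.index) {w : G} (hw : orderOf w = s) :
    ∃ t : G, t⁻¹ * w * t ∈ K := by
  haveI : Fact s.Prime := ⟨hs⟩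
  have hP : IsPGroup s (Subgroup.zpowers w) := by
    apply IsPGroup.of_card (n := 1)
    rw [Nat.card_zpowers, hw, pow_one]
  obtain ⟨g, hg⟩ := Cfsg.Agent.Lib.ReeG2.GL7.exists_conj_le K hi _ hP
  exact ⟨g, hg w (Subgroup.mem_zpowers w)⟩

/-- Conjugation preserves fixed points. -/
lemma conj_F0 {g : G} (hg : g ∈ F0 U H) (t : G) : t * g * t⁻¹ ∈ F0 U H := by
  intro x hx
  apply hg (t⁻¹ • x)
  have : g • t⁻¹ • x = t⁻¹ • (t * g * t⁻¹) • x := by simp [mul_smul]
  rw [this, hx]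

/-- Something fixed points implies an order. -/
lemma order_dvd_of_fix {g : G} {x : Om U H} (h : g • x = x) : orderOf g ∣ (3 ^ (2 * m + 1)) ^ 3 * (3 ^ (2 * m + 1) - 1) := by
  have S := R.S
  obtain ⟨t, ht⟩ := exists_smul_inf S x
  have h1 : (t * g * t⁻¹) ∈ B U H := by
    apply S.smul_inf_eq.mp
    rw [← ht, ← mul_smul]
    simp only [inv_mul_cancel_right]
    rw [mul_smul, h]
  have h2 := Subgroup.orderOf_dvd_natCard (B U H) h1
  rw [S.card_B, R.cardU, R.cardH] at h2
  have e : t * g * t⁻¹ = MulAut.conj t g := rfl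
  rwa [e, MulEquiv.orderOf_eq] at h2

/-- Elements of `H` with `h² ≠ 1` have at most two fixed points. -/
lemma fix_H {h : G} (hh : h ∈ H) (h2 : h * h ≠ 1) {x : Om U H} (hx : h • x = x) : x = inf U H ∨ x = pt U H n 1 := by
  have S := R.S
  rcases S.pt_cases x with rfl | ⟨u, hu, rfl⟩
  · exact Or.inl rfl
  · right
    rw [h_smul_pt S hh] at hx
    have e := S.pt_inj (S.H_U h hh u hu) hu hx
    have e' : h * u = u * h := by
      rw [mul_inv_eq_iff_eq_mul] at e
      exact e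
    by_cases hu1 : u = 1
    · rw [hu1]
    · rcases R.fix3 h hh u hu hu1 e' with h3 | h3
      · rw [h3] at h2
        simp at h2
      · rw [h3] at h2
        exact absurd R.a_sq h2

/-- The centraliser of an element of `H` with `h² ≠ 1` is in `H`. -/
lemma comm_H {h x : G} (hh : h ∈ H) (h2 : h * h ≠ 1) (hc : x * h = h * x) : x ∈ H := by
  have S := R.S
  haveI : IsCyclic H := R.cycH
  have ⟨hi1, hi2⟩ := (S.stab_two).mpr hh
  have hfix : ∀ y : Om U H, h • y = y → h • (x • y) = x • y := by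
    intro y hy
    rw [← mul_smul, ← hc, mul_smul, hy]
  have hnpt : n • pt U H n 1 = inf U H := by
    rw [S.smul_pt, pt, inf, QuotientGroup.eq]
    have e : n * 1 * n = n * n := by group
    rw [e, S.n_sq]
    simp [one_mem]
  have hninf : n • inf U H = pt U H n 1 := by
    rw [S.smul_inf, pt]
    simp
  have hne : inf U H ≠ pt U H n 1 := (S.inf_ne_pt (one_mem _)).symm
  rcases fix_H R hh h2 (hfix _ hi1) with e1 | e1
  · rcases fix_H R hh h2 (hfix _ hi2) with e2 | e2
    · exact absurd (MulAction.injective x (e1.trans e2.symm)) hne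
    · exact (S.stab_two).mp ⟨e1, e2⟩
  · rcases fix_H R hh h2 (hfix _ hi2) with e2 | e2
    · -- `x` swaps the points
      exfalso
      have h3 : n * x ∈ H := by
        apply (S.stab_two).mp
        constructor
        · rw [mul_smul, e1, hnpt]
        · rw [mul_smul, e2, hninf]
      have e3 : x = n * (n * x) := (S.nn x).symm
      have hn1 : n * h * n = h⁻¹ := R.n_inv h hh
      have e4 : (n * x) * h = h⁻¹ * (n * x) := by
        calc (n * x) * h = n * (h * x) := by rw [mul_assoc, hc]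
          _ = (n * h * n) * (n * x) := by
            have : n * h * n * (n * x) = n * h * (n * n) * x := by group
            rw [this, S.n_sq]
            group
          _ = _ := by rw [hn1]
      have e5 : (n * x) * h = h * (n * x) := by
        have := (IsCyclic.isMulCommutative (α := H)).is_comm.comm (⟨n * x, h3⟩ : H) ⟨h, hh⟩
        exact congrArg Subtype.val this
      rw [e5] at e4
      have e6 : h = h⁻¹ := mul_right_cancel e4
      apply h2
      nth_rewrite 1 [e6]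
      simp
    · exact absurd (MulAction.injective x (e1.trans e2.symm)) hne

omit R in
lemma pow_comm_of {g : G} (k : ℕ) : g * g ^ k = g ^ k * g := (pow_succ' g k).symm.trans (pow_succ g k)

/-- A fixed point free element does not commute with an element of order three. -/
lemma fpf_not_three {g w : G} (hg : g ∈ F0 U H) (hc : g * w = w * g) (hw : orderOf w = 3) : False := by
  have S := R.S
  haveI : Finite U := inferInstance
  have hq8 := q_facts m
  have hidx : ¬ 3 ∣ U.index := by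
    have h1 := Subgroup.card_mul_index U
    rw [R.cardU, card_G R] at h1
    set q := 3 ^ (2 * m + 1) with hq
    have h3 : 0 < q ^ 3 := by positivity
    have h2 : U.index = (q - 1) * ((q + 1) * (q ^ 2 + 1 - q)) := by
      apply Nat.eq_of_mul_eq_mul_left h3
      rw [h1]
      ring
    rw [h2]
    have hp := Nat.prime_three
    rw [hp.dvd_mul, hp.dvd_mul]
    have hmod : q % 3 = 0 := hq8.2.2
    have hq1 : 1 ≤ q := Nat.one_le_pow _ _ (by norm_num)
    rintro (h4 | h4 | h4)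
    · have := Nat.mod_eq_zero_of_dvd h4
      omega
    · have := Nat.mod_eq_zero_of_dvd h4
      omega
    · exact (prime_D hp h4).2.1 rfl
  obtain ⟨t, ht⟩ := conj_into Nat.prime_three U hidx hw
  set u := t⁻¹ * w * t with hu
  have hu1 : u ≠ 1 := by
    intro h
    have : w = t * u * t⁻¹ := by rw [hu]; group
    rw [h] at this
    have h2 : w = 1 := by rw [this]; group
    rw [h2, orderOf_one] at hw
    omega
  have hw' : w = t * u * t⁻¹ := by rw [hu]; group
  set x : Om U H := t • inf U H with hx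
  have e1 : u • inf U H = inf U H := S.smul_inf_eq.mpr (U_le_B ht)
  have e2 : w • x = x := by
    rw [hx, hw', ← mul_smul]
    simp only [inv_mul_cancel_right]
    rw [mul_smul, e1]
  have e3 : w • (g • x) = g • x := by
    rw [← mul_smul, ← hc, mul_smul, e2]
  have e4 : u • (t⁻¹ • (g • x)) = t⁻¹ • (g • x) := by
    have : u • t⁻¹ • (g • x) = t⁻¹ • w • (g • x) := by
      rw [hu]
      simp [mul_smul]
    rw [this, e3]
  have e5 : t⁻¹ • (g • x) = inf U H := by
    by_contra hne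
    exact hu1 (S.U_free ht hne e4)
  apply hg x
  rw [hx]
  have : g • t • inf U H = t • t⁻¹ • g • t • inf U H := by simp
  rw [this]
  rw [← hx, e5]

/-- A fixed point free element does not commute with an element of order a prime dividing `q - 1`. -/
lemma fpf_not_H {g w : G} {s : ℕ} (hs : s.Prime) (h2 : s ≠ 2) (hd : s ∣ 3 ^ (2 * m + 1) - 1) (hg : g ∈ F0 U H)
    (hc : g * w = w * g) (hw : orderOf w = s) : False := by
  have S := R.S
  obtain ⟨h3, h4, h5, h6⟩ := prime_qm hs h2 hd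
  have hidx : ¬ s ∣ H.index := by
    have h1 := Subgroup.card_mul_index H
    rw [R.cardH, card_G R] at h1
    set q := 3 ^ (2 * m + 1) with hq
    have hq3 : 27 ≤ q ∨ q = 3 := by
      rcases Nat.eq_zero_or_pos m with rfl | hm
      · right
        simp [hq]
      · left
        exact q_ge m hm
    have hpos : 0 < q - 1 := by omega
    have h7 : H.index = q ^ 3 * ((q + 1) * (q ^ 2 + 1 - q)) := by
      apply Nat.eq_of_mul_eq_mul_left hpos
      rw [h1]
      ring
    rw [h7, hs.dvd_mul, hs.dvd_mul]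
    rintro (h8 | h8 | h8)
    · exact h4 (hs.dvd_of_dvd_pow h8)
    · exact h5 h8
    · exact h6 h8
  obtain ⟨t, ht⟩ := conj_into hs H hidx hw
  have hne : (t⁻¹ * w * t) * (t⁻¹ * w * t) ≠ 1 := by
    intro h
    have e1 : t⁻¹ * w * t * (t⁻¹ * w * t) = t⁻¹ * (w * w) * t := by group
    rw [e1] at h
    have e2 : w * w = 1 := by
      have : w * w = t * (t⁻¹ * (w * w) * t) * t⁻¹ := by group
      rw [this, h]
      group
    have e3 : orderOf w ∣ 2 := orderOf_dvd_of_pow_eq_one (by rw [pow_two]; exact e2)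
    rw [hw] at e3
    exact h2 ((Nat.prime_dvd_prime_iff_eq hs Nat.prime_two).mp e3)
  have hc' : (t⁻¹ * g * t) * (t⁻¹ * w * t) = (t⁻¹ * w * t) * (t⁻¹ * g * t) := by
    calc (t⁻¹ * g * t) * (t⁻¹ * w * t) = t⁻¹ * (g * w) * t := by group
      _ = t⁻¹ * (w * g) * t := by rw [hc]
      _ = _ := by group
  have hm := comm_H R ht hne hc'
  have h9 := conj_F0 R hg t⁻¹
  rw [inv_inv] at h9
  exact h9 (inf U H) (S.smul_inf_eq.mpr (H_le_B hm))

omit R in
/-- The number of elements of the conjugates of a set meeting its conjugates trivially. -/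
theorem ncard_conj_union (X : Set G) (N : Subgroup G) (hN : ∀ n ∈ N, ∀ x ∈ X, n⁻¹ * x * n ∈ X)
    (hTI : ∀ x ∈ X, ∀ t : G, t * x * t⁻¹ ∈ X → t ∈ N) :
    {y : G | ∃ t : G, ∃ x ∈ X, y = t * x * t⁻¹}.ncard * Nat.card N = Nat.card G * X.ncard := by
  classical
  letI := Fintype.ofFinite G
  set D : Finset G := Finset.univ.filter (fun a => a ∈ X) with hD
  set N' : Finset G := Finset.univ.filter (fun n => n ∈ N) with hN'
  set P : Finset (G × G) := Finset.univ ×ˢ D with hP
  let π : G × G → G := fun x => x.1 * x.2 * x.1⁻¹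
  have himg : ((P.image π : Finset G) : Set G) = {y : G | ∃ t : G, ∃ x ∈ X, y = t * x * t⁻¹} := by
    ext y
    simp only [Finset.coe_image, Set.mem_image, Finset.mem_coe, hP, Finset.mem_product,
      Finset.mem_univ, true_and, hD, Finset.mem_filter, Set.mem_setOf_eq]
    constructor
    · rintro ⟨⟨t, a⟩, ha, rfl⟩
      exact ⟨t, a, ha, rfl⟩
    · rintro ⟨t, a, ha, rfl⟩
      exact ⟨⟨t, a⟩, ha, rfl⟩
  have hfib : ∀ y ∈ P.image π, (P.filter (fun x => π x = y)).card = N'.card := by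
    intro y hy
    obtain ⟨⟨t₀, a₀⟩, hmem, rfl⟩ := Finset.mem_image.1 hy
    simp only [hP, hD, Finset.mem_product, Finset.mem_univ, true_and, Finset.mem_filter] at hmem
    symm
    refine Finset.card_bij (fun n _ => (t₀ * n, n⁻¹ * a₀ * n)) ?_ ?_ ?_
    · intro n hn
      have hn' : n ∈ N := by simpa [hN'] using hn
      have hmem' : n⁻¹ * a₀ * n ∈ X := hN n hn' a₀ hmem
      simp only [Finset.mem_filter, hP, hD, Finset.mem_product, Finset.mem_univ, true_and, π]
      refine ⟨hmem', ?_⟩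
      group
    · intro n _ m _ h
      have := congrArg Prod.fst h
      exact mul_left_cancel this
    · rintro ⟨t, a⟩ hx
      simp only [Finset.mem_filter, hP, hD, Finset.mem_product, Finset.mem_univ, true_and, π] at hx
      obtain ⟨ha, heq⟩ := hx
      have hn : t₀⁻¹ * t ∈ N := by
        apply hTI a ha
        have : t₀⁻¹ * t * a * (t₀⁻¹ * t)⁻¹ = t₀⁻¹ * (t * a * t⁻¹) * t₀ := by group
        rw [this, heq]
        have : t₀⁻¹ * (t₀ * a₀ * t₀⁻¹) * t₀ = a₀ := by group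
        rwa [this]
      refine ⟨t₀⁻¹ * t, by simpa [hN'] using hn, ?_⟩
      have h2 : (t₀⁻¹ * t)⁻¹ * a₀ * (t₀⁻¹ * t) = a := by
        have : a₀ = t₀⁻¹ * (t * a * t⁻¹) * t₀ := by rw [heq]; group
        rw [this]; group
      refine Prod.ext ?_ h2
      simp
  have hcard : P.card = (P.image π).card * N'.card := by
    rw [Finset.card_eq_sum_card_image π P, Finset.sum_congr rfl hfib, Finset.sum_const, smul_eq_mul]
  have h1 : {y : G | ∃ t : G, ∃ x ∈ X, y = t * x * t⁻¹}.ncard = (P.image π).card := by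
    rw [← himg, Set.ncard_coe_finset]
  have h2 : Nat.card N = N'.card := by
    rw [Nat.subtype_card N']
    intro x
    simp [hN']
  have h3 : D.card = X.ncard := by
    rw [← Set.ncard_coe_finset]
    congr 1
    ext x
    simp [hD]
  rw [h1, h2, ← hcard, hP, Finset.card_product, h3, Finset.card_univ, Nat.card_eq_fintype_card (α := G)]

omit R in
/-- If two conjugate elements have the same centraliser `K`, the conjugating element normalises `K`. -/
lemma normalizer_of_centralizer {K : Subgroup G} {x t : G} (h1 : Subgroup.centralizer {x} = K)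
    (h2 : Subgroup.centralizer {t * x * t⁻¹} = K) : t ∈ Subgroup.normalizer (K : Set G) := by
  rw [Subgroup.mem_normalizer_iff]
  intro y
  rw [← h1, Subgroup.mem_centralizer_singleton_iff]
  conv_rhs => rw [h1, ← h2, Subgroup.mem_centralizer_singleton_iff]
  constructor
  · intro h
    calc t * y * t⁻¹ * (t * x * t⁻¹) = t * (y * x) * t⁻¹ := by group
      _ = t * (x * y) * t⁻¹ := by rw [h]
      _ = _ := by group
  · intro h
    have e : t * (y * x) * t⁻¹ = t * (x * y) * t⁻¹ := by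
      calc t * (y * x) * t⁻¹ = t * y * t⁻¹ * (t * x * t⁻¹) := by group
        _ = t * x * t⁻¹ * (t * y * t⁻¹) := h
        _ = _ := by group
    exact mul_left_cancel (mul_right_cancel e)

/-- The elements of `M` with square not `1`. -/
def XX (M : Subgroup G) : Set G := {x | x ∈ M ∧ x * x ≠ 1}

/-- Their conjugates. -/
def TL (M : Subgroup G) : Set G := {y | ∃ t : G, ∃ x ∈ XX M, y = t * x * t⁻¹}

/-- The elements with order having only prime factors dividing `q² - q + 1`. -/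
def RR (G : Type*) [Group G] (m : ℕ) : Set G :=
  {g | g ≠ 1 ∧ ∀ p : ℕ, p.Prime → p ∣ orderOf g → p ∣ (3 ^ (2 * m + 1)) ^ 2 + 1 - 3 ^ (2 * m + 1)}

omit R in
lemma k_facts (m : ℕ) : ∃ k, 3 ^ (2 * m + 1) + 1 = 4 * k ∧ Odd k ∧ (3 ^ (2 * m + 1) + 1) / 2 = 2 * k ∧ (3 ^ (2 * m + 1) + 1) / 4 = k := by
  have h := (q_facts m).1
  set q := 3 ^ (2 * m + 1)
  refine ⟨(q + 1) / 4, by omega, ?_, by omega, rfl⟩
  rw [Nat.odd_iff]
  omega

/-- Squares of elements of `M` have odd order. -/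
lemma odd_sq {x : G} (hx : x ∈ M) : Odd (orderOf (x * x)) := by
  obtain ⟨k, h1, h2, h3, h4⟩ := k_facts m
  have h5 := R.M_exp x hx
  rw [h3] at h5
  have h6 : (x * x) ^ k = 1 := by
    rw [← pow_two, ← pow_mul]
    exact h5
  exact h2.of_dvd_nat (orderOf_dvd_of_pow_eq_one h6)

lemma XX_C {x : G} (hx : x ∈ XX M) : Subgroup.centralizer {x} = M := by
  apply le_antisymm
  · intro y hy
    have hy' := Subgroup.mem_centralizer_singleton_iff.mp hy
    rw [← R.M_C (x * x) (mul_mem hx.1 hx.1) (odd_sq R hx.1) hx.2]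
    rw [Subgroup.mem_centralizer_singleton_iff]
    calc y * (x * x) = (y * x) * x := by group
      _ = (x * y) * x := by rw [hy']
      _ = x * (y * x) := by group
      _ = x * (x * y) := by rw [hy']
      _ = _ := by group
  · intro y hy
    exact Subgroup.mem_centralizer_singleton_iff.mpr (R.M_comm y hy x hx.1)

omit R in
lemma pow_fix {g : G} {y : Om U H} (h : g • y = y) (k : ℕ) : (g ^ k) • y = y := by
  induction k with
  | zero => simp
  | succ c ih => rw [pow_succ, mul_smul, h, ih]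

/-- The elements of `XX M` are fixed point free. -/
lemma XX_F0 {x : G} (hx : x ∈ XX M) : x ∈ F0 U H := by
  intro y hy
  obtain ⟨k, h1, h2, h3, h4⟩ := k_facts m
  have hw : x * x ≠ 1 := hx.2
  have h5 : (x * x) • y = y := by rw [mul_smul, hy, hy]
  have hne : orderOf (x * x) ≠ 1 := fun h => hw (orderOf_eq_one_iff.mp h)
  obtain ⟨s, hs, hsd⟩ := Nat.exists_prime_and_dvd hne
  have h6 := R.M_exp x hx.1
  rw [h3] at h6
  have h7 : (x * x) ^ k = 1 := by
    rw [← pow_two, ← pow_mul]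
    exact h6
  have h8 : s ∣ k := hsd.trans (orderOf_dvd_of_pow_eq_one h7)
  have h9 : s ≠ 2 := by
    rintro rfl
    exact h2.not_two_dvd_nat h8
  have h10 : s ∣ 3 ^ (2 * m + 1) + 1 := by
    rw [h1]
    exact h8.mul_left 4
  obtain ⟨-, h11, h12, -⟩ := prime_qp hs h9 h10
  have h13 := orderOf_pow_orderOf_div (orderOf_pos (x * x)).ne' hsd
  have h14 := order_dvd_of_fix R (pow_fix h5 (orderOf (x * x) / s))
  rw [h13, hs.dvd_mul] at h14
  rcases h14 with h14 | h14
  · exact h11 (hs.dvd_of_dvd_pow h14)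
  · exact h12 h14

lemma TL_F0 {y : G} (hy : y ∈ TL M) : y ∈ F0 U H := by
  obtain ⟨t, x, hx, rfl⟩ := hy
  exact conj_F0 R (XX_F0 R hx) t

lemma RR_F0 {g : G} (hg : g ∈ RR G m) : g ∈ F0 U H := by
  intro y hy
  have hne : orderOf g ≠ 1 := fun h => hg.1 (orderOf_eq_one_iff.mp h)
  obtain ⟨p, hp, hpd⟩ := Nat.exists_prime_and_dvd hne
  have h1 := hg.2 p hp hpd
  obtain ⟨-, -, -, h2, h3, -⟩ := prime_D hp h1
  have h4 := hpd.trans (order_dvd_of_fix R hy)
  rw [hp.dvd_mul] at h4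
  rcases h4 with h4 | h4
  · exact h2 (hp.dvd_of_dvd_pow h4)
  · exact h3 h4

lemma TL_order {y : G} (hy : y ∈ TL M) : orderOf y ∣ (3 ^ (2 * m + 1) + 1) / 2 := by
  obtain ⟨t, x, hx, rfl⟩ := hy
  have e : t * x * t⁻¹ = MulAut.conj t x := rfl
  rw [e, MulEquiv.orderOf_eq]
  exact orderOf_dvd_of_pow_eq_one (R.M_exp x hx.1)

lemma disjoint_TL_RR : Disjoint (TL M) (RR G m) := by
  rw [Set.disjoint_left]
  intro y hy hy'
  have hne : orderOf y ≠ 1 := fun h => hy'.1 (orderOf_eq_one_iff.mp h)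
  obtain ⟨p, hp, hpd⟩ := Nat.exists_prime_and_dvd hne
  have h1 := hy'.2 p hp hpd
  obtain ⟨-, -, -, -, -, h2⟩ := prime_D hp h1
  have h3 := hpd.trans (TL_order R hy)
  apply h2
  exact h3.trans (Nat.div_dvd_of_dvd (by
    have := (q_facts m).1
    omega))

/-- An involution does not commute with an element of prime order dividing `q² - q + 1`. -/
lemma no_inv_comm {t w : G} {s : ℕ} (hs : s.Prime) (hd : s ∣ (3 ^ (2 * m + 1)) ^ 2 + 1 - 3 ^ (2 * m + 1))
    (ht : t * t = 1) (ht1 : t ≠ 1) (hc : t * w = w * t) (hw : orderOf w = s) : False := by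
  obtain ⟨z, rfl⟩ := R.inv_conj t ht ht1
  have h1 : z⁻¹ * w * z ∈ Subgroup.centralizer {a} := by
    rw [Subgroup.mem_centralizer_singleton_iff]
    have h2 : a * (z⁻¹ * w * z) = z⁻¹ * (z * a * z⁻¹ * w) * z := by group
    have h3 : z⁻¹ * w * z * a = z⁻¹ * (w * (z * a * z⁻¹)) * z := by group
    rw [h3, h2, hc]
  have h4 := Subgroup.orderOf_dvd_natCard _ h1
  have e : z⁻¹ * w * z = MulAut.conj z⁻¹ w := by simp
  rw [e, MulEquiv.orderOf_eq, hw, R.Ca] at h4
  obtain ⟨-, -, -, h5, h6, h7⟩ := prime_D hs hd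
  rw [hs.dvd_mul] at h4
  rcases h4 with h4 | h4
  · exact h5 h4
  · set q := 3 ^ (2 * m + 1) with hq
    have h8 : q ^ 2 - 1 = (q + 1) * (q - 1) := by
      have : q ^ 2 - 1 = q ^ 2 - 1 ^ 2 := by norm_num
      rw [this, Nat.sq_sub_sq]
    rw [h8, hs.dvd_mul] at h4
    rcases h4 with h4 | h4
    · exact h7 h4
    · exact h6 h4

/-- Prime divisors of the order of the group. -/
lemma prime_cases {s : ℕ} (hs : s.Prime) (hd : s ∣ Nat.card G) :
    s ∣ 3 ^ (2 * m + 1) ∨ s ∣ 3 ^ (2 * m + 1) - 1 ∨ s ∣ 3 ^ (2 * m + 1) + 1 ∨ s ∣ (3 ^ (2 * m + 1)) ^ 2 + 1 - 3 ^ (2 * m + 1) := by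
  rw [card_G R, hs.dvd_mul, hs.dvd_mul, hs.dvd_mul] at hd
  rcases hd with (h | h) | (h | h)
  · exact Or.inl (hs.dvd_of_dvd_pow h)
  · exact Or.inr (Or.inl h)
  · exact Or.inr (Or.inr (Or.inl h))
  · exact Or.inr (Or.inr (Or.inr h))

/-- A fixed point free element commuting with an element of odd prime order dividing `q + 1` lies in `TL`. -/
lemma fpf_qp {g w : G} {s : ℕ} (hs : s.Prime) (h2 : s ≠ 2) (hd : s ∣ 3 ^ (2 * m + 1) + 1) (hg : g ∈ F0 U H)
    (hc : g * w = w * g) (hw : orderOf w = s) : g ∈ TL M := by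
  have S := R.S
  obtain ⟨h3, h4, h5, h6⟩ := prime_qp hs h2 hd
  have hidx : ¬ s ∣ M.index := by
    have h1 := Subgroup.card_mul_index M
    rw [R.M_card, card_G R] at h1
    set q := 3 ^ (2 * m + 1) with hq
    have h7 : M.index = q ^ 3 * (q - 1) * (q ^ 2 + 1 - q) := by
      apply Nat.eq_of_mul_eq_mul_left (show 0 < q + 1 from Nat.succ_pos q)
      rw [h1]
      ring
    rw [h7, hs.dvd_mul, hs.dvd_mul]
    rintro ((h8 | h8) | h8)
    · exact h4 (hs.dvd_of_dvd_pow h8)
    · exact h5 h8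
    · exact h6 h8
  obtain ⟨t, ht⟩ := conj_into hs M hidx hw
  have e : t⁻¹ * w * t = MulAut.conj t⁻¹ w := by simp
  have hord : orderOf (t⁻¹ * w * t) = s := by rw [e, MulEquiv.orderOf_eq, hw]
  have hodd : Odd (orderOf (t⁻¹ * w * t)) := by
    rw [hord]
    exact hs.odd_of_ne_two h2
  have hne : t⁻¹ * w * t ≠ 1 := by
    intro h
    rw [h, orderOf_one] at hord
    exact hs.one_lt.ne hord
  have hC := R.M_C _ ht hodd hne
  have hc' : (t⁻¹ * g * t) * (t⁻¹ * w * t) = (t⁻¹ * w * t) * (t⁻¹ * g * t) := by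
    calc (t⁻¹ * g * t) * (t⁻¹ * w * t) = t⁻¹ * (g * w) * t := by group
      _ = t⁻¹ * (w * g) * t := by rw [hc]
      _ = _ := by group
  have hm : t⁻¹ * g * t ∈ M := by
    rw [← hC, Subgroup.mem_centralizer_singleton_iff]
    exact hc'
  refine ⟨t, t⁻¹ * g * t, ⟨hm, ?_⟩, by group⟩
  intro h
  have h9 : g * g = 1 := by
    have : g * g = t * ((t⁻¹ * g * t) * (t⁻¹ * g * t)) * t⁻¹ := by group
    rw [this, h]
    group
  by_cases hg1 : g = 1
  · rw [hg1] at hg
    exact hg (inf U H) (one_smul _ _)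
  · have h10 := fc_inv R h9 hg1
    have h11 := fc_eq_zero_iff.mpr hg
    omega

/-- The classification of the fixed point free elements. -/
theorem F0_subset {g : G} (hg : g ∈ F0 U H) : g ∈ TL M ∨ g ∈ RR G m := by
  have hg1 : g ≠ 1 := by
    rintro rfl
    exact hg (inf U H) (one_smul _ _)
  -- there is an odd prime divisor
  have hex : ∃ s : ℕ, s.Prime ∧ s ≠ 2 ∧ s ∣ orderOf g := by
    by_contra hno
    push Not at hno
    have h2 : ∀ s : ℕ, s.Prime → s ∣ orderOf g → s = 2 := by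
      intro s hs hsd
      by_contra h
      exact hno s hs h hsd
    have hpos := orderOf_pos g
    have h3 : ∃ k, orderOf g = 2 ^ k := by
      exact ⟨_, Nat.eq_prime_pow_of_unique_prime_dvd hpos.ne' (fun {d} hd hdd => h2 d hd hdd)⟩
    obtain ⟨k, hk⟩ := h3
    have h4 : g ^ (2 ^ k) = 1 := by
      rw [← hk]
      exact pow_orderOf_eq_one g
    have h5 : ∀ j, g ^ (2 ^ j) = 1 → g * g = 1 := by
      intro j
      induction j with
      | zero =>
        intro h
        simp only [pow_zero, pow_one] at h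
        rw [h]
        simp
      | succ c ih =>
        intro h
        cases c with
        | zero =>
          rw [← pow_two]
          simpa using h
        | succ b =>
          apply ih
          have h6 : (g ^ (2 ^ b)) ^ 4 = 1 := by
            rw [← pow_mul, ← h]
            congr 1
            ring
          have := R.no4 _ h6
          rw [← pow_two, ← pow_mul] at this
          rw [← this]
          congr 1
    have h6 := h5 k h4
    have h7 := fc_inv R h6 hg1
    have h8 := fc_eq_zero_iff.mpr hg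
    omega
  obtain ⟨s, hs, hs2, hsd⟩ := hex
  have key : ∀ s : ℕ, s.Prime → s ≠ 2 → s ∣ orderOf g → g ∈ TL M ∨ s ∣ (3 ^ (2 * m + 1)) ^ 2 + 1 - 3 ^ (2 * m + 1) := by
    intro s hs hs2 hsd
    have hw := orderOf_pow_orderOf_div (orderOf_pos g).ne' hsd
    have hc : g * g ^ (orderOf g / s) = g ^ (orderOf g / s) * g := pow_comm_of _
    have hdvd : s ∣ Nat.card G := hsd.trans (orderOf_dvd_natCard g)
    rcases prime_cases R hs hdvd with h | h | h | h
    · have h3 := prime_dvd_q hs h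
      subst h3
      exact (fpf_not_three R hg hc hw).elim
    · exact (fpf_not_H R hs hs2 h hg hc hw).elim
    · exact Or.inl (fpf_qp R hs hs2 h hg hc hw)
    · exact Or.inr h
  by_cases hT : g ∈ TL M
  · exact Or.inl hT
  · right
    refine ⟨hg1, ?_⟩
    intro p hp hpd
    by_cases hp2 : p = 2
    · subst hp2
      exfalso
      have hsD := (key s hs hs2 hsd).resolve_left hT
      have hw := orderOf_pow_orderOf_div (orderOf_pos g).ne' hsd
      have ht := orderOf_pow_orderOf_div (orderOf_pos g).ne' hpd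
      have ht1 : g ^ (orderOf g / 2) ≠ 1 := by
        intro h
        rw [h, orderOf_one] at ht
        omega
      have ht2 : g ^ (orderOf g / 2) * g ^ (orderOf g / 2) = 1 := by
        rw [← pow_two]
        have := pow_orderOf_eq_one (g ^ (orderOf g / 2))
        rwa [ht] at this
      have hc : g ^ (orderOf g / 2) * g ^ (orderOf g / s) = g ^ (orderOf g / s) * g ^ (orderOf g / 2) := by
        rw [← pow_add, ← pow_add, add_comm]
      exact no_inv_comm R hs hsD ht2 ht1 hc hw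
    · exact (key p hp hp2 hpd).resolve_left hT

/-- The number of elements of `XX M`. -/
lemma card_XX : (XX M).ncard = 3 ^ (2 * m + 1) + 1 - 4 := by
  have h1 : XX M = (M : Set G) \ {x : G | x ∈ M ∧ x * x = 1} := by
    ext x
    simp only [XX, Set.mem_setOf_eq, Set.mem_diff, SetLike.mem_coe, not_and]
    constructor
    · rintro ⟨h2, h3⟩
      exact ⟨h2, fun _ => h3⟩
    · rintro ⟨h2, h3⟩
      exact ⟨h2, h3 h2⟩
  rw [h1, Set.ncard_diff (fun x hx => hx.1) (Set.toFinite _), R.M_V, ← Nat.card_coe_set_eq, ]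
  show Nat.card M - 4 = _
  rw [R.M_card]

/-- The class equation for `TL`. -/
lemma card_TL : (TL M).ncard * (6 * (3 ^ (2 * m + 1) + 1)) = Nat.card G * (3 ^ (2 * m + 1) + 1 - 4) := by
  rw [← R.M_N, ← card_XX R]
  apply ncard_conj_union
  · intro n hn x hx
    refine ⟨?_, ?_⟩
    · have h1 := (Subgroup.mem_normalizer_iff.mp (inv_mem hn) x).mp hx.1
      simpa using h1
    · intro h
      apply hx.2
      have : x * x = n * (n⁻¹ * x * n * (n⁻¹ * x * n)) * n⁻¹ := by group
      rw [this, h]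
      group
  · intro x hx t hxt
    exact normalizer_of_centralizer (XX_C R hx) (XX_C R hxt)

omit R in
/-- The arithmetic of the count. -/
lemma count_arith {d I T F' Rr Gg c : ℕ} (hc : (d + 3) ^ 3 = c + 1)
    (hG : Gg = (d + 3) ^ 3 * (d + 2) * ((d + 4) * (d ^ 2 + 5 * d + 7)))
    (h1 : I * ((d + 3) * ((d + 2) * (d + 4))) = Gg) (h2 : T * (6 * (d + 4)) = Gg * d)
    (h3 : 2 * F' + (d + 3) * (d + 2) * I + (d + 3) ^ 3 * c = Gg) (h4 : F' = T + Rr) :
    3 * Rr = (d + 3) ^ 4 * ((d + 2) * (d + 4)) * (d + 1) := by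
  have hI : I = (d + 3) ^ 2 * (d ^ 2 + 5 * d + 7) := by
    apply Nat.eq_of_mul_eq_mul_right (show 0 < (d + 3) * ((d + 2) * (d + 4)) by positivity)
    rw [h1, hG]
    ring
  have hT : 6 * T = (d + 3) ^ 3 * (d + 2) * (d ^ 2 + 5 * d + 7) * d := by
    apply Nat.eq_of_mul_eq_mul_right (show 0 < d + 4 by positivity)
    have : 6 * T * (d + 4) = T * (6 * (d + 4)) := by ring
    rw [this, h2, hG]
    ring
  have hc' : (c : ℤ) = (d + 3) ^ 3 - 1 := by
    have : ((d + 3) ^ 3 : ℤ) = c + 1 := by exact_mod_cast hc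
    linarith
  zify at hI hT h3 h4 hG ⊢
  have e : (6 : ℤ) * (3 * Rr) = 6 * ((d + 3) ^ 4 * ((d + 2) * (d + 4)) * (d + 1)) := by
    rw [h4, hG, hc', hI] at h3
    linear_combination 9 * h3 - 3 * hT
  linarith

/-- The number of elements in `RR`. -/
theorem card_RR : 3 * (RR G m).ncard = (3 ^ (2 * m + 1)) ^ 4 * ((3 ^ (2 * m + 1)) ^ 2 - 1) * (3 ^ (2 * m + 1) - 2) := by
  have hfin : ∀ s : Set G, s.Finite := fun s => Set.toFinite s
  have hF : (F0 U H).ncard = (TL M).ncard + (RR G m).ncard := by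
    have : F0 U H = TL M ∪ RR G m := by
      ext g
      constructor
      · exact fun h => F0_subset R h
      · rintro (h | h)
        · exact TL_F0 R h
        · exact RR_F0 R h
    rw [this, Set.ncard_union_eq (disjoint_TL_RR R) (hfin _) (hfin _)]
  have h0 := count0 R
  have hI := card_Inv R
  have hT := card_TL R
  have hG := card_G R
  rw [R.Ca] at hI
  have hfacts := q_facts m
  set q := 3 ^ (2 * m + 1) with hq
  have hq3 : 3 ≤ q := by
    rw [hq, pow_succ]
    have : 1 ≤ 3 ^ (2 * m) := Nat.one_le_pow _ _ (by norm_num)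
    omega
  obtain ⟨d, hd⟩ : ∃ d, q = d + 3 := ⟨q - 3, by omega⟩
  obtain ⟨c, hc⟩ : ∃ c, (d + 3) ^ 3 = c + 1 := ⟨(d + 3) ^ 3 - 1, by
    have : 1 ≤ (d + 3) ^ 3 := Nat.one_le_pow _ _ (by omega)
    omega⟩
  rw [hd] at h0 hI hT hG ⊢
  have e1 : d + 3 - 1 = d + 2 := rfl
  have e2 : d + 3 + 1 - 4 = d := rfl
  have e3 : d + 3 + 1 = d + 4 := rfl
  have e4 : (d + 3) ^ 2 + 1 - (d + 3) = d ^ 2 + 5 * d + 7 := by
    have : (d + 3) ^ 2 + 1 = d ^ 2 + 5 * d + 7 + (d + 3) := by ring
    omega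
  have e5 : (d + 3) ^ 2 - 1 = (d + 2) * (d + 4) := by
    have : (d + 3) ^ 2 = (d + 2) * (d + 4) + 1 := by ring
    omega
  have e6 : (d + 3) ^ 3 - 1 = c := by omega
  have e7 : d + 3 - 2 = d + 1 := rfl
  rw [e1, e6] at h0
  rw [e5] at hI
  rw [e2, e3] at hT
  rw [e1, e3, e4] at hG
  rw [e5, e7]
  exact count_arith hc hG hI hT h0 hF

end Cfsg.Agent.Lib.ReeG2.Ab2
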