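import Cfsg.Agent.Lib.ReeG2.Ab2

/-!
# Abstract Ree-type groups: the classes of exceptional cyclic subgroups
-/

set_option autoImplicit false
set_option linter.unusedSectionVars false
set_option linter.unusedVariables false
set_option linter.unusedTactic false
set_option linter.unreachableTactic false

namespace Cfsg.Agent.Lib.ReeG2.Ab3

open Cfsg.Agent.Lib.ReeG2.Rank1 Cfsg.Agent.Lib.ReeG2.Rank1.Sp Cfsg.Agent.Lib.ReeG2.Ab1 Cfsg.Agent.Lib.ReeG2.Ab2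

variable {G : Type*} [Group G] [Finite G] {U H M A : Subgroup G} {n a : G} {m : ℕ} (R : Rd U H M A n a m)

/-- The centraliser of an element. -/
abbrev Cz (g : G) : Subgroup G := Subgroup.centralizer {g}

omit [Finite G] in
lemma mem_Cz {g c : G} : c ∈ Cz g ↔ c * g = g * c := Subgroup.mem_centralizer_singleton_iff

omit [Finite G] in
lemma self_mem_Cz (g : G) : g ∈ Cz g := mem_Cz.mpr rfl

omit [Finite G] in
lemma mem_Cz_comm {g c : G} : c ∈ Cz g ↔ g ∈ Cz c := by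
  rw [mem_Cz, mem_Cz]
  exact ⟨Eq.symm, Eq.symm⟩

omit [Finite G] in
lemma conj_mem_Cz {g c t : G} : t * c * t⁻¹ ∈ Cz (t * g * t⁻¹) ↔ c ∈ Cz g := by
  rw [mem_Cz, mem_Cz]
  constructor
  · intro h
    have e : t * (c * g) * t⁻¹ = t * (g * c) * t⁻¹ := by
      calc t * (c * g) * t⁻¹ = t * c * t⁻¹ * (t * g * t⁻¹) := by group
        _ = t * g * t⁻¹ * (t * c * t⁻¹) := h
        _ = _ := by group
    exact mul_left_cancel (mul_right_cancel e)
  · intro h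
    calc t * c * t⁻¹ * (t * g * t⁻¹) = t * (c * g) * t⁻¹ := by group
      _ = t * (g * c) * t⁻¹ := by rw [h]
      _ = _ := by group

omit [Finite G] in
lemma comm_of_cyclic {C : Subgroup G} (hC : IsCyclic C) {x y : G} (hx : x ∈ C) (hy : y ∈ C) : x * y = y * x := by
  have := (IsCyclic.isMulCommutative (α := C)).is_comm.comm (⟨x, hx⟩ : C) ⟨y, hy⟩
  exact congrArg Subtype.val this

include R

/-- All primes dividing the order of the centraliser divide `q² - q + 1`. -/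
lemma prime_C {x : G} {p : ℕ} (hp : p.Prime) (hx : orderOf x = p) (hd : p ∣ (3 ^ (2 * m + 1)) ^ 2 + 1 - 3 ^ (2 * m + 1))
    {l : ℕ} (hl : l.Prime) (hld : l ∣ Nat.card (Cz x)) : l ∣ (3 ^ (2 * m + 1)) ^ 2 + 1 - 3 ^ (2 * m + 1) := by
  have hxR : x ∈ RR G m := by
    refine ⟨?_, ?_⟩
    · rintro rfl
      rw [orderOf_one] at hx
      exact hp.one_lt.ne hx
    · intro c hc hcd
      rw [hx] at hcd
      rw [(Nat.prime_dvd_prime_iff_eq hc hp).mp hcd]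
      exact hd
  have hxF := RR_F0 R hxR
  haveI : Fact l.Prime := ⟨hl⟩
  obtain ⟨y, hy⟩ := exists_prime_orderOf_dvd_card' (G := Cz x) l hld
  have hy' : orderOf (y : G) = l := by rwa [Subgroup.orderOf_coe]
  have hc : x * (y : G) = (y : G) * x := (mem_Cz.mp y.2).symm
  have hdvd : l ∣ Nat.card G := hld.trans (Subgroup.card_subgroup_dvd_card _)
  by_cases hl2 : l = 2
  · exfalso
    subst hl2
    refine no_inv_comm R hp hd ?_ ?_ hc.symm hx
    · rw [← pow_two, ← hy']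
      exact pow_orderOf_eq_one _
    · intro h
      rw [h, orderOf_one] at hy'
      omega
  · rcases prime_cases R hl hdvd with h | h | h | h
    · have h3 := prime_dvd_q hl h
      subst h3
      exact (fpf_not_three R hxF hc hy').elim
    · exact (fpf_not_H R hl hl2 h hxF hc hy').elim
    · have h4 := fpf_qp R hl hl2 h hxF hc hy'
      exact (Set.disjoint_left.mp (disjoint_TL_RR R) h4 hxR).elim
    · exact h

/-- The structure of the centraliser of an element of prime order. -/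
lemma C_prime {x : G} {p : ℕ} (hp : p.Prime) (hx : orderOf x = p) (hd : p ∣ (3 ^ (2 * m + 1)) ^ 2 + 1 - 3 ^ (2 * m + 1)) :
    IsCyclic (Cz x) ∧ Nat.card (Cz x) ∣ (3 ^ (2 * m + 1)) ^ 2 + 1 - 3 ^ (2 * m + 1) ∧
      Nat.card (Subgroup.normalizer ((Cz x : Subgroup G) : Set G)) ≤ 6 * Nat.card (Cz x) := by
  have hpr := fun l hl hld => prime_C R hp hx hd (l := l) hl hld
  have hco : Nat.Coprime (Nat.card (Cz x)) (3 ^ (2 * m + 1) - 1) := by
    apply Nat.Coprime.symm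
    apply Nat.coprime_of_dvd
    intro l hl h1 h2
    have h3 := hpr l hl h2
    exact (prime_D hl h3).2.2.2.2.1 h1
  obtain ⟨h1, h2⟩ := R.hY x p hp hx hd hco
  refine ⟨h1, ?_, h2⟩
  have hdG := Subgroup.card_subgroup_dvd_card (Cz x)
  rw [card_G R] at hdG
  have hco2 : Nat.Coprime (Nat.card (Cz x)) ((3 ^ (2 * m + 1)) ^ 3 * (3 ^ (2 * m + 1) - 1) * (3 ^ (2 * m + 1) + 1)) := by
    apply Nat.Coprime.symm
    apply Nat.coprime_of_dvd
    intro l hl h1 h2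
    have h3 := hpr l hl h2
    obtain ⟨-, -, -, h4, h5, h6⟩ := prime_D hl h3
    rw [hl.dvd_mul, hl.dvd_mul] at h1
    rcases h1 with (h1 | h1) | h1
    · exact h4 (hl.dvd_of_dvd_pow h1)
    · exact h5 h1
    · exact h6 h1
  rw [← mul_assoc] at hdG
  exact hco2.dvd_of_dvd_mul_left hdG

omit R in
/-- The centraliser of an element equals that of a prime power of it. -/
lemma exists_prime_power {g : G} (hg : g ∈ RR G m) : ∃ (x : G) (p : ℕ), p.Prime ∧ orderOf x = p ∧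
    p ∣ (3 ^ (2 * m + 1)) ^ 2 + 1 - 3 ^ (2 * m + 1) ∧ x ∈ Subgroup.zpowers g := by
  have hne : orderOf g ≠ 1 := fun h => hg.1 (orderOf_eq_one_iff.mp h)
  obtain ⟨p, hp, hpd⟩ := Nat.exists_prime_and_dvd hne
  refine ⟨g ^ (orderOf g / p), p, hp, orderOf_pow_orderOf_div (orderOf_pos g).ne' hpd, hg.2 p hp hpd, Subgroup.npow_mem_zpowers g _⟩

lemma RR_cyc {g : G} (hg : g ∈ RR G m) : IsCyclic (Cz g) := by
  obtain ⟨x, p, hp, hx, hd, hxg⟩ := exists_prime_power hg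
  obtain ⟨h1, -, -⟩ := C_prime R hp hx hd
  have hle : Cz g ≤ Cz x := by
    intro c hc
    obtain ⟨k, rfl⟩ := Subgroup.mem_zpowers_iff.mp hxg
    rw [mem_Cz]
    have hcomm : Commute c g := mem_Cz.mp hc
    exact (hcomm.zpow_right k).eq
  exact isCyclic_of_injective (Subgroup.inclusion hle) (Subgroup.inclusion_injective hle)

lemma RR_eq {g : G} (hg : g ∈ RR G m) {x : G} {p : ℕ} (hp : p.Prime) (hx : orderOf x = p)
    (hd : p ∣ (3 ^ (2 * m + 1)) ^ 2 + 1 - 3 ^ (2 * m + 1)) (hxg : x ∈ Subgroup.zpowers g) : Cz g = Cz x := by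
  obtain ⟨h1, -, -⟩ := C_prime R hp hx hd
  apply le_antisymm
  · intro c hc
    obtain ⟨k, rfl⟩ := Subgroup.mem_zpowers_iff.mp hxg
    rw [mem_Cz]
    have hcomm : Commute c g := mem_Cz.mp hc
    exact (hcomm.zpow_right k).eq
  · intro c hc
    have hgx : g ∈ Cz x := by
      obtain ⟨k, rfl⟩ := Subgroup.mem_zpowers_iff.mp hxg
      rw [mem_Cz]
      exact (Commute.zpow_right (Commute.refl g) k)
    exact mem_Cz.mpr (comm_of_cyclic h1 hc hgx)

lemma RR_dvd {g : G} (hg : g ∈ RR G m) : Nat.card (Cz g) ∣ (3 ^ (2 * m + 1)) ^ 2 + 1 - 3 ^ (2 * m + 1) := by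
  obtain ⟨x, p, hp, hx, hd, hxg⟩ := exists_prime_power hg
  rw [RR_eq R hg hp hx hd hxg]
  exact (C_prime R hp hx hd).2.1

lemma RR_N_le {g : G} (hg : g ∈ RR G m) :
    Nat.card (Subgroup.normalizer ((Cz g : Subgroup G) : Set G)) ≤ 6 * Nat.card (Cz g) := by
  obtain ⟨x, p, hp, hx, hd, hxg⟩ := exists_prime_power hg
  rw [RR_eq R hg hp hx hd hxg]
  exact (C_prime R hp hx hd).2.2

lemma mem_RR_of_mem {g y : G} (hg : g ∈ RR G m) (hy : y ∈ Cz g) (hy1 : y ≠ 1) : y ∈ RR G m := by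
  refine ⟨hy1, ?_⟩
  intro p hp hpd
  have h1 : orderOf y ∣ Nat.card (Cz g) := Subgroup.orderOf_dvd_natCard _ hy
  exact hpd.trans (h1.trans (RR_dvd R hg))

lemma Cz_eq {g y : G} (hg : g ∈ RR G m) (hy : y ∈ Cz g) (hy1 : y ≠ 1) : Cz y = Cz g := by
  have hyR := mem_RR_of_mem R hg hy hy1
  have hcy := RR_cyc R hyR
  have hcg := RR_cyc R hg
  apply le_antisymm
  · intro c hc
    have hgy : g ∈ Cz y := mem_Cz_comm.mp hy
    exact mem_Cz.mpr (comm_of_cyclic hcy hc hgy)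
  · intro c hc
    exact mem_Cz.mpr (comm_of_cyclic hcg hc hy)

omit R in
lemma conj_RR {g : G} (hg : g ∈ RR G m) (t : G) : t * g * t⁻¹ ∈ RR G m := by
  have e : t * g * t⁻¹ = MulAut.conj t g := rfl
  refine ⟨?_, ?_⟩
  · intro h
    apply hg.1
    have : g = t⁻¹ * (t * g * t⁻¹) * t := by group
    rw [this, h]
    group
  · intro p hp hpd
    rw [e, MulEquiv.orderOf_eq] at hpd
    exact hg.2 p hp hpd

/-- Trivial intersection. -/
lemma Cz_TI {g : G} (hg : g ∈ RR G m) {c t : G} (hc : c ∈ Cz g) (hc1 : c ≠ 1) (htc : t * c * t⁻¹ ∈ Cz g) :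
    t ∈ Subgroup.normalizer ((Cz g : Subgroup G) : Set G) := by
  apply normalizer_of_centralizer (Cz_eq R hg hc hc1)
  apply Cz_eq R hg htc
  intro h
  apply hc1
  have : c = t⁻¹ * (t * c * t⁻¹) * t := by group
  rw [this, h]
  group

/-- The class of `g`. -/
def Xg (g : G) : Set G := {y | ∃ t : G, ∃ x ∈ ((Cz g : Subgroup G) : Set G) \ {1}, y = t * x * t⁻¹}

/-- The class equation. -/
lemma class_eq {g : G} (hg : g ∈ RR G m) :
    (Xg g).ncard * Nat.card (Subgroup.normalizer ((Cz g : Subgroup G) : Set G)) =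
      Nat.card G * (Nat.card (Cz g) - 1) := by
  have h := ncard_conj_union (((Cz g : Subgroup G) : Set G) \ {1}) (Subgroup.normalizer ((Cz g : Subgroup G) : Set G)) ?_ ?_
  · have e : (((Cz g : Subgroup G) : Set G) \ {1}).ncard = Nat.card (Cz g) - 1 := by
      rw [Set.ncard_diff_singleton_of_mem (one_mem (Cz g)), ← Nat.card_coe_set_eq]
      rfl
    rw [e] at h
    exact h
  · rintro N hN x ⟨hx, hx1⟩
    refine ⟨?_, ?_⟩
    · have h1 := (Subgroup.mem_normalizer_iff.mp (inv_mem hN) x).mp hx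
      simpa using h1
    · intro h2
      apply hx1
      have h3 : N⁻¹ * x * N = 1 := h2
      have e1 : x = N * (N⁻¹ * x * N) * N⁻¹ := by group
      have e2 : x = 1 := by
        rw [e1, h3]
        group
      exact e2
  · rintro x ⟨hx, hx1⟩ t ⟨htx, -⟩
    exact Cz_TI R hg hx hx1 htx

lemma Xg_subset {g : G} (hg : g ∈ RR G m) : Xg g ⊆ RR G m := by
  rintro _ ⟨t, x, ⟨hx, hx1⟩, rfl⟩
  exact conj_RR (mem_RR_of_mem R hg hx hx1) t

omit R in
lemma mem_Xg_self {g : G} (hg : g ∈ RR G m) : g ∈ Xg g :=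
  ⟨1, g, ⟨self_mem_Cz g, hg.1⟩, by simp⟩

/-- Classes are disjoint or equal. -/
lemma disjoint_Xg {g₁ g₂ : G} (hg₁ : g₁ ∈ RR G m) (hg₂ : g₂ ∈ RR G m) (h : g₂ ∉ Xg g₁) :
    Disjoint (Xg g₁) (Xg g₂) := by
  rw [Set.disjoint_left]
  rintro y ⟨t₁, a₁, ⟨ha₁, h1⟩, rfl⟩ ⟨t₂, a₂, ⟨ha₂, h2⟩, heq⟩
  apply h
  set s := t₂⁻¹ * t₁ with hs
  have h3 : a₂ = s * a₁ * s⁻¹ := by
    have : a₂ = t₂⁻¹ * (t₂ * a₂ * t₂⁻¹) * t₂ := by group
    rw [this, ← heq, hs]; group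
  have e2 := Cz_eq R hg₂ ha₂ h2
  have hg₂' : g₂ ∈ Cz a₂ := by rw [e2]; exact self_mem_Cz g₂
  rw [h3] at hg₂'
  have e3 : g₂ = s * (s⁻¹ * g₂ * s) * s⁻¹ := by group
  rw [e3] at hg₂'
  have h4 := (conj_mem_Cz).1 hg₂'
  have e1 := Cz_eq R hg₁ ha₁ h1
  rw [e1] at h4
  refine ⟨s, s⁻¹ * g₂ * s, ⟨h4, ?_⟩, e3⟩
  intro h5
  apply hg₂.1
  rw [e3, h5]; group

/-- Lower bound for the order of the centraliser. -/
lemma card_Cz_ge {g : G} (hg : g ∈ RR G m) : 7 ≤ Nat.card (Cz g) := by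
  have hd := RR_dvd R hg
  have hne1 : Nat.card (Cz g) ≠ 1 := by
    intro h
    have := Subgroup.card_eq_one.1 h
    have h2 := self_mem_Cz g
    rw [this] at h2
    exact hg.1 (Subgroup.mem_bot.1 h2)
  obtain ⟨l, hl, hld⟩ := Nat.exists_prime_and_dvd hne1
  obtain ⟨h1, h2, h3, -⟩ := prime_D hl (hld.trans hd)
  have h4 := Nat.le_of_dvd Nat.card_pos hld
  have h5 : l ≠ 4 := by
    rintro rfl
    revert hl
    norm_num
  have h6 : l ≠ 6 := by
    rintro rfl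
    revert hl
    norm_num
  have h7 := hl.two_le
  omega

/-- The index of the centraliser in the normaliser. -/
lemma exists_index {g : G} (hg : g ∈ RR G m) : ∃ f : ℕ, (f = 1 ∨ f = 2 ∨ f = 3 ∨ f = 4 ∨ f = 6) ∧
    Nat.card (Subgroup.normalizer ((Cz g : Subgroup G) : Set G)) = f * Nat.card (Cz g) := by
  have hle : Cz g ≤ Subgroup.normalizer ((Cz g : Subgroup G) : Set G) := Subgroup.le_normalizer
  obtain ⟨f, hf⟩ := Subgroup.card_dvd_of_le hle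
  refine ⟨f, ?_, by rw [hf, mul_comm]⟩
  have hpos : 0 < Nat.card (Cz g) := Nat.card_pos
  have hle6 := RR_N_le R hg
  rw [hf] at hle6
  have hf6 : f ≤ 6 := by
    rw [mul_comm 6] at hle6
    exact Nat.le_of_mul_le_mul_left hle6 hpos
  have hf0 : f ≠ 0 := by
    rintro rfl
    have : 0 < Nat.card (Subgroup.normalizer ((Cz g : Subgroup G) : Set G)) := Nat.card_pos
    omega
  have hf5 : f ≠ 5 := by
    rintro rfl
    have h1 : 5 ∣ Nat.card (Subgroup.normalizer ((Cz g : Subgroup G) : Set G)) := by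
      rw [hf]; exact dvd_mul_left _ _
    have h2 := h1.trans (Subgroup.card_subgroup_dvd_card _)
    have h5 := (q_facts m).2.1
    rcases prime_cases R (by norm_num : Nat.Prime 5) h2 with h | h | h | h
    · have := prime_dvd_q (by norm_num : Nat.Prime 5) h
      omega
    · have := Nat.mod_eq_zero_of_dvd h
      have h6 : 1 ≤ 3 ^ (2 * m + 1) := Nat.one_le_pow _ _ (by norm_num)
      omega
    · have := Nat.mod_eq_zero_of_dvd h
      omega
    · exact (prime_D (by norm_num : Nat.Prime 5) h).2.2.1 rfl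
  omega

/-- Sylow subgroups for primes dividing `q² - q + 1` are abelian. -/
lemma sylow_comm {p : ℕ} [hpf : Fact p.Prime] (hd : p ∣ (3 ^ (2 * m + 1)) ^ 2 + 1 - 3 ^ (2 * m + 1)) (S : Sylow p G) :
    ∀ x ∈ (S : Subgroup G), ∀ y ∈ (S : Subgroup G), x * y = y * x := by
  have hp := hpf.out
  -- the group `S` has a nontrivial central element
  have hcard : Nat.card S = p ^ (Nat.card G).factorization p := Sylow.card_eq_multiplicity S
  have hdG : p ∣ Nat.card G := by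
    rw [card_G R]
    exact (dvd_mul_left _ _).trans (dvd_mul_left _ _) |> fun h => hd.trans h
  have hpos : (Nat.card G).factorization p ≠ 0 := by
    intro h0
    have h1 := (hp.dvd_iff_one_le_factorization Nat.card_pos.ne').mp hdG
    omega
  haveI : Nontrivial S := by
    apply Finite.one_lt_card_iff_nontrivial.mp
    rw [hcard]
    exact Nat.one_lt_pow hpos hp.one_lt
  have hcen := S.isPGroup'.center_nontrivial
  have hcd : p ∣ Nat.card (Subgroup.center S) := by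
    obtain ⟨j, hj⟩ := IsPGroup.iff_card.mp (S.isPGroup'.to_subgroup (Subgroup.center S))
    have hlt : 1 < Nat.card (Subgroup.center S) := Finite.one_lt_card_iff_nontrivial.mpr hcen
    rw [hj] at hlt ⊢
    have hj0 : j ≠ 0 := by
      rintro rfl
      simp at hlt
    exact dvd_pow_self p hj0
  obtain ⟨z, hz⟩ := exists_prime_orderOf_dvd_card' (G := Subgroup.center S) p hcd
  have hz' : orderOf (z.1.1 : G) = p := by
    rw [Subgroup.orderOf_coe, Subgroup.orderOf_coe]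
    exact hz
  have hcyc := (C_prime R hp hz' hd).1
  have hmem : ∀ x ∈ (S : Subgroup G), x ∈ Cz (z.1.1 : G) := by
    intro x hx
    rw [mem_Cz]
    have := (Subgroup.mem_center_iff.mp z.2) ⟨x, hx⟩
    exact congrArg Subtype.val this
  intro x hx y hy
  exact comm_of_cyclic hcyc (hmem x hx) (hmem y hy)

/-- Orders of different classes are coprime. -/
lemma coprime_of_disjoint {g₁ g₂ : G} (hg₁ : g₁ ∈ RR G m) (hg₂ : g₂ ∈ RR G m)
    (hd : Disjoint (Xg g₁) (Xg g₂)) : Nat.Coprime (Nat.card (Cz g₁)) (Nat.card (Cz g₂)) := by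
  by_contra hne
  obtain ⟨p, hp, hp1, hp2⟩ := Nat.Prime.not_coprime_iff_dvd.1 hne
  haveI : Fact p.Prime := ⟨hp⟩
  obtain ⟨y₁, hy₁⟩ := exists_prime_orderOf_dvd_card' (G := Cz g₁) p hp1
  obtain ⟨y₂, hy₂⟩ := exists_prime_orderOf_dvd_card' (G := Cz g₂) p hp2
  have hpD := hp1.trans (RR_dvd R hg₁)
  have hord₁ : orderOf (y₁ : G) = p := by rwa [Subgroup.orderOf_coe]
  have hord₂ : orderOf (y₂ : G) = p := by rwa [Subgroup.orderOf_coe]
  have hne₁ : (y₁ : G) ≠ 1 := by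
    intro h
    rw [h, orderOf_one] at hord₁
    exact hp.one_lt.ne hord₁
  have hne₂ : (y₂ : G) ≠ 1 := by
    intro h
    rw [h, orderOf_one] at hord₂
    exact hp.one_lt.ne hord₂
  have hsyl : ∀ (y : G), orderOf y = p → ∃ S : Sylow p G, y ∈ (S : Subgroup G) ∧
      ∀ c ∈ (S : Subgroup G), c ∈ Cz y := by
    intro y hy
    have hpg : IsPGroup p (Subgroup.zpowers y) := by
      apply IsPGroup.of_card (n := 1)
      rw [Nat.card_zpowers, hy, pow_one]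
    obtain ⟨S, hS⟩ := hpg.exists_le_sylow
    have hyS : y ∈ (S : Subgroup G) := hS (Subgroup.mem_zpowers y)
    refine ⟨S, hyS, fun c hc' => ?_⟩
    exact mem_Cz.mpr (sylow_comm R hpD S c hc' y hyS)
  obtain ⟨S₁, hyS₁, hS₁⟩ := hsyl _ hord₁
  obtain ⟨S₂, hyS₂, hS₂⟩ := hsyl _ hord₂
  obtain ⟨t, ht⟩ := MulAction.exists_smul_eq G S₁ S₂
  set z := t * (y₁ : G) * t⁻¹ with hz
  have hzS : z ∈ (S₂ : Subgroup G) := by
    rw [← ht, Sylow.coe_subgroup_smul, Subgroup.mem_smul_pointwise_iff_exists]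
    exact ⟨y₁, hyS₁, by simp [hz, MulAut.smul_def]⟩
  have hz1 : z ≠ 1 := by
    intro h
    apply hne₁
    have : (y₁ : G) = t⁻¹ * z * t := by rw [hz]; group
    rw [this, h]; group
  have hzA : z ∈ Cz g₂ := by
    rw [← Cz_eq R hg₂ y₂.2 hne₂]
    exact hS₂ z hzS
  have h1 : z ∈ Xg g₁ := ⟨t, y₁, ⟨y₁.2, hne₁⟩, rfl⟩
  have h2 : z ∈ Xg g₂ := ⟨1, z, ⟨hzA, hz1⟩, by simp⟩
  exact Set.disjoint_left.1 hd h1 h2

section arith

omit [Finite G] R in
/-- Lower bound on a class. -/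
lemma class_lower {x f c Gg : ℕ} (h : x * (f * c) = Gg * (c - 1)) (hc : 7 ≤ c) : 6 * Gg ≤ 7 * x * f := by
  have hpos : 0 < c := by omega
  apply Nat.le_of_mul_le_mul_right _ hpos
  obtain ⟨e, rfl⟩ : ∃ e, c = e + 7 := ⟨c - 7, by omega⟩
  have h1 : e + 7 - 1 = e + 6 := rfl
  rw [h1] at h
  nlinarith [h]

omit [Finite G] R in
lemma three_x_lt {x Gg d : ℕ} (hx : 3 * x = (d + 3) ^ 4 * ((d + 2) * (d + 4)) * (d + 1))
    (hG : Gg = (d + 3) ^ 3 * (d + 2) * ((d + 4) * (d ^ 2 + 5 * d + 7))) : 3 * x < Gg := by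
  rw [hx, hG]
  have e1 : (d + 3) ^ 4 * ((d + 2) * (d + 4)) * (d + 1) = (d + 3) ^ 3 * (d + 2) * (d + 4) * ((d + 3) * (d + 1)) := by ring
  have e2 : (d + 3) ^ 3 * (d + 2) * ((d + 4) * (d ^ 2 + 5 * d + 7)) = (d + 3) ^ 3 * (d + 2) * (d + 4) * (d ^ 2 + 5 * d + 7) := by ring
  rw [e1, e2]
  apply Nat.mul_lt_mul_of_pos_left
  · nlinarith
  · positivity

omit [Finite G] R in
/-- A single class does not cover. -/
lemma one_class_false {x f c w Gg d : ℕ} (hd : 3 ≤ d) (hf : f = 1 ∨ f = 2 ∨ f = 3 ∨ f = 4 ∨ f = 6)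
    (hx : 3 * x = (d + 3) ^ 4 * ((d + 2) * (d + 4)) * (d + 1))
    (hG : Gg = (d + 3) ^ 3 * (d + 2) * ((d + 4) * (d ^ 2 + 5 * d + 7)))
    (h : x * (f * c) = Gg * (c - 1)) (hc : 7 ≤ c) (hce : d ^ 2 + 5 * d + 7 = c * w) : False := by
  obtain ⟨c', rfl⟩ : ∃ c', c = c' + 1 := ⟨c - 1, by omega⟩
  have h1 : c' + 1 - 1 = c' := rfl
  rw [h1] at h
  have h2 : (d + 3) ^ 3 * (d + 2) * (d + 4) * ((d + 3) * (d + 1) * f * (c' + 1)) =
      (d + 3) ^ 3 * (d + 2) * (d + 4) * (3 * (d ^ 2 + 5 * d + 7) * c') := by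
    calc (d + 3) ^ 3 * (d + 2) * (d + 4) * ((d + 3) * (d + 1) * f * (c' + 1))
        = (3 * x) * (f * (c' + 1)) := by rw [hx]; ring
      _ = 3 * (x * (f * (c' + 1))) := by ring
      _ = 3 * (Gg * c') := by rw [h]
      _ = _ := by rw [hG]; ring
  have h3 := Nat.eq_of_mul_eq_mul_left (by positivity) h2
  rw [hce] at h3
  -- cancel `c' + 1`
  have h4 : (d + 3) * (d + 1) * f = 3 * w * c' := by
    apply Nat.eq_of_mul_eq_mul_right (show 0 < c' + 1 by omega)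
    rw [h3]
    ring
  -- `3 E = (d+3)(d+1) f + 3 w`
  have h5 : 3 * (d ^ 2 + 5 * d + 7) = (d + 3) * (d + 1) * f + 3 * w := by
    rw [h4, hce]
    ring
  have h6 : 7 * w ≤ d ^ 2 + 5 * d + 7 := by
    rw [hce]
    exact Nat.mul_le_mul_right _ hc
  rcases hf with rfl | rfl | rfl | rfl | rfl
  · nlinarith
  · nlinarith
  · have h7 : w = d + 4 := by nlinarith
    subst h7
    have h8 : (d + 4) ∣ d ^ 2 + 5 * d + 7 := ⟨c' + 1, by rw [hce]; ring⟩
    have h9 : d ^ 2 + 5 * d + 7 = (d + 4) * (d + 1) + 3 := by ring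
    rw [h9] at h8
    have h10 := (Nat.dvd_add_right (dvd_mul_right _ _)).mp h8
    have := Nat.le_of_dvd (by norm_num) h10
    omega
  · nlinarith
  · nlinarith

omit [Finite G] R in
/-- From the class equations: the sum and product of the orders. -/
lemma two_classes_arith {x₁ x₂ c₁ c₂ Gg d : ℕ}
    (hx : 3 * (x₁ + x₂) = (d + 3) ^ 4 * ((d + 2) * (d + 4)) * (d + 1))
    (hG : Gg = (d + 3) ^ 3 * (d + 2) * ((d + 4) * (d ^ 2 + 5 * d + 7)))
    (h₁ : x₁ * (6 * c₁) = Gg * (c₁ - 1)) (h₂ : x₂ * (6 * c₂) = Gg * (c₂ - 1))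
    (hc₁ : 1 ≤ c₁) (hc₂ : 1 ≤ c₂) (hco : Nat.Coprime c₁ c₂)
    (hd₁ : c₁ ∣ d ^ 2 + 5 * d + 7) (hd₂ : c₂ ∣ d ^ 2 + 5 * d + 7)
    (hE2 : Nat.Coprime (d ^ 2 + 5 * d + 7) 2) (hE3 : Nat.Coprime (d ^ 2 + 5 * d + 7) 3) :
    c₁ * c₂ = d ^ 2 + 5 * d + 7 ∧ c₁ + c₂ = 2 * (d + 4) := by
  have hm : c₁ * c₂ ∣ d ^ 2 + 5 * d + 7 := hco.mul_dvd_of_dvd_of_dvd hd₁ hd₂
  obtain ⟨w, hw⟩ := hm
  obtain ⟨a, rfl⟩ : ∃ a, c₁ = a + 1 := ⟨c₁ - 1, by omega⟩
  obtain ⟨b, rfl⟩ : ∃ b, c₂ = b + 1 := ⟨c₂ - 1, by omega⟩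
  have e₁ : a + 1 - 1 = a := rfl
  have e₂ : b + 1 - 1 = b := rfl
  rw [e₁] at h₁
  rw [e₂] at h₂
  have h3 : (d + 3) ^ 3 * (d + 2) * (d + 4) * (2 * (a + 1) * (b + 1) * ((d + 3) * (d + 1))) =
      (d + 3) ^ 3 * (d + 2) * (d + 4) * ((d ^ 2 + 5 * d + 7) * (a * (b + 1) + b * (a + 1))) := by
    calc (d + 3) ^ 3 * (d + 2) * (d + 4) * (2 * (a + 1) * (b + 1) * ((d + 3) * (d + 1)))
        = 2 * (a + 1) * (b + 1) * ((d + 3) ^ 4 * ((d + 2) * (d + 4)) * (d + 1)) := by ring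
      _ = 2 * (a + 1) * (b + 1) * (3 * (x₁ + x₂)) := by rw [hx]
      _ = (x₁ * (6 * (a + 1))) * (b + 1) + (x₂ * (6 * (b + 1))) * (a + 1) := by ring
      _ = _ := by rw [h₁, h₂, hG]; ring
  have h4 := Nat.eq_of_mul_eq_mul_left (by positivity) h3
  have h5 : d ^ 2 + 5 * d + 7 = (a + 1) * (b + 1) * w := hw
  have h6 : w * ((a + 1) + (b + 1)) = 2 * (d + 4) := by
    have hpos : 0 < (a + 1) * (b + 1) := by positivity
    apply Nat.eq_of_mul_eq_mul_left hpos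
    zify at h4 h5 ⊢
    have e : (((a : ℤ) + 1) * (b + 1)) * (w * ((a + 1) + (b + 1)) - 2 * (d + 4)) = 0 := by
      have h7 : ((d : ℤ) ^ 2 + 5 * d + 7) = (a + 1) * (b + 1) * w := h5
      linear_combination h4 - ((a : ℤ) + 1 + ((b : ℤ) + 1)) * h7
    linarith
  have hw1 : w = 1 := by
    have hwn : w ∣ d ^ 2 + 5 * d + 7 := ⟨(a + 1) * (b + 1), by rw [h5]; ring⟩
    have hw2 : w ∣ 2 * (d + 4) := ⟨_, h6.symm⟩
    have hwodd : Nat.Coprime w 2 := Nat.Coprime.coprime_dvd_left hwn hE2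
    have hw3 : w ∣ d + 4 := hwodd.dvd_of_dvd_mul_left hw2
    have h11 : d ^ 2 + 5 * d + 7 = (d + 4) * (d + 1) + 3 := by ring
    rw [h11] at hwn
    have hw5 : w ∣ 3 := (Nat.dvd_add_right (hw3.mul_right (d + 1))).1 hwn
    have hw6 : Nat.Coprime w 3 := by
      apply Nat.Coprime.coprime_dvd_left ?_ hE3
      rw [h11]
      exact hwn
    exact Nat.Coprime.eq_one_of_dvd hw6 hw5
  subst hw1
  refine ⟨by rw [h5]; ring, ?_⟩
  rw [one_mul] at h6
  exact h6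

omit [Finite G] R in
/-- Solving the quadratic. -/
lemma quad_solve {c₁ c₂ d r : ℕ} (hprod : c₁ * c₂ = d ^ 2 + 5 * d + 7) (hsum : c₁ + c₂ = 2 * (d + 4))
    (hr : r ^ 2 = 3 * (d + 3)) :
    (c₁ = d + 4 + r ∧ c₂ + r = d + 4) ∨ (c₁ + r = d + 4 ∧ c₂ = d + 4 + r) := by
  have h1 : (c₁ : ℤ) * c₂ = d ^ 2 + 5 * d + 7 := by exact_mod_cast hprod
  have h2 : (c₁ : ℤ) + c₂ = 2 * (d + 4) := by exact_mod_cast hsum
  have h3 : (r : ℤ) ^ 2 = 3 * (d + 3) := by exact_mod_cast hr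
  have h4 : ((c₁ : ℤ) - (d + 4) - r) * ((c₁ : ℤ) - (d + 4) + r) = 0 := by
    linear_combination (-1 : ℤ) * h1 + (c₁ : ℤ) * h2 - h3
  rcases mul_eq_zero.1 h4 with h | h
  · left
    have hc1 : (c₁ : ℤ) = d + 4 + r := by linarith
    have hc1' : c₁ = d + 4 + r := by exact_mod_cast hc1
    exact ⟨hc1', by omega⟩
  · right
    have hc1 : (c₁ : ℤ) + r = d + 4 := by linarith
    have hc1' : c₁ + r = d + 4 := by exact_mod_cast hc1
    exact ⟨hc1', by omega⟩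

end arith

include R

/-- The structure of the classes. -/
theorem exists_two_classes : ∃ g₁ g₂ : G, g₁ ∈ RR G m ∧ g₂ ∈ RR G m ∧
    Disjoint (Xg g₁) (Xg g₂) ∧ RR G m = Xg g₁ ∪ Xg g₂ ∧
    Nat.card (Subgroup.normalizer ((Cz g₁ : Subgroup G) : Set G)) = 6 * Nat.card (Cz g₁) ∧
    Nat.card (Subgroup.normalizer ((Cz g₂ : Subgroup G) : Set G)) = 6 * Nat.card (Cz g₂) := by
  have hq27 := q_ge m R.hm
  have hx0 := card_RR R
  have hG0 := card_G R
  obtain ⟨d, hd⟩ : ∃ d, 3 ^ (2 * m + 1) = d + 3 := ⟨3 ^ (2 * m + 1) - 3, by omega⟩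
  have hd24 : 24 ≤ d := by omega
  rw [hd] at hx0 hG0
  have e1 : d + 3 - 1 = d + 2 := rfl
  have e3 : d + 3 + 1 = d + 4 := rfl
  have e4 : (d + 3) ^ 2 + 1 - (d + 3) = d ^ 2 + 5 * d + 7 := by
    have : (d + 3) ^ 2 + 1 = d ^ 2 + 5 * d + 7 + (d + 3) := by ring
    omega
  have e5 : (d + 3) ^ 2 - 1 = (d + 2) * (d + 4) := by
    have : (d + 3) ^ 2 = (d + 2) * (d + 4) + 1 := by ring
    omega
  have e7 : d + 3 - 2 = d + 1 := rfl
  rw [e5, e7] at hx0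
  rw [e1, e3, e4] at hG0
  have hlt := three_x_lt hx0 hG0
  have hfin : ∀ s : Set G, s.Finite := fun s => Set.toFinite s
  have hdvdE : ∀ {g : G}, g ∈ RR G m → Nat.card (Cz g) ∣ d ^ 2 + 5 * d + 7 := by
    intro g hg
    have := RR_dvd R hg
    rw [hd, e4] at this
    exact this
  -- a first element
  have hne : (RR G m).Nonempty := by
    by_contra h
    rw [Set.not_nonempty_iff_eq_empty] at h
    rw [h, Set.ncard_empty] at hx0
    have : 0 < (d + 3) ^ 4 * ((d + 2) * (d + 4)) * (d + 1) := by positivity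
    omega
  obtain ⟨g₁, hg₁⟩ := hne
  obtain ⟨f₁, hf₁, hN₁⟩ := exists_index R hg₁
  have heq₁ := class_eq R hg₁
  rw [hN₁, ← mul_assoc] at heq₁
  rw [mul_assoc] at heq₁
  have hc₁ := card_Cz_ge R hg₁
  have hlow₁ := class_lower heq₁ hc₁
  -- the class of `g₁` is not everything
  obtain ⟨g₂, hg₂, hg₂'⟩ : ∃ g₂ ∈ RR G m, g₂ ∉ Xg g₁ := by
    by_contra hall
    push Not at hall
    have hXeq : Xg g₁ = RR G m := Set.Subset.antisymm (Xg_subset R hg₁) hall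
    rw [hXeq] at heq₁
    obtain ⟨w, hw⟩ := hdvdE hg₁
    exact one_class_false (by omega) hf₁ hx0 hG0 heq₁ hc₁ hw
  have hdis := disjoint_Xg R hg₁ hg₂ hg₂'
  obtain ⟨f₂, hf₂, hN₂⟩ := exists_index R hg₂
  have heq₂ := class_eq R hg₂
  rw [hN₂, ← mul_assoc, mul_assoc] at heq₂
  have hc₂ := card_Cz_ge R hg₂
  have hlow₂ := class_lower heq₂ hc₂
  have hsub : Xg g₁ ∪ Xg g₂ ⊆ RR G m := Set.union_subset (Xg_subset R hg₁) (Xg_subset R hg₂)
  have hsum : (Xg g₁).ncard + (Xg g₂).ncard ≤ (RR G m).ncard := by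
    rw [← Set.ncard_union_eq hdis (hfin _) (hfin _)]
    exact Set.ncard_le_ncard hsub (hfin _)
  have hle6 : ∀ f : ℕ, (f = 1 ∨ f = 2 ∨ f = 3 ∨ f = 4 ∨ f = 6) → f ≤ 6 := by
    rintro f (rfl | rfl | rfl | rfl | rfl) <;> norm_num
  have hlow₁' : 6 * Nat.card G ≤ 7 * (Xg g₁).ncard * 6 :=
    hlow₁.trans (Nat.mul_le_mul_left _ (hle6 _ hf₁))
  have hlow₂' : 6 * Nat.card G ≤ 7 * (Xg g₂).ncard * 6 :=
    hlow₂.trans (Nat.mul_le_mul_left _ (hle6 _ hf₂))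
  have hf₁6 : f₁ = 6 := by
    rcases hf₁ with rfl | rfl | rfl | rfl | rfl
    · omega
    · omega
    · omega
    · omega
    · rfl
  have hf₂6 : f₂ = 6 := by
    rcases hf₂ with rfl | rfl | rfl | rfl | rfl
    · omega
    · omega
    · omega
    · omega
    · rfl
  subst hf₁6 hf₂6
  refine ⟨g₁, g₂, hg₁, hg₂, hdis, ?_, hN₁, hN₂⟩
  -- no third class
  apply Set.Subset.antisymm _ hsub
  intro g₃ hg₃
  by_contra h3
  rw [Set.mem_union, not_or] at h3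
  have hdis₁ := disjoint_Xg R hg₁ hg₃ h3.1
  have hdis₂ := disjoint_Xg R hg₂ hg₃ h3.2
  obtain ⟨f₃, hf₃, hN₃⟩ := exists_index R hg₃
  have heq₃ := class_eq R hg₃
  rw [hN₃, ← mul_assoc, mul_assoc] at heq₃
  have hlow₃ := class_lower heq₃ (card_Cz_ge R hg₃)
  have hdis₁₂ : Disjoint (Xg g₁ ∪ Xg g₂) (Xg g₃) := Set.disjoint_union_left.2 ⟨hdis₁, hdis₂⟩
  have hsub3 : Xg g₁ ∪ Xg g₂ ∪ Xg g₃ ⊆ RR G m := Set.union_subset hsub (Xg_subset R hg₃)
  have hsum3 : (Xg g₁).ncard + (Xg g₂).ncard + (Xg g₃).ncard ≤ (RR G m).ncard := by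
    rw [← Set.ncard_union_eq hdis (hfin _) (hfin _), ← Set.ncard_union_eq hdis₁₂ (hfin _) (hfin _)]
    exact Set.ncard_le_ncard hsub3 (hfin _)
  have hf₃6 := hle6 _ hf₃
  have h5x : 6 * Nat.card G ≤ 7 * (Xg g₃).ncard * 6 :=
    hlow₃.trans (Nat.mul_le_mul_left _ hf₃6)
  omega

/-- The two orders. -/
theorem orders_of_classes : ∃ g₁ g₂ : G, g₁ ∈ RR G m ∧ g₂ ∈ RR G m ∧ RR G m = Xg g₁ ∪ Xg g₂ ∧
    Nat.card (Cz g₁) = 3 ^ (2 * m + 1) - 3 ^ (m + 1) + 1 ∧ Nat.card (Cz g₂) = 3 ^ (2 * m + 1) + 3 ^ (m + 1) + 1 ∧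
    Nat.card (Subgroup.normalizer ((Cz g₁ : Subgroup G) : Set G)) = 6 * (3 ^ (2 * m + 1) - 3 ^ (m + 1) + 1) ∧
    Nat.card (Subgroup.normalizer ((Cz g₂ : Subgroup G) : Set G)) = 6 * (3 ^ (2 * m + 1) + 3 ^ (m + 1) + 1) := by
  obtain ⟨g₁, g₂, hg₁, hg₂, hdis, hRR, hN₁, hN₂⟩ := exists_two_classes R
  have hq27 := q_ge m R.hm
  have hx0 := card_RR R
  have hG0 := card_G R
  have hfacts := q_facts m
  obtain ⟨d, hd⟩ : ∃ d, 3 ^ (2 * m + 1) = d + 3 := ⟨3 ^ (2 * m + 1) - 3, by omega⟩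
  rw [hd] at hx0 hG0
  have e1 : d + 3 - 1 = d + 2 := rfl
  have e3 : d + 3 + 1 = d + 4 := rfl
  have e4 : (d + 3) ^ 2 + 1 - (d + 3) = d ^ 2 + 5 * d + 7 := by
    have : (d + 3) ^ 2 + 1 = d ^ 2 + 5 * d + 7 + (d + 3) := by ring
    omega
  have e5 : (d + 3) ^ 2 - 1 = (d + 2) * (d + 4) := by
    have : (d + 3) ^ 2 = (d + 2) * (d + 4) + 1 := by ring
    omega
  have e7 : d + 3 - 2 = d + 1 := rfl
  rw [e5, e7] at hx0
  rw [e1, e3, e4] at hG0
  have heq₁ := class_eq R hg₁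
  have heq₂ := class_eq R hg₂
  rw [hN₁, ← mul_assoc, mul_assoc] at heq₁
  rw [hN₂, ← mul_assoc, mul_assoc] at heq₂
  have hx' : 3 * ((Xg g₁).ncard + (Xg g₂).ncard) = (d + 3) ^ 4 * ((d + 2) * (d + 4)) * (d + 1) := by
    rw [← Set.ncard_union_eq hdis (Set.toFinite _) (Set.toFinite _), ← hRR, hx0]
  have hco := coprime_of_disjoint R hg₁ hg₂ hdis
  have hd₁ := RR_dvd R hg₁
  have hd₂ := RR_dvd R hg₂
  have hE : ∀ p, p.Prime → p ∣ d ^ 2 + 5 * d + 7 → p ≠ 2 ∧ p ≠ 3 := by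
    intro p hp hpd
    have : p ∣ (3 ^ (2 * m + 1)) ^ 2 + 1 - 3 ^ (2 * m + 1) := by
      rw [hd, e4]
      exact hpd
    obtain ⟨h2, h3, -⟩ := prime_D hp this
    exact ⟨h2, h3⟩
  have hE2 : Nat.Coprime (d ^ 2 + 5 * d + 7) 2 := by
    rw [Nat.coprime_comm, Nat.Prime.coprime_iff_not_dvd Nat.prime_two]
    intro h
    exact (hE 2 Nat.prime_two h).1 rfl
  have hE3 : Nat.Coprime (d ^ 2 + 5 * d + 7) 3 := by
    rw [Nat.coprime_comm, Nat.Prime.coprime_iff_not_dvd Nat.prime_three]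
    intro h
    exact (hE 3 Nat.prime_three h).2 rfl
  rw [hd, e4] at hd₁ hd₂
  obtain ⟨hprod, hsum⟩ := two_classes_arith hx' hG0 heq₁ heq₂
    (by have := card_Cz_ge R hg₁; omega) (by have := card_Cz_ge R hg₂; omega) hco hd₁ hd₂ hE2 hE3
  set c₁ := Nat.card (Cz g₁) with hc₁
  set c₂ := Nat.card (Cz g₂) with hc₂
  set r := 3 ^ (m + 1) with hr
  have hrr : r ^ 2 = 3 * (d + 3) := by
    rw [← hd, hr]
    ring
  have hquad := quad_solve hprod hsum hrr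
  have hq2 : 3 ^ (2 * m + 1) - r + 1 = d + 3 - r + 1 := by rw [hd]
  have hq3 : 3 ^ (2 * m + 1) + r + 1 = d + 3 + r + 1 := by rw [hd]
  have hrle : r ≤ d + 3 := by
    have : r ^ 2 = r * r := by ring
    have h3r : 3 ≤ r := by
      rw [hr, pow_succ]
      have : 1 ≤ 3 ^ m := Nat.one_le_pow _ _ (by norm_num)
      omega
    nlinarith
  rcases hquad with ⟨h1, h2⟩ | ⟨h1, h2⟩
  · refine ⟨g₂, g₁, hg₂, hg₁, ?_, ?_, ?_, ?_, ?_⟩
    · rw [hRR, Set.union_comm]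
    · rw [← hc₂]
      omega
    · rw [← hc₁]
      omega
    · rw [hN₂]
      congr 1
      omega
    · rw [hN₁]
      congr 1
      omega
  · refine ⟨g₁, g₂, hg₁, hg₂, hRR, ?_, ?_, ?_, ?_⟩
    · rw [← hc₁]
      omega
    · rw [← hc₂]
      omega
    · rw [hN₁]
      congr 1
      omega
    · rw [hN₂]
      congr 1
      omega

end Cfsg.Agent.Lib.ReeG2.Ab3
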