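import Cfsg.Agent.Lib.ReeG2.Ab3

/-!
# Abstract Ree-type groups: the Hall subgroups and the element orders
-/

set_option autoImplicit false
set_option linter.unusedSectionVars false
set_option linter.unusedVariables false
set_option linter.unusedTactic false
set_option linter.unreachableTactic false

namespace Cfsg.Agent.Lib.ReeG2.Ab4

open Cfsg.Agent.Lib.ReeG2.Rank1 Cfsg.Agent.Lib.ReeG2.Rank1.Sp Cfsg.Agent.Lib.ReeG2.Ab1 Cfsg.Agent.Lib.ReeG2.Ab2
  Cfsg.Agent.Lib.ReeG2.Ab3

variable {G : Type*} [Group G] [Finite G]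

lemma pow_card_sub {A₀ : Subgroup G} {y : G} (hy : y ∈ A₀) : y ^ Nat.card A₀ = 1 := by
  have : ((⟨y, hy⟩ : A₀) ^ Nat.card A₀) = 1 := pow_card_eq_one'
  exact congrArg Subtype.val this

/-- An element of a cyclic subgroup killed by the order of a subgroup lies in this subgroup. -/
lemma mem_of_pow_card {A A₀ : Subgroup G} (hcyc : IsCyclic A) (h0 : A₀ ≤ A) {z : G} (hz : z ∈ A)
    (hzk : z ^ Nat.card A₀ = 1) : z ∈ A₀ := by
  classical
  letI := Fintype.ofFinite A
  have hk : 0 < Nat.card A₀ := Nat.card_pos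
  have hle := IsCyclic.card_pow_eq_one_le (α := A) hk
  let S0 : Finset A := Finset.univ.filter (fun a : A => a ∈ A₀.subgroupOf A)
  have hS0 : S0.card = Nat.card A₀ := by
    have e1 : S0.card = Nat.card (A₀.subgroupOf A) := by
      rw [Nat.card_eq_fintype_card, Fintype.card_subtype]
    rw [e1]
    exact Nat.card_congr (Subgroup.subgroupOfEquivOfLe h0).toEquiv
  have hsub : S0 ⊆ Finset.univ.filter (fun a : A => a ^ Nat.card A₀ = 1) := by
    intro a ha
    simp only [S0, Finset.mem_filter, Finset.mem_univ, true_and, Subgroup.mem_subgroupOf] at ha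
    simp only [Finset.mem_filter, Finset.mem_univ, true_and]
    apply Subtype.ext
    exact pow_card_sub ha
  have heq := Finset.eq_of_subset_of_card_le hsub (by rw [hS0]; exact hle)
  have hmem : (⟨z, hz⟩ : A) ∈ Finset.univ.filter (fun a : A => a ^ Nat.card A₀ = 1) := by
    simp only [Finset.mem_filter, Finset.mem_univ, true_and]
    apply Subtype.ext
    simpa using hzk
  rw [← heq] at hmem
  simp only [S0, Finset.mem_filter, Finset.mem_univ, true_and, Subgroup.mem_subgroupOf] at hmem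
  exact hmem

/-- Subgroups of a cyclic group are normalised by its normaliser. -/
lemma norm_ge {A A₀ : Subgroup G} (hcyc : IsCyclic A) (h0 : A₀ ≤ A) :
    Subgroup.normalizer (A : Set G) ≤ Subgroup.normalizer (A₀ : Set G) := by
  have key : ∀ x ∈ Subgroup.normalizer (A : Set G), ∀ y ∈ A₀, x * y * x⁻¹ ∈ A₀ := by
    intro x hx y hy
    apply mem_of_pow_card hcyc h0
    · exact (Subgroup.mem_normalizer_iff.mp hx y).mp (h0 hy)
    · rw [conj_pow]
      rw [pow_card_sub hy]
      group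
  intro x hx
  rw [Subgroup.mem_normalizer_iff]
  intro y
  constructor
  · exact key x hx y
  · intro h
    have := key x⁻¹ (inv_mem hx) _ h
    simpa [mul_assoc] using this

/-- One half of the statement. -/
lemma norm_le {A C A₀ : Subgroup G} (hC : ∀ y ∈ A, y ≠ 1 → Cz y = C) (h0 : A₀ ≤ A) (hne : A₀ ≠ ⊥) :
    Subgroup.normalizer (A₀ : Set G) ≤ Subgroup.normalizer (C : Set G) := by
  intro x hx
  obtain ⟨y, hy, hy1⟩ := (Subgroup.bot_or_exists_ne_one A₀).resolve_left hne
  have h1 := (Subgroup.mem_normalizer_iff.mp hx y).mp hy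
  refine normalizer_of_centralizer (hC y (h0 hy) hy1) (hC _ (h0 h1) ?_)
  intro h
  apply hy1
  have e : y = x⁻¹ * (x * y * x⁻¹) * x := by group
  rw [e, h]
  group

/-- The main general statement. -/
theorem norm_eq {A C A₀ : Subgroup G} (hcyc : IsCyclic A) (hC : ∀ y ∈ A, y ≠ 1 → Cz y = C)
    (hchar : Subgroup.normalizer (C : Set G) ≤ Subgroup.normalizer (A : Set G)) (h0 : A₀ ≤ A) (hne : A₀ ≠ ⊥) :
    Subgroup.normalizer (A₀ : Set G) = Subgroup.normalizer (A : Set G) :=
  le_antisymm ((norm_le hC h0 hne).trans hchar) (norm_ge hcyc h0)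

lemma norm_eq_C {A C : Subgroup G} (hC : ∀ y ∈ A, y ≠ 1 → Cz y = C)
    (hchar : Subgroup.normalizer (C : Set G) ≤ Subgroup.normalizer (A : Set G)) (hne : A ≠ ⊥) :
    Subgroup.normalizer (A : Set G) = Subgroup.normalizer (C : Set G) :=
  le_antisymm (norm_le hC le_rfl hne) hchar

lemma ne_bot_of_card {A : Subgroup G} (h : 1 < Nat.card A) : A ≠ ⊥ := by
  rintro rfl
  simp at h

lemma conj_pow' (z y : G) (k : ℕ) : (z⁻¹ * y * z) ^ k = z⁻¹ * y ^ k * z := by
  have := conj_pow (a := z⁻¹) (b := y) (i := k)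
  simpa using this

/-- Conjugate elements have the same order. -/
lemma order_conj (t g : G) : orderOf (t * g * t⁻¹) = orderOf g := by
  have := (MulAut.conj t).orderOf_eq g
  simpa [MulAut.conj_apply] using this

lemma k1_aux (q : ℕ) (h : q % 8 = 3) : ∃ k, q - 1 = 2 * k ∧ Odd k ∧ (q - 1) / 2 = k :=
  ⟨(q - 1) / 2, by omega, by rw [Nat.odd_iff]; omega, rfl⟩

lemma k1_facts (m : ℕ) : ∃ k, 3 ^ (2 * m + 1) - 1 = 2 * k ∧ Odd k ∧ (3 ^ (2 * m + 1) - 1) / 2 = k :=
  k1_aux _ (q_facts m).1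

variable {U H M A : Subgroup G} {n a : G} {m : ℕ} (R : Rd U H M A n a m)

include R

/-! ### The Hall subgroup of order `(q+1)/4`. -/

lemma A_C {y : G} (hy : y ∈ A) (hy1 : y ≠ 1) : Cz y = M := by
  obtain ⟨hM, hk⟩ := (R.A_iff y).mp hy
  obtain ⟨k, -, hodd, -, hk4⟩ := k_facts m
  rw [hk4] at hk
  exact R.M_C y hM (Odd.of_dvd_nat hodd (orderOf_dvd_of_pow_eq_one hk)) hy1

lemma A_char : Subgroup.normalizer (M : Set G) ≤ Subgroup.normalizer (A : Set G) := by
  intro x hx
  rw [Subgroup.mem_normalizer_iff]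
  intro y
  rw [R.A_iff, R.A_iff, ← Subgroup.mem_normalizer_iff.mp hx y, conj_pow]
  constructor
  · rintro ⟨h1, h2⟩
    refine ⟨h1, ?_⟩
    rw [h2]
    group
  · rintro ⟨h1, h2⟩
    refine ⟨h1, ?_⟩
    have e : x⁻¹ * (x * y ^ ((3 ^ (2 * m + 1) + 1) / 4) * x⁻¹) * x = y ^ ((3 ^ (2 * m + 1) + 1) / 4) := by group
    rw [← e, h2]
    group

lemma one_lt_k : 1 < (3 ^ (2 * m + 1) + 1) / 4 := by
  have := q_ge m R.hm
  omega

theorem hall_A : IsCyclic A ∧ Nat.card A = (3 ^ (2 * m + 1) + 1) / 4 ∧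
    Nat.card (Subgroup.normalizer (A : Set G)) = 6 * (3 ^ (2 * m + 1) + 1) ∧
    ∀ A₀ : Subgroup G, A₀ ≤ A → A₀ ≠ ⊥ → Subgroup.normalizer (A₀ : Set G) = Subgroup.normalizer (A : Set G) := by
  refine ⟨R.A_cyc, R.A_card, ?_, ?_⟩
  · rw [norm_eq_C (fun y hy hy1 => A_C R hy hy1) (A_char R), R.M_N]
    apply ne_bot_of_card
    rw [R.A_card]
    exact one_lt_k R
  · intro A₀ h0 hne
    exact norm_eq R.A_cyc (fun y hy hy1 => A_C R hy hy1) (A_char R) h0 hne

/-! ### The Hall subgroups of order `q ∓ r + 1`. -/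

theorem hall_Y {g : G} (hg : g ∈ RR G m) : ∀ A₀ : Subgroup G, A₀ ≤ Cz g → A₀ ≠ ⊥ →
    Subgroup.normalizer (A₀ : Set G) = Subgroup.normalizer ((Cz g : Subgroup G) : Set G) := by
  intro A₀ h0 hne
  exact norm_eq (RR_cyc R hg) (fun y hy hy1 => Cz_eq R hg hy hy1) le_rfl h0 hne

/-! ### The Hall subgroup of order `(q-1)/2`. -/

/-- The normaliser of the torus. -/
theorem N_H_iff {x : G} : x ∈ Subgroup.normalizer (H : Set G) ↔ x ∈ H ∨ n * x ∈ H := by
  have S := R.S
  constructor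
  · intro hx
    -- a generator of `H`
    have hc := R.cycH
    obtain ⟨g, hg⟩ := IsCyclic.exists_generator (α := H)
    have hord : orderOf (g : G) = 3 ^ (2 * m + 1) - 1 := by
      rw [Subgroup.orderOf_coe, orderOf_eq_card_of_forall_mem_zpowers hg, R.cardH]
    have hq := q_ge m R.hm
    have hg2 : (g : G) * (g : G) ≠ 1 := by
      intro h
      have : orderOf (g : G) ∣ 2 := orderOf_dvd_of_pow_eq_one (by rw [pow_two, h])
      rw [hord] at this
      have := Nat.le_of_dvd (by norm_num) this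
      omega
    have h' : x * (g : G) * x⁻¹ ∈ H := (Subgroup.mem_normalizer_iff.mp hx g).mp g.2
    have h'2 : (x * (g : G) * x⁻¹) * (x * (g : G) * x⁻¹) ≠ 1 := by
      intro h
      apply hg2
      have e : (x * (g : G) * x⁻¹) * (x * (g : G) * x⁻¹) = x * ((g : G) * (g : G)) * x⁻¹ := by group
      rw [e] at h
      have e2 : (g : G) * (g : G) = x⁻¹ * (x * ((g : G) * (g : G)) * x⁻¹) * x := by group
      rw [e2, h]
      group
    have hgfix := (S.stab_two).mpr g.2
    have hfix : ∀ y : Om U H, (g : G) • y = y → (x * (g : G) * x⁻¹) • (x • y) = x • y := by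
      intro y hy
      rw [← mul_smul]
      have e : x * (g : G) * x⁻¹ * x = x * (g : G) := by group
      rw [e, mul_smul, hy]
    have h1 := fix_H R h' h'2 (hfix _ hgfix.1)
    have h2 := fix_H R h' h'2 (hfix _ hgfix.2)
    have hinj : x • inf U H ≠ x • pt U H n 1 := by
      intro h
      exact S.inf_ne_pt (one_mem U) (smul_left_cancel x h).symm
    rcases h1 with h1 | h1
    · left
      rcases h2 with h2 | h2
      · exact absurd (h1.trans h2.symm) hinj
      · exact (S.stab_two).mp ⟨h1, h2⟩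
    · right
      rcases h2 with h2 | h2
      · apply (S.stab_two).mp
        have hn1 : n • inf U H = pt U H n 1 := by
          rw [S.smul_inf, pt, one_mul]
        have hn2 : n • pt U H n 1 = inf U H := by
          rw [S.smul_pt, pt, inf, mul_one, S.n_sq]
        constructor
        · rw [mul_smul, h1, hn2]
        · rw [mul_smul, h2, hn1]
      · exact absurd (h1.trans h2.symm) hinj
  · have hnN : n ∈ Subgroup.normalizer (H : Set G) := by
      rw [Subgroup.mem_normalizer_iff]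
      intro y
      rw [S.n_inv]
      constructor
      · exact S.n_H y
      · intro h
        have := S.n_H _ h
        have e : n * (n * y * n) * n = y := by
          calc n * (n * y * n) * n = (n * n) * y * (n * n) := by group
            _ = y := by rw [S.n_sq]; group
        rwa [e] at this
    rintro (h | h)
    · exact Subgroup.le_normalizer h
    · have : x = n * (n * x) := (S.nn x).symm
      rw [this]
      exact mul_mem hnN (Subgroup.le_normalizer h)

/-- The order of the normaliser of the torus. -/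
theorem card_N_H : Nat.card (Subgroup.normalizer (H : Set G)) = 2 * (3 ^ (2 * m + 1) - 1) := by
  have S := R.S
  let f : H × Bool → Subgroup.normalizer (H : Set G) := fun p =>
    match p with
    | (h, false) => ⟨h.1, (N_H_iff R).mpr (Or.inl h.2)⟩
    | (h, true) => ⟨n * h.1, (N_H_iff R).mpr (Or.inr (by rw [S.nn]; exact h.2))⟩
  have hf : Function.Bijective f := by
    constructor
    · rintro ⟨h, b⟩ ⟨h', b'⟩ e
      have hnH : n ∉ H := fun hn => S.n_not_mem (H_le_B hn)
      cases b <;> cases b'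
      · have : h.1 = h'.1 := congrArg (fun x : Subgroup.normalizer (H : Set G) => (x : G)) e
        rw [Subtype.ext this]
      · exfalso
        have e' : h.1 = n * h'.1 := congrArg Subtype.val e
        apply hnH
        have : n = h.1 * h'.1⁻¹ := by rw [e']; group
        rw [this]
        exact mul_mem h.2 (inv_mem h'.2)
      · exfalso
        have e' : n * h.1 = h'.1 := congrArg Subtype.val e
        apply hnH
        have : n = h'.1 * h.1⁻¹ := by rw [← e']; group
        rw [this]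
        exact mul_mem h'.2 (inv_mem h.2)
      · have e' : n * h.1 = n * h'.1 := congrArg Subtype.val e
        rw [Subtype.ext (mul_left_cancel e')]
    · rintro ⟨x, hx⟩
      rcases (N_H_iff R).mp hx with h | h
      · exact ⟨(⟨x, h⟩, false), rfl⟩
      · refine ⟨(⟨n * x, h⟩, true), ?_⟩
        apply Subtype.ext
        exact S.nn x
  rw [← Nat.card_congr (Equiv.ofBijective f hf), Nat.card_prod, R.cardH, Nat.card_eq_fintype_card (α := Bool),
    Fintype.card_bool, mul_comm]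

lemma exists_cyclic_half : ∃ A₁ : Subgroup G, A₁ ≤ H ∧ IsCyclic A₁ ∧ Nat.card A₁ = (3 ^ (2 * m + 1) - 1) / 2 := by
  have hc := R.cycH
  obtain ⟨g, hg⟩ := IsCyclic.exists_generator (α := H)
  have hord : orderOf (g : G) = 3 ^ (2 * m + 1) - 1 := by
    rw [Subgroup.orderOf_coe, orderOf_eq_card_of_forall_mem_zpowers hg, R.cardH]
  obtain ⟨k, hk, hodd, hk2⟩ := k1_facts m
  refine ⟨Subgroup.zpowers ((g : G) ^ 2), ?_, inferInstance, ?_⟩
  · rw [Subgroup.zpowers_le]
    exact pow_mem g.2 2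
  · rw [Nat.card_zpowers, orderOf_pow' _ (by norm_num), hord, hk2, hk, Nat.gcd_eq_right (dvd_mul_right 2 k),
      Nat.mul_div_cancel_left _ (by norm_num)]

theorem hall_half : ∃ A₁ : Subgroup G, IsCyclic A₁ ∧ Nat.card A₁ = (3 ^ (2 * m + 1) - 1) / 2 ∧
    Nat.card (Subgroup.normalizer (A₁ : Set G)) = 2 * (3 ^ (2 * m + 1) - 1) ∧
    ∀ A₀ : Subgroup G, A₀ ≤ A₁ → A₀ ≠ ⊥ → Subgroup.normalizer (A₀ : Set G) = Subgroup.normalizer (A₁ : Set G) := by
  obtain ⟨A₁, hle, hcyc, hcard⟩ := exists_cyclic_half R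
  obtain ⟨k, hk, hodd, hk2⟩ := k1_facts m
  have hC : ∀ y ∈ A₁, y ≠ 1 → Cz y = H := by
    intro y hy hy1
    have hy2 : y * y ≠ 1 := by
      intro h
      have h2 : orderOf y ∣ 2 := orderOf_dvd_of_pow_eq_one (by rw [pow_two, h])
      have h3 : orderOf y ∣ k := by
        apply orderOf_dvd_of_pow_eq_one
        rw [← hk2, ← hcard]
        exact pow_card_sub hy
      have h4 : Nat.Coprime 2 k := (Nat.coprime_two_left).mpr hodd
      have h5 : orderOf y = 1 := Nat.eq_one_of_dvd_coprimes h4 h2 h3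
      exact hy1 (orderOf_eq_one_iff.mp h5)
    ext x
    constructor
    · intro hx
      exact comm_H R (hle hy) hy2 (mem_Cz.mp hx)
    · intro hx
      exact mem_Cz.mpr (comm_of_cyclic R.cycH hx (hle hy))
  have hchar := norm_ge (A := H) (A₀ := A₁) R.cycH hle
  refine ⟨A₁, hcyc, hcard, ?_, ?_⟩
  · rw [norm_eq_C hC hchar, card_N_H R]
    apply ne_bot_of_card
    rw [hcard, hk2]
    have := q_ge m R.hm
    have : 26 ≤ 2 * k := by omega
    omega
  · intro A₀ h0 hne
    exact norm_eq hcyc hC hchar h0 hne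

/-- The statement in the abstract setting. -/
theorem hall_all : ∀ kn ∈ ({((3 ^ (2 * m + 1) - 1) / 2, 2 * (3 ^ (2 * m + 1) - 1)), ((3 ^ (2 * m + 1) + 1) / 4, 6 * (3 ^ (2 * m + 1) + 1)),
        (3 ^ (2 * m + 1) - 3 ^ (m + 1) + 1, 6 * (3 ^ (2 * m + 1) - 3 ^ (m + 1) + 1)),
        (3 ^ (2 * m + 1) + 3 ^ (m + 1) + 1, 6 * (3 ^ (2 * m + 1) + 3 ^ (m + 1) + 1))} : Set (ℕ × ℕ)),
      ∃ A : Subgroup G, IsCyclic A ∧ Nat.card A = kn.1 ∧
        Nat.card (Subgroup.normalizer (A : Set G)) = kn.2 ∧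
        ∀ A₀ : Subgroup G, A₀ ≤ A → A₀ ≠ ⊥ →
          Subgroup.normalizer (A₀ : Set G) = Subgroup.normalizer (A : Set G) := by
  obtain ⟨g₁, g₂, hg₁, hg₂, -, hc₁, hc₂, hn₁, hn₂⟩ := orders_of_classes R
  intro kn hkn
  simp only [Set.mem_insert_iff, Set.mem_singleton_iff] at hkn
  rcases hkn with rfl | rfl | rfl | rfl
  · exact hall_half R
  · exact ⟨A, hall_A R⟩
  · exact ⟨Cz g₁, RR_cyc R hg₁, hc₁, hn₁, hall_Y R hg₁⟩
  · exact ⟨Cz g₂, RR_cyc R hg₂, hc₂, hn₂, hall_Y R hg₂⟩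

/-! ### Element orders -/

/-- A `3`-element commuting with `a`. -/
lemma three_elt_C {w : G} (hc : w * a = a * w) (h9 : w ^ 9 = 1) : w ^ 3 = 1 := by
  let Γ := Cz a
  let K : Subgroup Γ := (U ⊓ Cz a).subgroupOf Γ
  have hcK : Nat.card K = 3 ^ (2 * m + 1) := by
    rw [← R.CUa]
    exact Nat.card_congr (Subgroup.subgroupOfEquivOfLe inf_le_right).toEquiv
  have hidx : K.index = (3 ^ (2 * m + 1)) ^ 2 - 1 := by
    have h1 := Subgroup.card_mul_index K
    have h2 : Nat.card Γ = 3 ^ (2 * m + 1) * ((3 ^ (2 * m + 1)) ^ 2 - 1) := R.Ca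
    rw [h2, hcK] at h1
    exact Nat.eq_of_mul_eq_mul_left (by positivity) h1
  haveI : Fact (Nat.Prime 3) := ⟨Nat.prime_three⟩
  have h3 : ¬ 3 ∣ K.index := by
    rw [hidx]
    have hq := q_ge m R.hm
    have hq3 := (q_facts m).2.2
    obtain ⟨c, hc⟩ : 3 ∣ 3 ^ (2 * m + 1) := Nat.dvd_of_mod_eq_zero hq3
    rw [hc]
    intro h
    obtain ⟨e, he⟩ := h
    have hc1 : 1 ≤ c := by omega
    have e2 : (3 * c) ^ 2 = 3 * (3 * c * c) := by ring
    have h5 : 3 * (3 * c * c) = 3 * e + 1 := by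
      have : 1 ≤ (3 * c) ^ 2 := Nat.one_le_pow _ _ (by omega)
      omega
    omega
  let w' : Γ := ⟨w, mem_Cz.mpr hc⟩
  have hP : IsPGroup 3 (Subgroup.zpowers w') := by
    rintro ⟨x, i, rfl⟩
    refine ⟨2, ?_⟩
    apply Subtype.ext
    apply Subtype.ext
    have h9' : w' ^ 9 = 1 := Subtype.ext h9
    show ((w' ^ i) ^ (3 ^ 2) : Γ).1 = 1
    rw [show (3 : ℕ) ^ 2 = 9 by norm_num, ← zpow_natCast, ← zpow_mul, mul_comm, zpow_mul, zpow_natCast, h9', one_zpow]
    rfl
  obtain ⟨γ, hγ⟩ := Cfsg.Agent.Lib.ReeG2.GL7.exists_conj_le K h3 _ hP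
  have h1 := hγ w' (Subgroup.mem_zpowers w')
  rw [Subgroup.mem_subgroupOf] at h1
  have h2 : (γ : G)⁻¹ * w * (γ : G) ∈ U ⊓ Cz a := h1
  have h4 := R.CUa3 _ h2.1 (mem_Cz.mp h2.2)
  rw [conj_pow'] at h4
  have e2 : w ^ 3 = (γ : G) * ((γ : G)⁻¹ * w ^ 3 * (γ : G)) * (γ : G)⁻¹ := by group
  rw [e2, h4]
  group

/-- Orders of the elements of the Borel subgroup. -/
theorem order_B {u h : G} (hu : u ∈ U) (hh : h ∈ H) :
    orderOf (u * h) ∣ 6 ∨ orderOf (u * h) ∣ 9 ∨ orderOf (u * h) ∣ 3 ^ (2 * m + 1) - 1 := by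
  have S := R.S
  by_cases h1 : h = 1
  · subst h1
    right
    left
    rw [mul_one]
    exact orderOf_dvd_of_pow_eq_one (R.U9 u hu)
  by_cases ha : h = a
  · subst ha
    left
    set g := u * h with hg
    have hainv : h⁻¹ = h := inv_eq_of_mul_eq_one_left R.a_sq
    have hgg : g * g ∈ U := by
      have e : g * g = u * (h * u * h⁻¹) := by
        rw [hainv, hg]
        group
      rw [e]
      exact mul_mem hu (S.H_U _ hh _ hu)
    have h18 : g ^ 18 = 1 := by
      have e : g ^ 18 = (g * g) ^ 9 := by rw [← pow_two, ← pow_mul]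
      rw [e]
      exact R.U9 _ hgg
    have ht : g ^ 9 * g ^ 9 = 1 := by
      rw [← pow_add]
      exact h18
    have hy : g ^ 10 ∈ U := by
      have e : g ^ 10 = (g * g) ^ 5 := by rw [← pow_two, ← pow_mul]
      rw [e]
      exact pow_mem hgg 5
    have ht1 : g ^ 9 ≠ 1 := by
      intro h9
      have e : g = g ^ 10 := by
        rw [show 10 = 9 + 1 from rfl, pow_succ, h9, one_mul]
      have hgU : g ∈ U := by
        rw [e]
        exact hy
      have : h ∈ U := by
        have e2 : h = u⁻¹ * g := by rw [hg]; group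
        rw [e2]
        exact mul_mem (inv_mem hu) hgU
      exact R.a_ne (S.U_H _ this hh)
    obtain ⟨z, hz⟩ := R.inv_conj _ ht ht1
    -- `y = g ^ 10` has `y ^ 3 = 1`
    set y := g ^ 10 with hyd
    have hcomm : y * g ^ 9 = g ^ 9 * y := by
      rw [hyd, ← pow_add, ← pow_add]
    have hw : (z⁻¹ * y * z) ^ 3 = 1 := by
      apply three_elt_C R
      · have e : h = z⁻¹ * g ^ 9 * z := by rw [hz]; group
        calc z⁻¹ * y * z * h = z⁻¹ * (y * g ^ 9) * z := by rw [e]; group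
          _ = z⁻¹ * (g ^ 9 * y) * z := by rw [hcomm]
          _ = h * (z⁻¹ * y * z) := by rw [e]; group
      · rw [conj_pow', R.U9 _ hy]
        group
    have hy3 : y ^ 3 = 1 := by
      rw [conj_pow'] at hw
      have e2 : y ^ 3 = z * (z⁻¹ * y ^ 3 * z) * z⁻¹ := by group
      rw [e2, hw]
      group
    apply orderOf_dvd_of_pow_eq_one
    -- `g ^ 6 = g ^ 60`
    have e : g ^ 6 = (y ^ 3) ^ 2 * (g ^ 18) ^ (-3 : ℤ) := by
      rw [hyd, ← pow_mul, ← pow_mul]
      rw [← zpow_natCast, ← zpow_natCast, ← zpow_natCast, ← zpow_mul, ← zpow_add]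
      norm_num
    rw [e, hy3, h18]
    simp
  · right
    right
    -- `u h` is conjugate to `h`
    let φ : U → U := fun v => ⟨v.1 * (h * v.1⁻¹ * h⁻¹), mul_mem v.2 (S.H_U _ hh _ (inv_mem v.2))⟩
    have hφ : Function.Injective φ := by
      intro v v' e
      have e1 : v.1 * (h * v.1⁻¹ * h⁻¹) = v'.1 * (h * v'.1⁻¹ * h⁻¹) := congrArg Subtype.val e
      have e2 : h * (v'.1⁻¹ * v.1) = (v'.1⁻¹ * v.1) * h := by
        have e3 : v'.1⁻¹ * (v.1 * (h * v.1⁻¹ * h⁻¹)) * h * v.1 = v'.1⁻¹ * (v'.1 * (h * v'.1⁻¹ * h⁻¹)) * h * v.1 := by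
          rw [e1]
        have e4 : v'.1⁻¹ * (v.1 * (h * v.1⁻¹ * h⁻¹)) * h * v.1 = v'.1⁻¹ * v.1 * h := by group
        have e5 : v'.1⁻¹ * (v'.1 * (h * v'.1⁻¹ * h⁻¹)) * h * v.1 = h * (v'.1⁻¹ * v.1) := by group
        rw [e4, e5] at e3
        exact e3.symm
      by_contra hne
      have hne' : v'.1⁻¹ * v.1 ≠ 1 := by
        intro h0
        apply hne
        apply Subtype.ext
        exact (inv_mul_eq_one.mp h0).symm
      rcases R.fix3 h hh _ (mul_mem (inv_mem v'.2) v.2) hne' e2 with h' | h'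
      · exact h1 h'
      · exact ha h'
    obtain ⟨v, hv⟩ := (Finite.injective_iff_surjective.mp hφ) ⟨u, hu⟩
    have hv' : v.1 * (h * v.1⁻¹ * h⁻¹) = u := congrArg Subtype.val hv
    have e : u * h = v.1 * h * v.1⁻¹ := by
      rw [← hv']
      group
    rw [e, order_conj, ← R.cardH]
    have := Subgroup.orderOf_dvd_natCard H hh
    exact this

/-- Forward direction. -/
theorem order_forward (g : G) : orderOf g ∣ 6 ∨ orderOf g ∣ 9 ∨ orderOf g ∣ 3 ^ (2 * m + 1) - 1 ∨
    orderOf g ∣ (3 ^ (2 * m + 1) + 1) / 2 ∨ orderOf g ∣ 3 ^ (2 * m + 1) - 3 ^ (m + 1) + 1 ∨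
    orderOf g ∣ 3 ^ (2 * m + 1) + 3 ^ (m + 1) + 1 := by
  have S := R.S
  by_cases hF : g ∈ F0 U H
  · rcases F0_subset R hF with h | h
    · right; right; right; left
      exact TL_order R h
    · obtain ⟨g₁, g₂, hg₁, hg₂, hRR, hc₁, hc₂, -, -⟩ := orders_of_classes R
      rw [hRR] at h
      right; right; right; right
      rcases h with ⟨t, x, ⟨hx, -⟩, rfl⟩ | ⟨t, x, ⟨hx, -⟩, rfl⟩
      · left
        rw [order_conj, ← hc₁]
        exact Subgroup.orderOf_dvd_natCard _ hx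
      · right
        rw [order_conj, ← hc₂]
        exact Subgroup.orderOf_dvd_natCard _ hx
  · have hF' : ∃ x : Om U H, g • x = x := by
      by_contra hn
      apply hF
      intro x hx
      exact hn ⟨x, hx⟩
    obtain ⟨x, hx⟩ := hF'
    obtain ⟨t, ht⟩ := exists_smul_inf S x
    have h1 : (t * g * t⁻¹) • inf U H = inf U H := by
      rw [← ht, mul_smul, mul_smul, inv_smul_smul, hx]
    obtain ⟨u, hu, h, hh, e⟩ := (S.mem_B).mp (S.smul_inf_eq.mp h1)
    have e2 : orderOf g = orderOf (u * h) := by rw [← e, order_conj]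
    rw [e2]
    rcases order_B R hu hh with h | h | h
    · left; exact h
    · right; left; exact h
    · right; right; left; exact h

omit R in
lemma exists_order_of_dvd {x : G} {d : ℕ} (h : d ∣ orderOf x) : ∃ g : G, orderOf g = d :=
  ⟨x ^ (orderOf x / d), orderOf_pow_orderOf_div (orderOf_pos x).ne' h⟩

/-- Existence of an element of order `6`. -/
lemma exists_order_six : ∃ g : G, orderOf g = 6 := by
  have hq := q_ge m R.hm
  have h1 : 1 < Nat.card (U ⊓ Cz a : Subgroup G) := by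
    rw [R.CUa]
    omega
  haveI : Nontrivial (U ⊓ Cz a : Subgroup G) := Finite.one_lt_card_iff_nontrivial.mp h1
  obtain ⟨w, hw⟩ := exists_ne (1 : (U ⊓ Cz a : Subgroup G))
  have hw1 : (w : G) ≠ 1 := fun h => hw (Subtype.ext h)
  have hw3 : (w : G) ^ 3 = 1 := R.CUa3 _ w.2.1 (mem_Cz.mp w.2.2)
  haveI : Fact (Nat.Prime 3) := ⟨Nat.prime_three⟩
  haveI : Fact (Nat.Prime 2) := ⟨Nat.prime_two⟩
  have ho3 : orderOf (w : G) = 3 := orderOf_eq_prime hw3 hw1
  have ho2 : orderOf a = 2 := orderOf_eq_prime (by rw [pow_two, R.a_sq]) R.a_ne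
  have hc : Commute a (w : G) := (mem_Cz.mp w.2.2).symm
  refine ⟨a * w, ?_⟩
  rw [hc.orderOf_mul_eq_mul_orderOf_of_coprime (by rw [ho2, ho3]; norm_num), ho2, ho3]

/-- Existence of an element of order `(q+1)/2`. -/
lemma exists_order_half : ∃ g : G, orderOf g = (3 ^ (2 * m + 1) + 1) / 2 := by
  have hc := R.A_cyc
  obtain ⟨y, hy⟩ := IsCyclic.exists_generator (α := A)
  have hord : orderOf (y : G) = (3 ^ (2 * m + 1) + 1) / 4 := by
    rw [Subgroup.orderOf_coe, orderOf_eq_card_of_forall_mem_zpowers hy, R.A_card]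
  obtain ⟨k, hk, hodd, hk2, hk4⟩ := k_facts m
  have hV : 1 < {x : G | x ∈ M ∧ x * x = 1}.ncard := by
    rw [R.M_V]
    norm_num
  obtain ⟨t, ⟨htM, ht2⟩, ht1⟩ := Set.exists_ne_of_one_lt_ncard hV (1 : G)
  haveI : Fact (Nat.Prime 2) := ⟨Nat.prime_two⟩
  have ho2 : orderOf t = 2 := orderOf_eq_prime (by rw [pow_two, ht2]) ht1
  have hyM := ((R.A_iff y).mp y.2).1
  have hcomm : Commute t (y : G) := R.M_comm _ htM _ hyM
  refine ⟨t * y, ?_⟩
  rw [hcomm.orderOf_mul_eq_mul_orderOf_of_coprime (by rw [ho2, hord, hk4]; exact (Nat.coprime_two_left).mpr hodd),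
    ho2, hord, hk2, hk4]

/-- The statement on orders in the abstract setting. -/
theorem orders_iff (h9 : ∃ u : G, orderOf u = 9) (d : ℕ) :
    (∃ g : G, orderOf g = d) ↔
      (d ∣ 6 ∨ d ∣ 9 ∨ d ∣ 3 ^ (2 * m + 1) - 1 ∨ d ∣ (3 ^ (2 * m + 1) + 1) / 2 ∨
        d ∣ 3 ^ (2 * m + 1) - 3 ^ (m + 1) + 1 ∨ d ∣ 3 ^ (2 * m + 1) + 3 ^ (m + 1) + 1) := by
  constructor
  · rintro ⟨g, rfl⟩
    exact order_forward R g
  · rintro (h | h | h | h | h | h)
    · obtain ⟨g, hg⟩ := exists_order_six R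
      exact exists_order_of_dvd (x := g) (by rw [hg]; exact h)
    · obtain ⟨g, hg⟩ := h9
      exact exists_order_of_dvd (x := g) (by rw [hg]; exact h)
    · have hc := R.cycH
      obtain ⟨g, hg⟩ := IsCyclic.exists_generator (α := H)
      have hord : orderOf (g : G) = 3 ^ (2 * m + 1) - 1 := by
        rw [Subgroup.orderOf_coe, orderOf_eq_card_of_forall_mem_zpowers hg, R.cardH]
      exact exists_order_of_dvd (x := (g : G)) (by rw [hord]; exact h)
    · obtain ⟨g, hg⟩ := exists_order_half R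
      exact exists_order_of_dvd (x := g) (by rw [hg]; exact h)
    · obtain ⟨g₁, g₂, hg₁, hg₂, -, hc₁, hc₂, -, -⟩ := orders_of_classes R
      have hc := RR_cyc R hg₁
      obtain ⟨g, hg⟩ := IsCyclic.exists_generator (α := Cz g₁)
      have hord : orderOf (g : G) = 3 ^ (2 * m + 1) - 3 ^ (m + 1) + 1 := by
        rw [Subgroup.orderOf_coe, orderOf_eq_card_of_forall_mem_zpowers hg, hc₁]
      exact exists_order_of_dvd (x := (g : G)) (by rw [hord]; exact h)
    · obtain ⟨g₁, g₂, hg₁, hg₂, -, hc₁, hc₂, -, -⟩ := orders_of_classes R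
      have hc := RR_cyc R hg₂
      obtain ⟨g, hg⟩ := IsCyclic.exists_generator (α := Cz g₂)
      have hord : orderOf (g : G) = 3 ^ (2 * m + 1) + 3 ^ (m + 1) + 1 := by
        rw [Subgroup.orderOf_coe, orderOf_eq_card_of_forall_mem_zpowers hg, hc₂]
      exact exists_order_of_dvd (x := (g : G)) (by rw [hord]; exact h)

end Cfsg.Agent.Lib.ReeG2.Ab4
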