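import Cfsg.Agent.Lib.ReeG2.Ab4

/-!
# Abstract Ree-type groups: conjugacy of cyclic subgroups, centralisers
-/

set_option autoImplicit false
set_option linter.unusedSectionVars false
set_option linter.unusedVariables false
set_option linter.unusedTactic false
set_option linter.unreachableTactic false

namespace Cfsg.Agent.Lib.ReeG2.Ab5

open Cfsg.Agent.Lib.ReeG2.Rank1 Cfsg.Agent.Lib.ReeG2.Rank1.Sp Cfsg.Agent.Lib.ReeG2.Ab1 Cfsg.Agent.Lib.ReeG2.Ab2
  Cfsg.Agent.Lib.ReeG2.Ab3 Cfsg.Agent.Lib.ReeG2.Ab4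

variable {G : Type*} [Group G] [Finite G]

lemma eq_zpowers {X : Subgroup G} (hX : IsCyclic X) : ∃ x : G, X = Subgroup.zpowers x ∧ orderOf x = Nat.card X := by
  obtain ⟨g, hg⟩ := IsCyclic.exists_generator (α := X)
  refine ⟨g, ?_, ?_⟩
  · apply le_antisymm
    · intro z hz
      obtain ⟨i, hi⟩ := hg ⟨z, hz⟩
      exact ⟨i, congrArg Subtype.val hi⟩
    · rw [Subgroup.zpowers_le]
      exact g.2
  · rw [Subgroup.orderOf_coe, orderOf_eq_card_of_forall_mem_zpowers hg]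

/-- Subgroups of equal order of a cyclic group coincide. -/
lemma eq_of_card_eq {C X Y : Subgroup G} (hC : IsCyclic C) (hX : X ≤ C) (hY : Y ≤ C) (h : Nat.card X = Nat.card Y) : X = Y := by
  apply le_antisymm
  · intro z hz
    apply mem_of_pow_card hC hY (hX hz)
    rw [← h]
    exact pow_card_sub hz
  · intro z hz
    apply mem_of_pow_card hC hX (hY hz)
    rw [h]
    exact pow_card_sub hz

lemma conj_apply' (g x : G) : (MulAut.conj g).toMonoidHom x = g * x * g⁻¹ := rfl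

/-- Two cyclic subgroups which are conjugate into a cyclic subgroup. -/
lemma conj_of_into {C : Subgroup G} (hC : IsCyclic C) {d : ℕ} (hinto : ∀ x : G, orderOf x = d → ∃ t, t * x * t⁻¹ ∈ C)
    {X Y : Subgroup G} (hX : IsCyclic X) (hY : IsCyclic Y) (hXd : Nat.card X = d) (hYd : Nat.card Y = d) :
    ∃ g : G, Y = X.map (MulAut.conj g).toMonoidHom := by
  obtain ⟨x, rfl, hx⟩ := eq_zpowers hX
  obtain ⟨y, rfl, hy⟩ := eq_zpowers hY
  rw [hXd] at hx
  rw [hYd] at hy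
  obtain ⟨t, ht⟩ := hinto x hx
  obtain ⟨s, hs⟩ := hinto y hy
  have e : Subgroup.zpowers (t * x * t⁻¹) = Subgroup.zpowers (s * y * s⁻¹) := by
    apply eq_of_card_eq hC (Subgroup.zpowers_le.mpr ht) (Subgroup.zpowers_le.mpr hs)
    rw [Nat.card_zpowers, Nat.card_zpowers, order_conj, order_conj, hx, hy]
  refine ⟨s⁻¹ * t, ?_⟩
  rw [MonoidHom.map_zpowers, conj_apply']
  have e1 : s⁻¹ * t * x * (s⁻¹ * t)⁻¹ = (MulAut.conj s⁻¹).toMonoidHom (t * x * t⁻¹) := by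
    rw [conj_apply']
    group
  have e2 : y = (MulAut.conj s⁻¹).toMonoidHom (s * y * s⁻¹) := by
    rw [conj_apply']
    group
  rw [e1, ← MonoidHom.map_zpowers, e, MonoidHom.map_zpowers, ← e2]

/-- The centraliser of a subgroup all of whose non-trivial elements have the same centraliser. -/
lemma cent_eq_of {X C A₀ : Subgroup G} (hC : ∀ y ∈ X, y ≠ 1 → Cz y = C) (h0 : A₀ ≤ X) (hne : A₀ ≠ ⊥) :
    Subgroup.centralizer (A₀ : Set G) = C := by
  ext z
  constructor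
  · intro hz
    obtain ⟨y, hy, hy1⟩ := (Subgroup.bot_or_exists_ne_one A₀).resolve_left hne
    rw [← hC y (h0 hy) hy1]
    exact mem_Cz.mpr ((Subgroup.mem_centralizer_iff.mp hz y hy).symm)
  · intro hz
    rw [Subgroup.mem_centralizer_iff]
    intro y hy
    by_cases hy1 : y = 1
    · rw [hy1, one_mul, mul_one]
    · rw [← hC y (h0 hy) hy1] at hz
      exact (mem_Cz.mp hz).symm

lemma Cz_map (t y : G) : Cz y = (Cz (t * y * t⁻¹)).map (MulAut.conj t⁻¹).toMonoidHom := by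
  ext z
  constructor
  · intro hz
    refine ⟨t * z * t⁻¹, (conj_mem_Cz).mpr hz, ?_⟩
    show (MulAut.conj t⁻¹).toMonoidHom (t * z * t⁻¹) = z
    rw [conj_apply']
    group
  · rintro ⟨w, hw, rfl⟩
    rw [conj_apply']
    have hw' : w ∈ Cz (t * y * t⁻¹) := hw
    have e : t * (t⁻¹ * w * t⁻¹⁻¹) * t⁻¹ = w := by group
    rw [← e] at hw'
    exact (conj_mem_Cz).mp hw'

lemma card_map_conj (K : Subgroup G) (t : G) : Nat.card (K.map (MulAut.conj t).toMonoidHom) = Nat.card K :=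
  Subgroup.card_map_of_injective (MulAut.conj t).injective

lemma cyc_map_conj {K : Subgroup G} (hK : IsCyclic K) (t : G) : IsCyclic (K.map (MulAut.conj t).toMonoidHom) :=
  isCyclic_of_surjective ((MulAut.conj t).toMonoidHom.subgroupMap K) ((MulAut.conj t).toMonoidHom.subgroupMap_surjective K)

/-! ### Arithmetic -/

lemma three_dvd_of_dvd_nine {d : ℕ} (h : d ∣ 9) (h1 : 1 < d) : 3 ∣ d := by
  have := Nat.le_of_dvd (by norm_num) h
  interval_cases d <;> omega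

lemma three_dvd_of_dvd_six {d : ℕ} (h : d ∣ 6) (h1 : 2 < d) : 3 ∣ d := by
  have := Nat.le_of_dvd (by norm_num) h
  interval_cases d <;> omega

lemma le_two_aux {q k k₁ d : ℕ} (h1 : q + 1 = 4 * k) (h2 : q - 1 = 2 * k₁) (h3 : 1 ≤ q) (h4 : d ∣ 2 * k) (h5 : d ∣ 2 * k₁) : d ≤ 2 := by
  have h6 : d ∣ 2 * (2 * k) - 2 * k₁ := Nat.dvd_sub (h4.mul_left 2) h5
  have h7 : 2 * (2 * k) - 2 * k₁ = 2 := by omega
  rw [h7] at h6
  exact Nat.le_of_dvd (by norm_num) h6

lemma not_three_dvd_qm (m : ℕ) : ¬ 3 ∣ 3 ^ (2 * m + 1) - 1 := by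
  have h3 := (q_facts m).2.2
  have h1 : 1 ≤ 3 ^ (2 * m + 1) := Nat.one_le_pow _ _ (by norm_num)
  generalize 3 ^ (2 * m + 1) = q at *
  omega

lemma not_three_dvd_k (m : ℕ) : ¬ 3 ∣ (3 ^ (2 * m + 1) + 1) / 4 := by
  obtain ⟨k, hk1, hodd, hk2, hk4⟩ := k_facts m
  rw [hk4]
  have h3 := (q_facts m).2.2
  intro h
  obtain ⟨r, rfl⟩ := h
  generalize 3 ^ (2 * m + 1) = q at *
  omega

/-- The factorisation of `q² - q + 1`. -/
lemma c_prod (m : ℕ) : (3 ^ (2 * m + 1) - 3 ^ (m + 1) + 1) * (3 ^ (2 * m + 1) + 3 ^ (m + 1) + 1) =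
    (3 ^ (2 * m + 1)) ^ 2 + 1 - 3 ^ (2 * m + 1) := by
  have hr2 : (3 ^ (m + 1)) ^ 2 = 3 * 3 ^ (2 * m + 1) := by ring
  have hle : 3 ^ (m + 1) ≤ 3 ^ (2 * m + 1) := Nat.pow_le_pow_right (by norm_num) (by omega)
  generalize 3 ^ (2 * m + 1) = q at *
  generalize 3 ^ (m + 1) = r at *
  obtain ⟨e, rfl⟩ := Nat.exists_eq_add_of_le hle
  have e1 : r + e - r + 1 = e + 1 := by omega
  rw [e1]
  have h : (r + e) ^ 2 + 1 = (e + 1) * (r + e + r + 1) + (r + e) := by
    nlinarith [hr2]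
  omega

lemma c_coprime (m : ℕ) : Nat.Coprime (3 ^ (2 * m + 1) - 3 ^ (m + 1) + 1) (3 ^ (2 * m + 1) + 3 ^ (m + 1) + 1) := by
  apply Nat.coprime_of_dvd
  intro p hp h1 h2
  have hD : p ∣ (3 ^ (2 * m + 1)) ^ 2 + 1 - 3 ^ (2 * m + 1) := by
    rw [← c_prod]
    exact h1.mul_right _
  obtain ⟨h2', h3', -⟩ := prime_D hp hD
  have hle : 3 ^ (m + 1) ≤ 3 ^ (2 * m + 1) := Nat.pow_le_pow_right (by norm_num) (by omega)
  have h4 : p ∣ (3 ^ (2 * m + 1) + 3 ^ (m + 1) + 1) - (3 ^ (2 * m + 1) - 3 ^ (m + 1) + 1) := Nat.dvd_sub h2 h1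
  have h5 : (3 ^ (2 * m + 1) + 3 ^ (m + 1) + 1) - (3 ^ (2 * m + 1) - 3 ^ (m + 1) + 1) = 2 * 3 ^ (m + 1) := by
    generalize 3 ^ (2 * m + 1) = q at *
    generalize 3 ^ (m + 1) = r at *
    omega
  rw [h5, Nat.Prime.dvd_mul hp] at h4
  rcases h4 with h4 | h4
  · exact h2' ((Nat.prime_dvd_prime_iff_eq hp Nat.prime_two).mp h4)
  · exact h3' ((Nat.prime_dvd_prime_iff_eq hp Nat.prime_three).mp (hp.dvd_of_dvd_pow h4))

variable {U H M A : Subgroup G} {n a : G} {m : ℕ} (R : Rd U H M A n a m)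

include R

/-! ### Analysis of elements -/

lemma fix_cases (g : G) : g ∈ F0 U H ∨ ∃ t u h : G, u ∈ U ∧ h ∈ H ∧ t * g * t⁻¹ = u * h := by
  have S := R.S
  by_cases hF : g ∈ F0 U H
  · exact Or.inl hF
  · right
    have hF' : ∃ x : Om U H, g • x = x := by
      by_contra hn
      apply hF
      intro x hx
      exact hn ⟨x, hx⟩
    obtain ⟨x, hx⟩ := hF'
    obtain ⟨t, ht⟩ := exists_smul_inf S x
    have h1 : (t * g * t⁻¹) • inf U H = inf U H := by
      rw [← ht, mul_smul, mul_smul, inv_smul_smul, hx]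
    obtain ⟨u, hu, h, hh, e⟩ := (S.mem_B).mp (S.smul_inf_eq.mp h1)
    exact ⟨t, u, h, hu, hh, e⟩

lemma B_conj {u h : G} (hu : u ∈ U) (hh : h ∈ H) (h1 : h ≠ 1) (ha : h ≠ a) : ∃ v ∈ U, u * h = v * h * v⁻¹ := by
  have S := R.S
  let φ : U → U := fun v => ⟨v.1 * (h * v.1⁻¹ * h⁻¹), mul_mem v.2 (S.H_U _ hh _ (inv_mem v.2))⟩
  have hφ : Function.Injective φ := by
    intro v v' e
    have e1 : v.1 * (h * v.1⁻¹ * h⁻¹) = v'.1 * (h * v'.1⁻¹ * h⁻¹) := congrArg Subtype.val e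
    have e2 : h * (v'.1⁻¹ * v.1) = (v'.1⁻¹ * v.1) * h := by
      have e3 : v'.1⁻¹ * (v.1 * (h * v.1⁻¹ * h⁻¹)) * h * v.1 = v'.1⁻¹ * (v'.1 * (h * v'.1⁻¹ * h⁻¹)) * h * v.1 := by
        rw [e1]
      have e4 : v'.1⁻¹ * (v.1 * (h * v.1⁻¹ * h⁻¹)) * h * v.1 = v'.1⁻¹ * v.1 * h := by group
      have e5 : v'.1⁻¹ * (v'.1 * (h * v'.1⁻¹ * h⁻¹)) * h * v.1 = h * (v'.1⁻¹ * v.1) := by group
      rw [e4, e5] at e3
      exact e3.symm
    by_contra hne
    have hne' : v'.1⁻¹ * v.1 ≠ 1 := by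
      intro h0
      apply hne
      apply Subtype.ext
      exact (inv_mul_eq_one.mp h0).symm
    rcases R.fix3 h hh _ (mul_mem (inv_mem v'.2) v.2) hne' e2 with h' | h'
    · exact h1 h'
    · exact ha h'
  obtain ⟨v, hv⟩ := (Finite.injective_iff_surjective.mp hφ) ⟨u, hu⟩
  have hv' : v.1 * (h * v.1⁻¹ * h⁻¹) = u := congrArg Subtype.val hv
  refine ⟨v.1, v.2, ?_⟩
  rw [← hv']
  group

/-- Involutions times `3`-elements in `C(a)`: the Sylow theorem in `C(a)`. -/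
lemma conj_into_CU {w : G} (hc : w * a = a * w) (h9 : w ^ 9 = 1) :
    ∃ c : G, c * a = a * c ∧ c⁻¹ * w * c ∈ U := by
  let Γ := Cz a
  let K : Subgroup Γ := (U ⊓ Cz a).subgroupOf Γ
  have hcK : Nat.card K = 3 ^ (2 * m + 1) := by
    rw [← R.CUa]
    exact Nat.card_congr (Subgroup.subgroupOfEquivOfLe inf_le_right).toEquiv
  have hidx : K.index = (3 ^ (2 * m + 1)) ^ 2 - 1 := by
    have h1 := Subgroup.card_mul_index K
    have h2 : Nat.card Γ = 3 ^ (2 * m + 1) * ((3 ^ (2 * m + 1)) ^ 2 - 1) := R.Ca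
    rw [h2, hcK] at h1
    exact Nat.eq_of_mul_eq_mul_left (by positivity) h1
  haveI : Fact (Nat.Prime 3) := ⟨Nat.prime_three⟩
  have h3 : ¬ 3 ∣ K.index := by
    rw [hidx]
    have hq := q_ge m R.hm
    have hq3 := (q_facts m).2.2
    generalize 3 ^ (2 * m + 1) = q at *
    obtain ⟨c, rfl⟩ : 3 ∣ q := Nat.dvd_of_mod_eq_zero hq3
    intro h
    obtain ⟨e, he⟩ := h
    have hc1 : 1 ≤ c := by omega
    have e2 : (3 * c) ^ 2 = 3 * (3 * c * c) := by ring
    have h5 : 3 * (3 * c * c) = 3 * e + 1 := by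
      have : 1 ≤ (3 * c) ^ 2 := Nat.one_le_pow _ _ (by omega)
      omega
    omega
  let w' : Γ := ⟨w, mem_Cz.mpr hc⟩
  have hP : IsPGroup 3 (Subgroup.zpowers w') := by
    rintro ⟨x, i, rfl⟩
    refine ⟨2, ?_⟩
    apply Subtype.ext
    apply Subtype.ext
    have h9' : w' ^ 9 = 1 := Subtype.ext h9
    show ((w' ^ i) ^ (3 ^ 2) : Γ).1 = 1
    rw [show (3 : ℕ) ^ 2 = 9 by norm_num, ← zpow_natCast, ← zpow_mul, mul_comm, zpow_mul, zpow_natCast, h9', one_zpow]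
    rfl
  obtain ⟨γ, hγ⟩ := Cfsg.Agent.Lib.ReeG2.GL7.exists_conj_le K h3 _ hP
  have h1 := hγ w' (Subgroup.mem_zpowers w')
  rw [Subgroup.mem_subgroupOf] at h1
  have h2 : (γ : G)⁻¹ * w * (γ : G) ∈ U ⊓ Cz a := h1
  exact ⟨γ, mem_Cz.mp γ.2, h2.1⟩

lemma order_a {u : G} (hu : u ∈ U) : orderOf (u * a) ∣ 6 := by
  have S := R.S
  set g := u * a with hg
  have hainv : a⁻¹ = a := inv_eq_of_mul_eq_one_left R.a_sq
  have hgg : g * g ∈ U := by
    have e : g * g = u * (a * u * a⁻¹) := by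
      rw [hainv, hg]
      group
    rw [e]
    exact mul_mem hu (S.H_U _ R.a_H _ hu)
  have h18 : g ^ 18 = 1 := by
    have e : g ^ 18 = (g * g) ^ 9 := by rw [← pow_two, ← pow_mul]
    rw [e]
    exact R.U9 _ hgg
  have ht : g ^ 9 * g ^ 9 = 1 := by
    rw [← pow_add]
    exact h18
  have hy : g ^ 10 ∈ U := by
    have e : g ^ 10 = (g * g) ^ 5 := by rw [← pow_two, ← pow_mul]
    rw [e]
    exact pow_mem hgg 5
  have ht1 : g ^ 9 ≠ 1 := by
    intro h9
    have e : g = g ^ 10 := by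
      rw [show 10 = 9 + 1 from rfl, pow_succ, h9, one_mul]
    have hgU : g ∈ U := by
      rw [e]
      exact hy
    have : a ∈ U := by
      have e2 : a = u⁻¹ * g := by rw [hg]; group
      rw [e2]
      exact mul_mem (inv_mem hu) hgU
    exact R.a_ne (S.U_H _ this R.a_H)
  obtain ⟨z, hz⟩ := R.inv_conj _ ht ht1
  set y := g ^ 10 with hyd
  have hcomm : y * g ^ 9 = g ^ 9 * y := by
    rw [hyd, ← pow_add, ← pow_add]
  have hw : (z⁻¹ * y * z) ^ 3 = 1 := by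
    apply three_elt_C R
    · have e : a = z⁻¹ * g ^ 9 * z := by rw [hz]; group
      calc z⁻¹ * y * z * a = z⁻¹ * (y * g ^ 9) * z := by rw [e]; group
        _ = z⁻¹ * (g ^ 9 * y) * z := by rw [hcomm]
        _ = a * (z⁻¹ * y * z) := by rw [e]; group
    · rw [conj_pow', R.U9 _ hy]
      group
  have hy3 : y ^ 3 = 1 := by
    rw [conj_pow'] at hw
    have e2 : y ^ 3 = z * (z⁻¹ * y ^ 3 * z) * z⁻¹ := by group
    rw [e2, hw]
    group
  apply orderOf_dvd_of_pow_eq_one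
  have e : g ^ 6 = (y ^ 3) ^ 2 * (g ^ 18) ^ (-3 : ℤ) := by
    rw [hyd, ← pow_mul, ← pow_mul]
    rw [← zpow_natCast, ← zpow_natCast, ← zpow_natCast, ← zpow_mul, ← zpow_add]
    norm_num
  rw [e, hy3, h18]
  simp

/-- Elements of order `d > 2`, `d ∣ q - 1`, are conjugate into `H`. -/
lemma case_H {x : G} (h2 : 2 < orderOf x) (hd : orderOf x ∣ 3 ^ (2 * m + 1) - 1) : ∃ t, t * x * t⁻¹ ∈ H := by
  obtain ⟨k, hk1, hodd, hk2, hk4⟩ := k_facts m
  obtain ⟨k₁, h1, hodd₁, h1'⟩ := k1_facts m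
  have hq1 : 1 ≤ 3 ^ (2 * m + 1) := Nat.one_le_pow _ _ (by norm_num)
  have hn3 := not_three_dvd_qm m
  rcases fix_cases R x with hF | ⟨t, u, h, hu, hh, e⟩
  · exfalso
    rcases F0_subset R hF with h5 | h5
    · have h6 := TL_order R h5
      rw [hk2] at h6
      rw [h1] at hd
      have := le_two_aux hk1 h1 hq1 h6 hd
      omega
    · obtain ⟨p, hp, hpd⟩ := Nat.exists_prime_and_dvd (show orderOf x ≠ 1 by omega)
      obtain ⟨-, -, -, -, h6, -⟩ := prime_D hp (h5.2 p hp hpd)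
      exact h6 (hpd.trans hd)
  · have ho : orderOf x = orderOf (u * h) := by rw [← e, order_conj]
    by_cases h1' : h = 1
    · exfalso
      subst h1'
      rw [mul_one] at ho
      have h9 : orderOf x ∣ 9 := by
        rw [ho]
        exact orderOf_dvd_of_pow_eq_one (R.U9 u hu)
      exact hn3 ((three_dvd_of_dvd_nine h9 (by omega)).trans hd)
    by_cases ha : h = a
    · exfalso
      subst ha
      have h6 : orderOf x ∣ 6 := by
        rw [ho]
        exact order_a R hu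
      exact hn3 ((three_dvd_of_dvd_six h6 h2).trans hd)
    · obtain ⟨v, hv, ev⟩ := B_conj R hu hh h1' ha
      refine ⟨v⁻¹ * t, ?_⟩
      have : v⁻¹ * t * x * (v⁻¹ * t)⁻¹ = v⁻¹ * (t * x * t⁻¹) * v := by group
      rw [this, e, ev]
      have e3 : v⁻¹ * (v * h * v⁻¹) * v = h := by group
      rw [e3]
      exact hh

/-- Elements of order `d > 1`, `d ∣ (q + 1)/4`, are conjugate into `A`. -/
lemma case_A {x : G} (h2 : 1 < orderOf x) (hd : orderOf x ∣ (3 ^ (2 * m + 1) + 1) / 4) : ∃ t, t * x * t⁻¹ ∈ A := by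
  obtain ⟨k, hk1, hodd, hk2, hk4⟩ := k_facts m
  obtain ⟨k₁, h1, hodd₁, h1'⟩ := k1_facts m
  have hq1 : 1 ≤ 3 ^ (2 * m + 1) := Nat.one_le_pow _ _ (by norm_num)
  have hn3 := not_three_dvd_k m
  have hnk : ¬ 2 ∣ k := hodd.not_two_dvd_nat
  have hoddx : Odd (orderOf x) := by
    rw [hk4] at hd
    exact Odd.of_dvd_nat hodd hd
  have hqp : (3 ^ (2 * m + 1) + 1) / 4 ∣ 3 ^ (2 * m + 1) + 1 := by
    rw [hk4, hk1]
    exact dvd_mul_left _ _
  rcases fix_cases R x with hF | ⟨t, u, h, hu, hh, e⟩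
  · rcases F0_subset R hF with h5 | h5
    · obtain ⟨t, y, ⟨hyM, hy2⟩, rfl⟩ := h5
      refine ⟨t⁻¹, ?_⟩
      have e3 : t⁻¹ * (t * y * t⁻¹) * t⁻¹⁻¹ = y := by group
      rw [e3, R.A_iff]
      refine ⟨hyM, ?_⟩
      rw [order_conj] at hd
      exact orderOf_dvd_iff_pow_eq_one.mp hd
    · exfalso
      obtain ⟨p, hp, hpd⟩ := Nat.exists_prime_and_dvd (show orderOf x ≠ 1 by omega)
      obtain ⟨-, -, -, -, -, h6⟩ := prime_D hp (h5.2 p hp hpd)
      exact h6 ((hpd.trans hd).trans hqp)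
  · exfalso
    have ho : orderOf x = orderOf (u * h) := by rw [← e, order_conj]
    by_cases h1' : h = 1
    · subst h1'
      rw [mul_one] at ho
      have h9 : orderOf x ∣ 9 := by
        rw [ho]
        exact orderOf_dvd_of_pow_eq_one (R.U9 u hu)
      exact hn3 ((three_dvd_of_dvd_nine h9 h2).trans hd)
    by_cases ha : h = a
    · subst ha
      have h6 : orderOf x ∣ 6 := by
        rw [ho]
        exact order_a R hu
      have h7 : 2 < orderOf x := by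
        obtain ⟨r, hr⟩ := hoddx
        omega
      exact hn3 ((three_dvd_of_dvd_six h6 h7).trans hd)
    · obtain ⟨v, hv, ev⟩ := B_conj R hu hh h1' ha
      have h6 : orderOf x = orderOf h := by rw [ho, ev, order_conj]
      have h7 : orderOf x ∣ 3 ^ (2 * m + 1) - 1 := by
        rw [h6, ← R.cardH]
        exact Subgroup.orderOf_dvd_natCard H hh
      rw [hk4] at hd
      rw [h1] at h7
      have h8 := le_two_aux hk1 h1 hq1 (hd.mul_left 2 |>.trans (dvd_refl _)) h7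
      obtain ⟨r, hr⟩ := hoddx
      omega

/-- Elements of order `d > 1`, `d ∣ c`, are conjugate into the corresponding cyclic subgroup. -/
lemma case_Y {g g' : G} (hRR : RR G m = Xg g ∪ Xg g') (hco : Nat.Coprime (Nat.card (Cz g)) (Nat.card (Cz g')))
    (hD : Nat.card (Cz g) ∣ (3 ^ (2 * m + 1)) ^ 2 + 1 - 3 ^ (2 * m + 1)) {x : G} (h1 : 1 < orderOf x)
    (hd : orderOf x ∣ Nat.card (Cz g)) : ∃ t, t * x * t⁻¹ ∈ Cz g := by
  have hxR : x ∈ RR G m := by
    refine ⟨?_, ?_⟩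
    · rintro rfl
      rw [orderOf_one] at h1
      omega
    · intro p _ hpd
      exact (hpd.trans hd).trans hD
  rw [hRR] at hxR
  rcases hxR with ⟨t, y, ⟨hy, -⟩, rfl⟩ | ⟨t, y, ⟨hy, -⟩, rfl⟩
  · refine ⟨t⁻¹, ?_⟩
    have e3 : t⁻¹ * (t * y * t⁻¹) * t⁻¹⁻¹ = y := by group
    rw [e3]
    exact hy
  · exfalso
    rw [order_conj] at h1 hd
    have h2 : orderOf y ∣ Nat.card (Cz g') := Subgroup.orderOf_dvd_natCard _ hy
    have h3 := Nat.eq_one_of_dvd_coprimes hco hd h2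
    omega

/-- The conjugacy statement. -/
theorem conj_cyclic {d : ℕ}
    (hd : d ∣ (3 ^ (2 * m + 1) - 1) / 2 ∨ d ∣ (3 ^ (2 * m + 1) + 1) / 4 ∨ d ∣ 3 ^ (2 * m + 1) - 3 ^ (m + 1) + 1 ∨
      d ∣ 3 ^ (2 * m + 1) + 3 ^ (m + 1) + 1)
    (X Y : Subgroup G) (hX : IsCyclic X) (hY : IsCyclic Y) (hXd : Nat.card X = d) (hYd : Nat.card Y = d) :
    ∃ g : G, Y = X.map (MulAut.conj g).toMonoidHom := by
  obtain ⟨k₁, h1, hodd₁, h1'⟩ := k1_facts m
  obtain ⟨g₁, g₂, hg₁, hg₂, hRR, hc₁, hc₂, -, -⟩ := orders_of_classes R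
  by_cases hd1 : d = 1
  · refine ⟨1, ?_⟩
    subst hd1
    rw [Subgroup.card_eq_one] at hXd hYd
    rw [hXd, hYd, Subgroup.map_bot]
  have hdpos : 0 < d := by
    rw [← hXd]
    exact Nat.card_pos
  have hco := c_coprime m
  have hprod := c_prod m
  rcases hd with hd | hd | hd | hd
  · have hcyc := R.cycH
    apply conj_of_into hcyc (d := d) _ hX hY hXd hYd
    intro x hx
    rw [h1'] at hd
    have hodd : Odd d := Odd.of_dvd_nat hodd₁ hd
    apply case_H R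
    · rw [hx]
      obtain ⟨r, hr⟩ := hodd
      omega
    · rw [hx, h1]
      exact hd.mul_left 2
  · apply conj_of_into R.A_cyc (d := d) _ hX hY hXd hYd
    intro x hx
    apply case_A R
    · omega
    · rw [hx]
      exact hd
  · apply conj_of_into (RR_cyc R hg₁) (d := d) _ hX hY hXd hYd
    intro x hx
    apply case_Y R hRR
    · rw [hc₁, hc₂]
      exact hco
    · rw [hc₁, ← hprod]
      exact dvd_mul_right _ _
    · omega
    · rw [hx, hc₁]
      exact hd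
  · apply conj_of_into (RR_cyc R hg₂) (d := d) _ hX hY hXd hYd
    intro x hx
    apply case_Y R (g := g₂) (g' := g₁) (by rw [hRR, Set.union_comm])
    · rw [hc₁, hc₂]
      exact hco.symm
    · rw [hc₂, ← hprod]
      exact dvd_mul_left _ _
    · omega
    · rw [hx, hc₂]
      exact hd

/-! ### Centralisers -/

/-- The centraliser of a subgroup of order `(q-1)/2`. -/
theorem cent_half {X : Subgroup G} (hX : IsCyclic X) (hcard : Nat.card X = (3 ^ (2 * m + 1) - 1) / 2) :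
    IsCyclic (Subgroup.centralizer (X : Set G)) ∧ Nat.card (Subgroup.centralizer (X : Set G)) = 3 ^ (2 * m + 1) - 1 ∧
      ∀ A₀ : Subgroup G, A₀ ≤ X → A₀ ≠ ⊥ → Subgroup.centralizer (A₀ : Set G) = Subgroup.centralizer (X : Set G) := by
  obtain ⟨k₁, h1, hodd₁, h1'⟩ := k1_facts m
  have hq := q_ge m R.hm
  have hk : 1 < k₁ := by
    generalize 3 ^ (2 * m + 1) = q at *
    omega
  rw [h1'] at hcard
  obtain ⟨x, rfl, hx⟩ := eq_zpowers hX
  rw [hcard] at hx
  have hodd : Odd (orderOf x) := by rw [hx]; exact hodd₁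
  obtain ⟨t, ht⟩ := case_H R (x := x) (by
    rw [hx]
    obtain ⟨r, hr⟩ := hodd₁
    omega) (by rw [hx, h1]; exact dvd_mul_left _ _)
  have hcyc := R.cycH
  have hC : ∀ y ∈ Subgroup.zpowers x, y ≠ 1 → Cz y = H.map (MulAut.conj t⁻¹).toMonoidHom := by
    intro y hy hy1
    have hyo : y ^ k₁ = 1 := by
      rw [← hcard]
      exact pow_card_sub hy
    have hyH : t * y * t⁻¹ ∈ H := by
      obtain ⟨i, rfl⟩ := hy
      have e : t * x ^ i * t⁻¹ = (t * x * t⁻¹) ^ i := (conj_zpow).symm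
      rw [e]
      exact H.zpow_mem ht i
    have hy2 : (t * y * t⁻¹) * (t * y * t⁻¹) ≠ 1 := by
      intro h
      have e : (t * y * t⁻¹) * (t * y * t⁻¹) = t * (y * y) * t⁻¹ := by group
      rw [e] at h
      have h3 : y * y = 1 := by
        have e2 : y * y = t⁻¹ * (t * (y * y) * t⁻¹) * t := by group
        rw [e2, h]
        group
      have h4 : orderOf y ∣ 2 := orderOf_dvd_of_pow_eq_one (by rw [pow_two, h3])
      have h5 : orderOf y ∣ k₁ := orderOf_dvd_of_pow_eq_one hyo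
      have h6 : Nat.Coprime 2 k₁ := (Nat.coprime_two_left).mpr hodd₁
      have h7 : orderOf y = 1 := Nat.eq_one_of_dvd_coprimes h6 h4 h5
      exact hy1 (orderOf_eq_one_iff.mp h7)
    rw [Cz_map t y]
    congr 1
    ext z
    constructor
    · intro hz
      exact comm_H R hyH hy2 (mem_Cz.mp hz)
    · intro hz
      exact mem_Cz.mpr (comm_of_cyclic hcyc hz hyH)
  have hne : Subgroup.zpowers x ≠ ⊥ := by
    apply ne_bot_of_card
    rw [Nat.card_zpowers, hx]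
    exact hk
  have hcent := cent_eq_of hC le_rfl hne
  refine ⟨?_, ?_, ?_⟩
  · rw [hcent]
    exact cyc_map_conj hcyc _
  · rw [hcent, card_map_conj, R.cardH]
  · intro A₀ h0 h0ne
    rw [hcent]
    exact cent_eq_of hC h0 h0ne

/-- The centraliser of a subgroup of order `(q+1)/4`. -/
theorem cent_quarter {X : Subgroup G} (hX : IsCyclic X) (hcard : Nat.card X = (3 ^ (2 * m + 1) + 1) / 4) :
    IsMulCommutative (Subgroup.centralizer (X : Set G)) ∧ Nat.card (Subgroup.centralizer (X : Set G)) = 3 ^ (2 * m + 1) + 1 ∧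
      (∀ x ∈ Subgroup.centralizer (X : Set G), orderOf x ≠ 4) ∧
      ∀ A₀ : Subgroup G, A₀ ≤ X → A₀ ≠ ⊥ → Subgroup.centralizer (A₀ : Set G) = Subgroup.centralizer (X : Set G) := by
  obtain ⟨k, hk1, hodd, hk2, hk4⟩ := k_facts m
  have hq := q_ge m R.hm
  have hk : 1 < k := by
    generalize 3 ^ (2 * m + 1) = q at *
    omega
  obtain ⟨x, rfl, hx⟩ := eq_zpowers hX
  rw [hcard] at hx
  obtain ⟨t, ht⟩ := case_A R (x := x) (by rw [hx, hk4]; exact hk) (by rw [hx])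
  have hC : ∀ y ∈ Subgroup.zpowers x, y ≠ 1 → Cz y = M.map (MulAut.conj t⁻¹).toMonoidHom := by
    intro y hy hy1
    have hyA : t * y * t⁻¹ ∈ A := by
      obtain ⟨i, rfl⟩ := hy
      have e : t * x ^ i * t⁻¹ = (t * x * t⁻¹) ^ i := (conj_zpow).symm
      rw [e]
      exact A.zpow_mem ht i
    have hy2 : t * y * t⁻¹ ≠ 1 := by
      intro h
      apply hy1
      have e2 : y = t⁻¹ * (t * y * t⁻¹) * t := by group
      rw [e2, h]
      group
    rw [Cz_map t y, A_C R hyA hy2]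
  have hne : Subgroup.zpowers x ≠ ⊥ := by
    apply ne_bot_of_card
    rw [hcard, hk4]
    exact hk
  have hcent := cent_eq_of hC le_rfl hne
  refine ⟨?_, ?_, ?_, ?_⟩
  · rw [hcent]
    refine ⟨⟨?_⟩⟩
    rintro ⟨_, u, hu, rfl⟩ ⟨_, v, hv, rfl⟩
    apply Subtype.ext
    show (MulAut.conj t⁻¹).toMonoidHom u * (MulAut.conj t⁻¹).toMonoidHom v = (MulAut.conj t⁻¹).toMonoidHom v * (MulAut.conj t⁻¹).toMonoidHom u
    rw [← map_mul, ← map_mul, R.M_comm u hu v hv]
  · rw [hcent, card_map_conj, R.M_card]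
  · intro z _ h4
    have h5 : z ^ 4 = 1 := by
      rw [← h4]
      exact pow_orderOf_eq_one z
    have h6 := R.no4 z h5
    have h7 : orderOf z ∣ 2 := orderOf_dvd_of_pow_eq_one (by rw [pow_two, h6])
    rw [h4] at h7
    omega
  · intro A₀ h0 h0ne
    rw [hcent]
    exact cent_eq_of hC h0 h0ne

end Cfsg.Agent.Lib.ReeG2.Ab5
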