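import Cfsg.Agent.Lib.ReeG2.Ab5

/-!
# Abstract Ree-type groups: the numbers of elements of given orders
-/

set_option autoImplicit false
set_option linter.unusedSectionVars false
set_option linter.unusedVariables false
set_option linter.unusedTactic false
set_option linter.unreachableTactic false

namespace Cfsg.Agent.Lib.ReeG2.Ab6

open Cfsg.Agent.Lib.ReeG2.Rank1 Cfsg.Agent.Lib.ReeG2.Rank1.Sp Cfsg.Agent.Lib.ReeG2.Ab1 Cfsg.Agent.Lib.ReeG2.Ab2
  Cfsg.Agent.Lib.ReeG2.Ab3 Cfsg.Agent.Lib.ReeG2.Ab4 Cfsg.Agent.Lib.ReeG2.Ab5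

variable {G : Type*} [Group G] [Finite G]

lemma order_conj' (t g : G) : orderOf (t⁻¹ * g * t) = orderOf g := by
  have := order_conj t⁻¹ g
  simpa using this

lemma union_eq {X : Set G} {i : ℕ} (h1 : ∀ x ∈ X, orderOf x = i) (h2 : ∀ g, orderOf g = i → ∃ t, t * g * t⁻¹ ∈ X) :
    {y : G | ∃ t : G, ∃ x ∈ X, y = t * x * t⁻¹} = {g | orderOf g = i} := by
  ext y
  constructor
  · rintro ⟨t, x, hx, rfl⟩
    show orderOf _ = i
    rw [order_conj, h1 x hx]
  · intro hy
    obtain ⟨t, ht⟩ := h2 y hy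
    exact ⟨t⁻¹, _, ht, by group⟩

lemma count {X : Set G} {N : Subgroup G} {i : ℕ} (h1 : ∀ x ∈ X, orderOf x = i) (h2 : ∀ g, orderOf g = i → ∃ t, t * g * t⁻¹ ∈ X)
    (hN : ∀ n ∈ N, ∀ x ∈ X, n⁻¹ * x * n ∈ X) (hTI : ∀ x ∈ X, ∀ t : G, t * x * t⁻¹ ∈ X → t ∈ N) :
    {g : G | orderOf g = i}.ncard * Nat.card N = Nat.card G * X.ncard := by
  rw [← union_eq h1 h2]
  exact ncard_conj_union X N hN hTI

lemma ncard_order {C : Subgroup G} (hC : IsCyclic C) {i : ℕ} (hi : i ∣ Nat.card C) :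
    {y : G | y ∈ C ∧ orderOf y = i}.ncard = Nat.totient i := by
  classical
  letI := Fintype.ofFinite C
  have h := IsCyclic.card_orderOf_eq_totient (α := C) (d := i) (by rwa [← Nat.card_eq_fintype_card])
  rw [← h, ← Set.ncard_coe_finset]
  have e : {y : G | y ∈ C ∧ orderOf y = i} = Subtype.val '' ((Finset.univ.filter (fun a : C => orderOf a = i) : Finset C) : Set C) := by
    ext y
    constructor
    · rintro ⟨h1, h2⟩
      refine ⟨⟨y, h1⟩, ?_, rfl⟩
      simp only [Finset.coe_filter, Finset.mem_univ, true_and, Set.mem_setOf_eq]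
      rw [← Subgroup.orderOf_coe]
      exact h2
    · rintro ⟨z, hz, rfl⟩
      simp only [Finset.coe_filter, Finset.mem_univ, true_and, Set.mem_setOf_eq] at hz
      refine ⟨z.2, ?_⟩
      rw [Subgroup.orderOf_coe]
      exact hz
  rw [e, Set.ncard_image_of_injective _ Subtype.val_injective]

/-! ### Arithmetic -/

lemma D_mul (q : ℕ) (hq : 1 ≤ q) : (q + 1) * (q ^ 2 + 1 - q) = q ^ 3 + 1 := by
  rw [D_eq1 q hq]
  obtain ⟨d, rfl⟩ : ∃ d, q = d + 1 := ⟨q - 1, by omega⟩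
  simp only [Nat.add_sub_cancel]
  ring

lemma sq_sub (q : ℕ) (hq : 1 ≤ q) : q ^ 2 - 1 = (q - 1) * (q + 1) := by
  obtain ⟨d, rfl⟩ : ∃ d, q = d + 1 := ⟨q - 1, by omega⟩
  simp only [Nat.add_sub_cancel]
  have : (d + 1) ^ 2 = d * (d + 1 + 1) + 1 := by ring
  rw [this, Nat.add_sub_cancel]

lemma D_form (q : ℕ) (hq : 1 ≤ q) : q ^ 2 - q + 1 = q ^ 2 + 1 - q := by
  have : q ≤ q ^ 2 := by nlinarith
  omega

variable {U H M A : Subgroup G} {n a : G} {m : ℕ} (R : Rd U H M A n a m)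

local notation "q" => 3 ^ (2 * m + 1)

include R

lemma Cz_H {h : G} (hh : h ∈ H) (h2 : h * h ≠ 1) : Cz h = H := by
  have hc := R.cycH
  ext x
  constructor
  · intro hx
    exact comm_H R hh h2 (mem_Cz.mp hx)
  · intro hx
    exact mem_Cz.mpr (comm_of_cyclic hc hx hh)

lemma sq_ne_of_order {x : G} {i : ℕ} (hx : orderOf x = i) (h2 : 2 < i) : x * x ≠ 1 := by
  intro h
  have : orderOf x ∣ 2 := orderOf_dvd_of_pow_eq_one (by rw [pow_two, h])
  rw [hx] at this
  have := Nat.le_of_dvd (by norm_num) this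
  omega

lemma ne_of_order {x : G} {i : ℕ} (hx : orderOf x = i) (h2 : 1 < i) : x ≠ 1 := by
  rintro rfl
  rw [orderOf_one] at hx
  omega

/-- Elements of `H`. -/
theorem count_H {i : ℕ} (h2 : 2 < i) (hi : i ∣ q - 1) :
    2 * {g : G | orderOf g = i}.ncard = Nat.totient i * q ^ 3 * (q ^ 3 + 1) := by
  have h := count (X := {y : G | y ∈ H ∧ orderOf y = i}) (N := Subgroup.normalizer (H : Set G)) (i := i)
    (fun x hx => hx.2)
    (fun g hg => by
      obtain ⟨t, ht⟩ := case_H R (x := g) (by rwa [hg]) (by rwa [hg])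
      exact ⟨t, ht, by rw [order_conj, hg]⟩)
    (fun n hn x hx => ⟨by simpa using (Subgroup.mem_normalizer_iff.mp (inv_mem hn) x).mp hx.1, by rw [order_conj', hx.2]⟩)
    (fun x hx t ht => normalizer_of_centralizer (Cz_H R hx.1 (sq_ne_of_order R hx.2 h2)) (Cz_H R ht.1 (sq_ne_of_order R ht.2 h2)))
  rw [card_N_H R, ncard_order R.cycH (by rw [R.cardH]; exact hi), card_G R] at h
  have hq1 : 1 ≤ q := Nat.one_le_pow _ _ (by norm_num)
  have hq2 := q_ge m R.hm
  have hpos : 0 < q - 1 := by omega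
  rw [D_mul _ hq1] at h
  apply Nat.eq_of_mul_eq_mul_right hpos
  calc 2 * {g : G | orderOf g = i}.ncard * (q - 1) = {g : G | orderOf g = i}.ncard * (2 * (q - 1)) := by ring
    _ = _ := h
    _ = _ := by ring

/-- Elements of `A`. -/
theorem count_A {i : ℕ} (h1 : 1 < i) (hi : i ∣ (q + 1) / 4) :
    6 * {g : G | orderOf g = i}.ncard = Nat.totient i * q ^ 3 * (q - 1) * (q ^ 2 + 1 - q) := by
  have h := count (X := {y : G | y ∈ A ∧ orderOf y = i}) (N := Subgroup.normalizer (M : Set G)) (i := i)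
    (fun x hx => hx.2)
    (fun g hg => by
      obtain ⟨t, ht⟩ := case_A R (x := g) (by rwa [hg]) (by rwa [hg])
      exact ⟨t, ht, by rw [order_conj, hg]⟩)
    (fun n hn x hx => ⟨by simpa using (Subgroup.mem_normalizer_iff.mp (A_char R (inv_mem hn)) x).mp hx.1, by rw [order_conj', hx.2]⟩)
    (fun x hx t ht => normalizer_of_centralizer (A_C R hx.1 (ne_of_order R hx.2 h1)) (A_C R ht.1 (ne_of_order R ht.2 h1)))
  rw [R.M_N, ncard_order R.A_cyc (by rw [R.A_card]; exact hi), card_G R] at h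
  have hq1 : 1 ≤ q := Nat.one_le_pow _ _ (by norm_num)
  have hpos : 0 < q + 1 := by omega
  apply Nat.eq_of_mul_eq_mul_right hpos
  calc 6 * {g : G | orderOf g = i}.ncard * (q + 1) = {g : G | orderOf g = i}.ncard * (6 * (q + 1)) := by ring
    _ = _ := h
    _ = _ := by ring

/-- The cyclic subgroups `Y`. -/
theorem count_Y {g g' : G} (hg : g ∈ RR G m) (hRR : RR G m = Xg g ∪ Xg g') {c c' : ℕ} (hc : Nat.card (Cz g) = c) (hc' : Nat.card (Cz g') = c')
    (hN : Nat.card (Subgroup.normalizer ((Cz g : Subgroup G) : Set G)) = 6 * c) (hco : Nat.Coprime c c') (hprod : c * c' = q ^ 2 + 1 - q)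
    {i : ℕ} (h1 : 1 < i) (hi : i ∣ c) :
    6 * {x : G | orderOf x = i}.ncard = Nat.totient i * q ^ 3 * (q ^ 2 - 1) * c' := by
  have hC : ∀ y ∈ Cz g, y ≠ 1 → Cz y = Cz g := fun y hy hy1 => Cz_eq R hg hy hy1
  have h := count (X := {y : G | y ∈ Cz g ∧ orderOf y = i}) (N := Subgroup.normalizer ((Cz g : Subgroup G) : Set G)) (i := i)
    (fun x hx => hx.2)
    (fun z hz => by
      obtain ⟨t, ht⟩ := case_Y R (x := z) hRR (by rw [hc, hc']; exact hco) (by rw [hc, ← hprod]; exact dvd_mul_right _ _)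
        (by rwa [hz]) (by rwa [hz, hc])
      exact ⟨t, ht, by rw [order_conj, hz]⟩)
    (fun n hn x hx => ⟨by simpa using (Subgroup.mem_normalizer_iff.mp (inv_mem hn) x).mp hx.1, by rw [order_conj', hx.2]⟩)
    (fun x hx t ht => normalizer_of_centralizer (hC x hx.1 (ne_of_order R hx.2 h1)) (hC _ ht.1 (ne_of_order R ht.2 h1)))
  rw [hN, ncard_order (RR_cyc R hg) (by rw [hc]; exact hi), card_G R, ← hprod] at h
  have hq1 : 1 ≤ q := Nat.one_le_pow _ _ (by norm_num)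
  have hcpos : 0 < c := by
    rw [← hc]
    exact Nat.card_pos
  rw [sq_sub _ hq1]
  apply Nat.eq_of_mul_eq_mul_right hcpos
  calc 6 * {x : G | orderOf x = i}.ncard * c = {x : G | orderOf x = i}.ncard * (6 * c) := by ring
    _ = _ := h
    _ = _ := by ring

/-- The elements of `M` of order `2 i`. -/
lemma ncard_M2 {i : ℕ} (h1 : 1 < i) (hi : i ∣ (q + 1) / 4) :
    {y : G | y ∈ M ∧ orderOf y = 2 * i}.ncard = 3 * Nat.totient i := by
  obtain ⟨k, hk1, hodd, hk2, hk4⟩ := k_facts m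
  rw [hk4] at hi
  have hoddi : Odd i := Odd.of_dvd_nat hodd hi
  have hV : ({x : G | x ∈ M ∧ x * x = 1} \ {1}).ncard = 3 := by
    rw [Set.ncard_diff_singleton_of_mem (show (1 : G) ∈ {x : G | x ∈ M ∧ x * x = 1} from ⟨one_mem _, mul_one _⟩), R.M_V]
  have hAi := ncard_order R.A_cyc (i := i) (by rw [R.A_card, hk4]; exact hi)
  rw [← hV, ← hAi, ← Set.ncard_prod]
  have hodd2 : ∀ {t z : G}, t ∈ ({x : G | x ∈ M ∧ x * x = 1} \ {1}) → z ∈ {y : G | y ∈ A ∧ orderOf y = i} → orderOf (t * z) = 2 * i := by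
    rintro t z ⟨⟨htM, ht2⟩, ht1⟩ ⟨hzA, hzi⟩
    haveI : Fact (Nat.Prime 2) := ⟨Nat.prime_two⟩
    have ho2 : orderOf t = 2 := orderOf_eq_prime (by rw [pow_two, ht2]) ht1
    have hcomm : Commute t z := R.M_comm _ htM _ ((R.A_iff z).mp hzA).1
    rw [hcomm.orderOf_mul_eq_mul_orderOf_of_coprime (by rw [ho2, hzi]; exact (Nat.coprime_two_left).mpr hoddi), ho2, hzi]
  have himg : {y : G | y ∈ M ∧ orderOf y = 2 * i} =
      (fun p : G × G => p.1 * p.2) '' (({x : G | x ∈ M ∧ x * x = 1} \ {1}) ×ˢ {y : G | y ∈ A ∧ orderOf y = i}) := by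
    ext y
    constructor
    · rintro ⟨hyM, hyo⟩
      have hy2k : y ^ (2 * k) = 1 := by
        rw [← hk2]
        exact R.M_exp y hyM
      refine ⟨(y ^ k, y ^ (k + 1)), ⟨⟨⟨pow_mem hyM k, ?_⟩, ?_⟩, ?_⟩, ?_⟩
      · rw [← pow_add, ← two_mul, hy2k]
      · intro h
        have h3 : orderOf y ∣ k := orderOf_dvd_of_pow_eq_one h
        rw [hyo] at h3
        exact hodd.not_two_dvd_nat ((dvd_mul_right 2 i).trans h3)
      · -- the second component
        have hzA : y ^ (k + 1) ∈ A := by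
          rw [R.A_iff, hk4]
          refine ⟨pow_mem hyM _, ?_⟩
          obtain ⟨r, hr⟩ := hodd
          have e : (y ^ (k + 1)) ^ k = (y ^ (2 * k)) ^ (r + 1) := by
            rw [← pow_mul, ← pow_mul]
            congr 1
            rw [hr]
            ring
          rw [e, hy2k, one_pow]
        refine ⟨hzA, ?_⟩
        -- its order
        have htz : y = y ^ k * y ^ (k + 1) := by
          rw [← pow_add, show k + (k + 1) = 2 * k + 1 by ring, pow_succ, hy2k, one_mul]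
        haveI : Fact (Nat.Prime 2) := ⟨Nat.prime_two⟩
        have ht1 : y ^ k ≠ 1 := by
          intro h
          have h3 : orderOf y ∣ k := orderOf_dvd_of_pow_eq_one h
          rw [hyo] at h3
          exact hodd.not_two_dvd_nat ((dvd_mul_right 2 i).trans h3)
        have ho2 : orderOf (y ^ k) = 2 := orderOf_eq_prime (by rw [← pow_mul, mul_comm, hy2k]) ht1
        have hzk := ((R.A_iff _).mp hzA).2
        rw [hk4] at hzk
        have hoddz : Odd (orderOf (y ^ (k + 1))) := Odd.of_dvd_nat hodd (orderOf_dvd_of_pow_eq_one hzk)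
        have hcomm : Commute (y ^ k) (y ^ (k + 1)) := by
          show y ^ k * y ^ (k + 1) = y ^ (k + 1) * y ^ k
          rw [← pow_add, ← pow_add, add_comm]
        have h5 := hcomm.orderOf_mul_eq_mul_orderOf_of_coprime (by rw [ho2]; exact (Nat.coprime_two_left).mpr hoddz)
        rw [← htz, hyo, ho2] at h5
        exact (Nat.eq_of_mul_eq_mul_left (by norm_num) h5).symm
      · show y ^ k * y ^ (k + 1) = y
        rw [← pow_add, show k + (k + 1) = 2 * k + 1 by ring, pow_succ, hy2k, one_mul]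
    · rintro ⟨⟨t, z⟩, ⟨ht, hz⟩, rfl⟩
      exact ⟨mul_mem ht.1.1 ((R.A_iff z).mp hz.1).1, hodd2 ht hz⟩
  rw [himg]
  apply Set.ncard_image_of_injOn
  rintro ⟨t, z⟩ ⟨ht, hz⟩ ⟨t', z'⟩ ⟨ht', hz'⟩ e
  have e' : t * z = t' * z' := e
  have hpow : ∀ {t z : G}, t ∈ ({x : G | x ∈ M ∧ x * x = 1} \ {1}) → z ∈ {y : G | y ∈ A ∧ orderOf y = i} → (t * z) ^ k = t := by
    rintro t z ⟨⟨htM, ht2⟩, ht1⟩ ⟨hzA, hzi⟩
    have hcomm : Commute t z := R.M_comm _ htM _ ((R.A_iff z).mp hzA).1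
    have hzk := ((R.A_iff _).mp hzA).2
    rw [hk4] at hzk
    obtain ⟨r, hr⟩ := hodd
    rw [hcomm.mul_pow, hzk, mul_one, hr, pow_succ, pow_mul, pow_two, ht2, one_pow, one_mul]
  have e1 : t = t' := by
    have h1' : (t * z) ^ k = t := hpow ht hz
    have h2' : (t' * z') ^ k = t' := hpow ht' hz'
    rw [← h1', e', h2']
  subst e1
  have e2 : z = z' := mul_left_cancel e'
  rw [e2]

/-- Elements of `M` of order `2 i`. -/
theorem count_M2 {i : ℕ} (h1 : 1 < i) (hi : i ∣ (q + 1) / 4) :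
    2 * {g : G | orderOf g = 2 * i}.ncard = Nat.totient i * q ^ 3 * (q - 1) * (q ^ 2 + 1 - q) := by
  have h22 : 2 < 2 * i := by omega
  obtain ⟨k, hk1, hodd, hk2, hk4⟩ := k_facts m
  have hoddi : Odd i := Odd.of_dvd_nat hodd (by rwa [hk4] at hi)
  have h := count (X := {y : G | y ∈ M ∧ orderOf y = 2 * i}) (N := Subgroup.normalizer (M : Set G)) (i := 2 * i)
    (fun x hx => hx.2)
    (fun g hg => by
      have ho : orderOf (g ^ 2) = i := by
        rw [orderOf_pow' _ (by norm_num), hg, Nat.gcd_eq_right (dvd_mul_right 2 i), Nat.mul_div_cancel_left _ (by norm_num)]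
      obtain ⟨t, ht⟩ := case_A R (x := g ^ 2) (by rwa [ho]) (by rwa [ho])
      refine ⟨t, ?_, by rw [order_conj, hg]⟩
      have hne : t * g ^ 2 * t⁻¹ ≠ 1 := ne_of_order R (by rw [order_conj, ho]) h1
      rw [← A_C R ht hne]
      exact mem_Cz.mpr (calc t * g * t⁻¹ * (t * g ^ 2 * t⁻¹) = t * (g * g ^ 2) * t⁻¹ := by group
          _ = t * (g ^ 2 * g) * t⁻¹ := by rw [← pow_succ, ← pow_succ']
          _ = t * g ^ 2 * t⁻¹ * (t * g * t⁻¹) := by group))
    (fun n hn x hx => ⟨by simpa using (Subgroup.mem_normalizer_iff.mp (inv_mem hn) x).mp hx.1, by rw [order_conj', hx.2]⟩)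
    (fun x hx t ht => normalizer_of_centralizer (XX_C R ⟨hx.1, sq_ne_of_order R hx.2 h22⟩) (XX_C R ⟨ht.1, sq_ne_of_order R ht.2 h22⟩))
  rw [R.M_N, ncard_M2 R h1 hi, card_G R] at h
  have hq1 : 1 ≤ q := Nat.one_le_pow _ _ (by norm_num)
  have hpos : 0 < 3 * (q + 1) := by omega
  apply Nat.eq_of_mul_eq_mul_right hpos
  calc 2 * {g : G | orderOf g = 2 * i}.ncard * (3 * (q + 1)) = {g : G | orderOf g = 2 * i}.ncard * (6 * (q + 1)) := by ring
    _ = _ := h
    _ = _ := by ring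

end Cfsg.Agent.Lib.ReeG2.Ab6
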