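import Cfsg.Agent.Lib.ReeG2.Ab6

/-!
# Abstract Ree-type groups: the numbers of elements of orders 2, 3, 6, 9, and the summary
-/

set_option autoImplicit false
set_option linter.unusedSectionVars false
set_option linter.unusedVariables false
set_option linter.unusedTactic false
set_option linter.unreachableTactic false

namespace Cfsg.Agent.Lib.ReeG2.Ab7

open Cfsg.Agent.Lib.ReeG2.Rank1 Cfsg.Agent.Lib.ReeG2.Rank1.Sp Cfsg.Agent.Lib.ReeG2.Ab1 Cfsg.Agent.Lib.ReeG2.Ab2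
  Cfsg.Agent.Lib.ReeG2.Ab3 Cfsg.Agent.Lib.ReeG2.Ab4 Cfsg.Agent.Lib.ReeG2.Ab5 Cfsg.Agent.Lib.ReeG2.Ab6

variable {G : Type*} [Group G] [Finite G]

variable {U H M A : Subgroup G} {n a : G} {m : ℕ} (R : Rd U H M A n a m)

local notation "q" => 3 ^ (2 * m + 1)

include R

/-- Powers in the Borel subgroup. -/
lemma pow_B {u h : G} (hu : u ∈ U) (hh : h ∈ H) (k : ℕ) : ∃ v ∈ U, (u * h) ^ k = v * h ^ k := by
  have S := R.S
  induction k with
  | zero => exact ⟨1, one_mem _, by simp⟩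
  | succ k ih =>
    obtain ⟨v, hv, e⟩ := ih
    refine ⟨v * (h ^ k * u * (h ^ k)⁻¹), mul_mem hv (S.H_U _ (pow_mem hh k) _ hu), ?_⟩
    rw [pow_succ, e, pow_succ]
    group

lemma H_of_nine {u h : G} (hu : u ∈ U) (hh : h ∈ H) (h9 : (u * h) ^ 9 = 1) : h = 1 := by
  have S := R.S
  obtain ⟨v, hv, e⟩ := pow_B R hu hh 9
  rw [h9] at e
  have e2 : h ^ 9 = v⁻¹ := eq_inv_of_mul_eq_one_right e.symm
  have h3 : h ^ 9 = 1 := S.U_H _ (by rw [e2]; exact inv_mem hv) (pow_mem hh 9)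
  have hd9 : orderOf h ∣ 9 := orderOf_dvd_of_pow_eq_one h3
  have hdq : orderOf h ∣ q - 1 := by
    rw [← R.cardH]
    exact Subgroup.orderOf_dvd_natCard H hh
  by_contra h1
  have ho : 1 < orderOf h := by
    have h0 := orderOf_pos h
    have h2 : orderOf h ≠ 1 := fun h' => h1 (orderOf_eq_one_iff.mp h')
    omega
  exact not_three_dvd_qm m ((three_dvd_of_dvd_nine hd9 ho).trans hdq)

/-- `3`-elements are conjugate into `U`. -/
lemma three_conj {g : G} (h9 : g ^ 9 = 1) (h1 : g ≠ 1) : ∃ t, t * g * t⁻¹ ∈ U := by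
  have hd9 : orderOf g ∣ 9 := orderOf_dvd_of_pow_eq_one h9
  have ho : 1 < orderOf g := by
    have h0 := orderOf_pos g
    have h2 : orderOf g ≠ 1 := fun h' => h1 (orderOf_eq_one_iff.mp h')
    omega
  have h3 := three_dvd_of_dvd_nine hd9 ho
  rcases fix_cases R g with hF | ⟨t, u, h, hu, hh, e⟩
  · exfalso
    rcases F0_subset R hF with hT | hRR
    · have hT' := TL_order R hT
      obtain ⟨k, hk1, hodd, hk2, hk4⟩ := k_facts m
      rw [hk2] at hT'
      have h32 : 3 ∣ 2 * k := h3.trans hT'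
      have h33 : 3 ∣ k := Nat.Coprime.dvd_of_dvd_mul_left (by norm_num) h32
      exact not_three_dvd_k m (by rwa [hk4])
    · exact (prime_D Nat.prime_three (hRR.2 3 Nat.prime_three h3)).2.1 rfl
  · refine ⟨t, ?_⟩
    have h9' : (u * h) ^ 9 = 1 := by
      rw [← e, conj_pow, h9]
      group
    have h0 := H_of_nine R hu hh h9'
    rw [e, h0, mul_one]
    exact hu

/-- The elements of order `i ∣ 9`. -/
theorem count_U {i : ℕ} (h1 : 1 < i) (hi : i ∣ 9) :
    {g : G | orderOf g = i}.ncard = (q ^ 3 + 1) * {y : G | y ∈ U ∧ orderOf y = i}.ncard := by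
  have S := R.S
  have h := count (X := {y : G | y ∈ U ∧ orderOf y = i}) (N := B U H) (i := i)
    (fun x hx => hx.2)
    (fun g hg => by
      have h9 : g ^ 9 = 1 := by
        rw [← orderOf_dvd_iff_pow_eq_one, hg]
        exact hi
      obtain ⟨t, ht⟩ := three_conj R h9 (ne_of_order R hg h1)
      exact ⟨t, ht, by rw [order_conj, hg]⟩)
    (fun n hn x hx => ⟨by simpa using S.conj_U_eq_of_mem (inv_mem hn) x hx.1, by rw [order_conj', hx.2]⟩)
    (fun x hx t ht => by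
      by_contra hB
      exact ne_of_order R hx.2 h1 (S.U_inf_conj hB hx.1 ht.1))
  rw [S.card_B, R.cardU, R.cardH, card_G R] at h
  have hq2 := q_ge m R.hm
  have hq1 : 1 ≤ q := by omega
  have hpos : 0 < q ^ 3 * (q - 1) := Nat.mul_pos (by positivity) (by omega)
  apply Nat.eq_of_mul_eq_mul_right hpos
  rw [h, D_mul _ hq1]
  ring

theorem count_three (hU3 : {y : G | y ∈ U ∧ orderOf y = 3}.ncard = q ^ 2 - 1) :
    {g : G | orderOf g = 3}.ncard = (q ^ 2 - 1) * (q ^ 3 + 1) := by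
  rw [count_U R (by norm_num) (by norm_num), hU3]
  ring

lemma ncard_nine (hU3 : {y : G | y ∈ U ∧ orderOf y = 3}.ncard = q ^ 2 - 1) :
    {y : G | y ∈ U ∧ orderOf y = 9}.ncard = q ^ 2 * (q - 1) := by
  have hcard : (U : Set G).ncard = q ^ 3 := by
    rw [← Nat.card_coe_set_eq]
    exact R.cardU
  have e : (U : Set G) = ({1} ∪ {y : G | y ∈ U ∧ orderOf y = 3}) ∪ {y : G | y ∈ U ∧ orderOf y = 9} := by
    ext y
    constructor
    · intro hy
      have h9 := R.U9 y hy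
      have hd : orderOf y ∣ 3 ^ 2 := orderOf_dvd_of_pow_eq_one h9
      obtain ⟨j, hj, hj2⟩ := (Nat.dvd_prime_pow Nat.prime_three).mp hd
      interval_cases j
      · left; left
        exact orderOf_eq_one_iff.mp (by simpa using hj2)
      · left; right
        exact ⟨hy, by simpa using hj2⟩
      · right
        exact ⟨hy, by simpa using hj2⟩
    · rintro ((rfl | h) | h)
      · exact one_mem _
      · exact h.1
      · exact h.1
  have hfin : ∀ s : Set G, s.Finite := fun s => Set.toFinite s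
  have hd1 : Disjoint ({1} : Set G) {y : G | y ∈ U ∧ orderOf y = 3} := by
    rw [Set.disjoint_singleton_left]
    rintro ⟨-, h⟩
    simp at h
  have hd2 : Disjoint ({1} ∪ {y : G | y ∈ U ∧ orderOf y = 3}) {y : G | y ∈ U ∧ orderOf y = 9} := by
    rw [Set.disjoint_left]
    rintro y (rfl | h) h'
    · have := h'.2
      simp at this
    · have h3 := h.2
      have h4 := h'.2
      omega
  rw [e, Set.ncard_union_eq hd2 (hfin _) (hfin _), Set.ncard_union_eq hd1 (hfin _) (hfin _), Set.ncard_singleton, hU3] at hcard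
  have hq2 := q_ge m R.hm
  have hq1 : 1 ≤ q := by omega
  have e3 : q ^ 3 = q ^ 2 * (q - 1) + q ^ 2 := by
    generalize q = r at *
    obtain ⟨d, rfl⟩ : ∃ d, r = d + 1 := ⟨r - 1, by omega⟩
    simp only [Nat.add_sub_cancel]
    ring
  have h2 : 1 ≤ q ^ 2 := Nat.one_le_pow _ _ (by omega)
  rw [e3] at hcard
  generalize q ^ 2 * (q - 1) = A1 at *
  generalize q ^ 2 = A2 at *
  omega

theorem count_nine (hU3 : {y : G | y ∈ U ∧ orderOf y = 3}.ncard = q ^ 2 - 1) :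
    {g : G | orderOf g = 9}.ncard = q ^ 2 * (q - 1) * (q ^ 3 + 1) := by
  rw [count_U R (by norm_num) (by norm_num), ncard_nine R hU3]
  ring

/-- The elements of order two. -/
theorem count_two : {g : G | orderOf g = 2}.ncard = q ^ 2 * (q ^ 2 + 1 - q) := by
  have e : {g : G | orderOf g = 2} = Ab1.Inv G := by
    ext g
    constructor
    · intro h
      have h' : orderOf g = 2 := h
      refine ⟨by rw [← pow_two, ← h', pow_orderOf_eq_one], ?_⟩
      rintro rfl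
      simp at h'
    · rintro ⟨h1, h2⟩
      haveI : Fact (Nat.Prime 2) := ⟨Nat.prime_two⟩
      exact orderOf_eq_prime (by rw [pow_two, h1]) h2
  have h := card_Inv R
  rw [← e, R.Ca, card_G R] at h
  have hq2 := q_ge m R.hm
  have hq1 : 1 ≤ q := by omega
  have hpos : 0 < q * (q ^ 2 - 1) := by
    apply Nat.mul_pos (by omega)
    rw [sq_sub _ hq1]
    exact Nat.mul_pos (by omega) (by omega)
  apply Nat.eq_of_mul_eq_mul_right hpos
  rw [h, sq_sub _ hq1]
  ring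

/-! ### Elements of order `6` -/

/-- The elements of order `6` to be counted. -/
def X6 (U : Subgroup G) (a : G) : Set G := {x | ∃ y ∈ U, y * a = a * y ∧ y ≠ 1 ∧ x = y * a}

lemma comm_a {h : G} (hh : h ∈ H) : h * a = a * h := comm_of_cyclic R.cycH hh R.a_H

lemma card_N6 : Nat.card (B U H ⊓ Cz a : Subgroup G) = q * (q - 1) := by
  have S := R.S
  have hb : Function.Bijective (fun p : (U ⊓ Cz a : Subgroup G) × H =>
      (⟨p.1.1 * p.2.1, (S.mem_B).mpr ⟨_, p.1.2.1, _, p.2.2, rfl⟩, mem_Cz.mpr (by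
        have h1 := mem_Cz.mp p.1.2.2
        have h2 := comm_a R p.2.2
        calc p.1.1 * p.2.1 * a = p.1.1 * (a * p.2.1) := by rw [mul_assoc, h2]
          _ = (p.1.1 * a) * p.2.1 := by rw [mul_assoc]
          _ = a * (p.1.1 * p.2.1) := by rw [h1, mul_assoc])⟩ : (B U H ⊓ Cz a : Subgroup G))) := by
    constructor
    · rintro ⟨⟨u, hu⟩, ⟨h, hh⟩⟩ ⟨⟨u', hu'⟩, ⟨h', hh'⟩⟩ e
      have e' : u * h = u' * h' := congrArg Subtype.val e
      have e1 : u'⁻¹ * u = h' * h⁻¹ := by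
        calc u'⁻¹ * u = u'⁻¹ * (u * h) * h⁻¹ := by group
          _ = u'⁻¹ * (u' * h') * h⁻¹ := by rw [e']
          _ = h' * h⁻¹ := by group
      have e2 : u'⁻¹ * u = 1 := S.U_H _ (mul_mem (inv_mem hu'.1) hu.1) (by rw [e1]; exact mul_mem hh' (inv_mem hh))
      have e3 : u = u' := (inv_mul_eq_one.mp e2).symm
      subst e3
      have e4 : h = h' := mul_left_cancel e'
      subst e4
      rfl
    · rintro ⟨g, hgB, hgC⟩
      obtain ⟨u, hu, h, hh, rfl⟩ := (S.mem_B).mp hgB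
      have hc := mem_Cz.mp hgC
      have h2 := comm_a R hh
      have hua : u * a = a * u := by
        have e : u * a * h = a * u * h := by
          calc u * a * h = u * (a * h) := by rw [mul_assoc]
            _ = u * (h * a) := by rw [h2]
            _ = u * h * a := by rw [mul_assoc]
            _ = a * (u * h) := hc
            _ = a * u * h := by rw [mul_assoc]
        exact mul_right_cancel e
      exact ⟨(⟨u, hu, mem_Cz.mpr hua⟩, ⟨h, hh⟩), rfl⟩
  rw [← Nat.card_congr (Equiv.ofBijective _ hb), Nat.card_prod, R.CUa, R.cardH]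

lemma ncard_X6 : (X6 U a).ncard = q - 1 := by
  have e : X6 U a = (fun y => y * a) '' (((U ⊓ Cz a : Subgroup G) : Set G) \ {1}) := by
    ext x
    constructor
    · rintro ⟨y, hy, hc, h1, rfl⟩
      exact ⟨y, ⟨⟨hy, mem_Cz.mpr hc⟩, h1⟩, rfl⟩
    · rintro ⟨y, ⟨⟨hy, hc⟩, h1⟩, rfl⟩
      exact ⟨y, hy, mem_Cz.mp hc, h1, rfl⟩
  rw [e, Set.ncard_image_of_injective _ (mul_left_injective a), Set.ncard_diff_singleton_of_mem (one_mem (U ⊓ Cz a : Subgroup G)),
    ← Nat.card_coe_set_eq]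
  show Nat.card (U ⊓ Cz a : Subgroup G) - 1 = _
  rw [R.CUa]

lemma a_order : orderOf a = 2 := by
  haveI : Fact (Nat.Prime 2) := ⟨Nat.prime_two⟩
  exact orderOf_eq_prime (by rw [pow_two, R.a_sq]) R.a_ne

lemma order_X6 {x : G} (hx : x ∈ X6 U a) : orderOf x = 6 := by
  obtain ⟨y, hy, hc, h1, rfl⟩ := hx
  haveI : Fact (Nat.Prime 3) := ⟨Nat.prime_three⟩
  have ho3 : orderOf y = 3 := orderOf_eq_prime (R.CUa3 y hy hc) h1
  have hcm : Commute y a := hc
  rw [hcm.orderOf_mul_eq_mul_orderOf_of_coprime (by rw [ho3, a_order R]; norm_num), ho3, a_order R]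

lemma X6_conj {g : G} (hg : orderOf g = 6) : ∃ t, t * g * t⁻¹ ∈ X6 U a := by
  have g6 : g ^ 6 = 1 := by rw [← hg, pow_orderOf_eq_one]
  have hne : ∀ j : ℕ, 0 < j → j < 6 → g ^ j ≠ 1 := fun j h0 h6 h' => by
    have := Nat.le_of_dvd h0 (orderOf_dvd_of_pow_eq_one h')
    omega
  have h3 : g ^ 3 * g ^ 3 = 1 := by rw [← pow_add, g6]
  obtain ⟨z, hz⟩ := R.inv_conj _ h3 (hne 3 (by norm_num) (by norm_num))
  have hy3 : (g ^ 4) ^ 3 = 1 := by
    rw [← pow_mul, show 4 * 3 = 6 + 6 by norm_num, pow_add, g6, one_mul]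
  have hg7 : g = g ^ 4 * g ^ 3 := by
    rw [← pow_add, show 4 + 3 = 6 + 1 by norm_num, pow_add, g6, one_mul, pow_one]
  have hcomm : g ^ 4 * g ^ 3 = g ^ 3 * g ^ 4 := by
    rw [← pow_add, ← pow_add]
  have ea : a = z⁻¹ * g ^ 3 * z := by rw [hz]; group
  have hwa : (z⁻¹ * g ^ 4 * z) * a = a * (z⁻¹ * g ^ 4 * z) := by
    calc (z⁻¹ * g ^ 4 * z) * a = z⁻¹ * (g ^ 4 * g ^ 3) * z := by rw [ea]; group
      _ = z⁻¹ * (g ^ 3 * g ^ 4) * z := by rw [hcomm]
      _ = a * (z⁻¹ * g ^ 4 * z) := by rw [ea]; group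
  have hw9 : (z⁻¹ * g ^ 4 * z) ^ 9 = 1 := by
    rw [conj_pow', show 9 = 3 * 3 by norm_num, pow_mul, hy3]
    group
  obtain ⟨c, hc, hcU⟩ := conj_into_CU R hwa hw9
  set w := z⁻¹ * g ^ 4 * z with hw
  have hy1 : c⁻¹ * w * c ≠ 1 := by
    intro h
    have e1 : w = 1 := by
      have : w = c * (c⁻¹ * w * c) * c⁻¹ := by group
      rw [this, h]
      group
    have e2 : g ^ 4 = z * w * z⁻¹ := by rw [hw]; group
    rw [e1] at e2
    apply hne 4 (by norm_num) (by norm_num)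
    rw [e2]
    group
  have hcinv : c⁻¹ * a * c = a := by
    have : a * c = c * a := hc.symm
    calc c⁻¹ * a * c = c⁻¹ * (a * c) := by rw [mul_assoc]
      _ = c⁻¹ * (c * a) := by rw [this]
      _ = a := by group
  have hya : (c⁻¹ * w * c) * a = a * (c⁻¹ * w * c) := by
    calc (c⁻¹ * w * c) * a = c⁻¹ * w * (c * a) := by rw [mul_assoc]
      _ = c⁻¹ * w * (a * c) := by rw [hc]
      _ = c⁻¹ * (w * a) * c := by group
      _ = c⁻¹ * (a * w) * c := by rw [hwa]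
      _ = (c⁻¹ * a * c) * (c⁻¹ * w * c) := by group
      _ = a * (c⁻¹ * w * c) := by rw [hcinv]
  refine ⟨c⁻¹ * z⁻¹, c⁻¹ * w * c, hcU, hya, hy1, ?_⟩
  calc c⁻¹ * z⁻¹ * g * (c⁻¹ * z⁻¹)⁻¹ = c⁻¹ * z⁻¹ * (g ^ 4 * g ^ 3) * (c⁻¹ * z⁻¹)⁻¹ := by rw [← hg7]
    _ = (c⁻¹ * (z⁻¹ * g ^ 4 * z) * c) * (c⁻¹ * (z⁻¹ * g ^ 3 * z) * c) := by group
    _ = c⁻¹ * w * c * (c⁻¹ * a * c) := by rw [← ea]
    _ = c⁻¹ * w * c * a := by rw [hcinv]

lemma X6_N {n' x : G} (hn : n' ∈ (B U H ⊓ Cz a : Subgroup G)) (hx : x ∈ X6 U a) : n'⁻¹ * x * n' ∈ X6 U a := by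
  have S := R.S
  obtain ⟨y, hy, hc, h1, rfl⟩ := hx
  have hnc := mem_Cz.mp hn.2
  have hnc' : n'⁻¹ * a = a * n'⁻¹ := by
    have := mem_Cz.mp (inv_mem hn.2)
    exact this
  refine ⟨n'⁻¹ * y * n', by simpa using S.conj_U_eq_of_mem (inv_mem hn.1) y hy, ?_, ?_, ?_⟩
  · calc n'⁻¹ * y * n' * a = n'⁻¹ * y * (n' * a) := by rw [mul_assoc]
      _ = n'⁻¹ * y * (a * n') := by rw [hnc]
      _ = n'⁻¹ * (y * a) * n' := by group
      _ = n'⁻¹ * (a * y) * n' := by rw [hc]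
      _ = (n'⁻¹ * a) * y * n' := by group
      _ = a * n'⁻¹ * y * n' := by rw [hnc']
      _ = a * (n'⁻¹ * y * n') := by group
  · intro h
    apply h1
    have : y = n' * (n'⁻¹ * y * n') * n'⁻¹ := by group
    rw [this, h]
    group
  · calc n'⁻¹ * (y * a) * n' = n'⁻¹ * y * (a * n') := by group
      _ = n'⁻¹ * y * (n' * a) := by rw [hnc]
      _ = n'⁻¹ * y * n' * a := by group

lemma X6_TI {x t : G} (hx : x ∈ X6 U a) (ht : t * x * t⁻¹ ∈ X6 U a) : t ∈ (B U H ⊓ Cz a : Subgroup G) := by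
  have S := R.S
  obtain ⟨y, hy, hc, h1, rfl⟩ := hx
  obtain ⟨y', hy', hc', h1', e⟩ := ht
  have h33 : ∀ {v : G}, v ∈ U → v * a = a * v → (v * a) ^ 3 = a := by
    intro v hv hva
    have hcm : Commute v a := hva
    rw [hcm.mul_pow, R.CUa3 v hv hva, one_mul, pow_succ, pow_two, R.a_sq, one_mul]
  have e3 : t * a * t⁻¹ = a := by
    have this : (t * (y * a) * t⁻¹) ^ 3 = (y' * a) ^ 3 := by rw [e]
    rw [conj_pow, h33 hy hc, h33 hy' hc'] at this
    exact this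
  have htc : t * a = a * t := by
    calc t * a = (t * a * t⁻¹) * t := by group
      _ = a * t := by rw [e3]
  have e4 : t * y * t⁻¹ = y' := by
    have : t * (y * a) * t⁻¹ = (t * y * t⁻¹) * (t * a * t⁻¹) := by group
    rw [this, e3] at e
    exact mul_right_cancel e
  refine ⟨?_, mem_Cz.mpr htc⟩
  by_contra hB
  exact h1 (S.U_inf_conj hB hy (by rw [e4]; exact hy'))

theorem count_six : {g : G | orderOf g = 6}.ncard = q ^ 2 * (q - 1) * (q ^ 3 + 1) := by
  have h := count (X := X6 U a) (N := (B U H ⊓ Cz a : Subgroup G)) (i := 6)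
    (fun x hx => order_X6 R hx)
    (fun g hg => X6_conj R hg)
    (fun n hn x hx => X6_N R hn hx)
    (fun x hx t ht => X6_TI R hx ht)
  rw [card_N6 R, ncard_X6 R, card_G R] at h
  have hq2 := q_ge m R.hm
  have hq1 : 1 ≤ q := by omega
  have hpos : 0 < q * (q - 1) := Nat.mul_pos (by omega) (by omega)
  apply Nat.eq_of_mul_eq_mul_right hpos
  rw [h, D_mul _ hq1]
  ring

/-! ### Summary -/

omit R in
lemma card_sub {G : Type*} [Group G] [Finite G] (i : ℕ) : Nat.card {g : G // orderOf g = i} = {g : G | orderOf g = i}.ncard :=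
  Nat.card_coe_set_eq {g : G | orderOf g = i}

theorem counts (hU3 : {y : G | y ∈ U ∧ orderOf y = 3}.ncard = q ^ 2 - 1) :
    Nat.card {g : G // orderOf g = 2} = q ^ 2 * (q ^ 2 - q + 1) ∧
    Nat.card {g : G // orderOf g = 3} = (q ^ 2 - 1) * (q ^ 3 + 1) ∧
    Nat.card {g : G // orderOf g = 6} = q ^ 2 * (q - 1) * (q ^ 3 + 1) ∧
    Nat.card {g : G // orderOf g = 9} = q ^ 2 * (q - 1) * (q ^ 3 + 1) ∧
    (∀ i : ℕ, 2 < i → i ∣ q - 1 →
      2 * Nat.card {g : G // orderOf g = i} = Nat.totient i * q ^ 3 * (q ^ 3 + 1)) ∧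
    (∀ i : ℕ, 1 < i → i ∣ (q + 1) / 4 →
      6 * Nat.card {g : G // orderOf g = i} = Nat.totient i * q ^ 3 * (q - 1) * (q ^ 2 - q + 1) ∧
        2 * Nat.card {g : G // orderOf g = 2 * i} = Nat.totient i * q ^ 3 * (q - 1) * (q ^ 2 - q + 1)) ∧
    (∀ i : ℕ, 1 < i → i ∣ q - 3 ^ (m + 1) + 1 →
      6 * Nat.card {g : G // orderOf g = i} = Nat.totient i * q ^ 3 * (q ^ 2 - 1) * (q + 3 ^ (m + 1) + 1)) ∧
    (∀ i : ℕ, 1 < i → i ∣ q + 3 ^ (m + 1) + 1 →
      6 * Nat.card {g : G // orderOf g = i} = Nat.totient i * q ^ 3 * (q ^ 2 - 1) * (q - 3 ^ (m + 1) + 1)) := by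
  have hq2 := q_ge m R.hm
  have hq1 : 1 ≤ q := by omega
  obtain ⟨g₁, g₂, hg₁, hg₂, hRR, hc₁, hc₂, hN₁, hN₂⟩ := orders_of_classes R
  refine ⟨?_, ?_, ?_, ?_, ?_, ?_, ?_, ?_⟩
  · rw [card_sub, count_two R, D_form _ hq1]
  · rw [card_sub, count_three R hU3]
  · rw [card_sub, count_six R]
  · rw [card_sub, count_nine R hU3]
  · intro i h2 hi
    rw [card_sub, count_H R h2 hi]
  · intro i h1 hi
    rw [card_sub, card_sub, count_A R h1 hi, count_M2 R h1 hi, D_form _ hq1]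
    exact ⟨rfl, rfl⟩
  · intro i h1 hi
    rw [card_sub]
    exact count_Y R hg₁ hRR hc₁ hc₂ hN₁ (c_coprime m) (c_prod m) h1 hi
  · intro i h1 hi
    rw [card_sub]
    exact count_Y R hg₂ (by rw [hRR, Set.union_comm]) hc₂ hc₁ hN₂ (c_coprime m).symm (by rw [mul_comm]; exact c_prod m) h1 hi

end Cfsg.Agent.Lib.ReeG2.Ab7
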