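import Cfsg.Agent.Lib.ReeG2.Tw

/-!
# The explicit short blocks of the root elements of `G₂` in characteristic three
-/

set_option autoImplicit false
set_option linter.unusedTactic false
set_option linter.unreachableTactic false
set_option maxHeartbeats 2000000

namespace Cfsg.Agent.Lib.ReeG2.Blk7

open scoped MatrixGroups Matrix
open Cfsg Lie ChevalleyDatum
open Cfsg.Agent.Lib.Chev
open Tables AxBasic
open Cfsg.Agent.Lib.ReeG2.Blocks Cfsg.Agent.Lib.ReeG2.Tw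

variable {F : Type*} [Field F] [CharP F 3]

/-- The short block of `x_0(t)`. -/
def Xm0 (t : F) : Matrix (Fin 7) (Fin 7) F :=
  !![1, 0, 0, 0, 0, t, 0;
    0, 1, 0, 0, 0, 0, -t;
    0, 0, 1, 0, 0, 0, 0;
    0, 0, 0, 1, 0, 0, 0;
    0, 0, 0, 0, 1, 0, 0;
    0, 0, 0, 0, 0, 1, 0;
    0, 0, 0, 0, 0, 0, 1]

/-- Its table. -/
def tab0 : Fin 7 → Fin 7 → List (ℕ × ℤ) :=
  ![![[(0, 1)], [], [], [], [], [(1, 1)], []], ![[], [(0, 1)], [], [], [], [], [(1, -1)]], ![[], [], [(0, 1)], [], [], [], []], ![[], [], [], [(0, 1)], [], [], []], ![[], [], [], [], [(0, 1)], [], []], ![[], [], [], [], [], [(0, 1)], []], ![[], [], [], [], [], [], [(0, 1)]]]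

theorem tab0_eq : ∀ a b, red3 (coefs chevG2 ⟨0, by decide⟩ (ii a) (ii b)) = tab0 a b := by decide +kernel

lemma blk_x0 (t : F) : Blk (chevG2.x F 0 t) = Xm0 t := by
  ext a b
  rw [Blk_apply, x_eq_xMat' 0 (by decide), xMat_eq, ← evalL_red3, tab0_eq]
  fin_cases a <;> fin_cases b <;> simp [Xm0, tab0]

/-- The short block of `x_1(t)`. -/
def Xm1 (t : F) : Matrix (Fin 7) (Fin 7) F :=
  !![1, 0, 0, 0, t, 0, 0;
    0, 1, 0, 0, 0, 0, 0;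
    0, 0, 1, 0, 0, 0, -t;
    0, 0, 0, 1, 0, 0, 0;
    0, 0, 0, 0, 1, 0, 0;
    0, 0, 0, 0, 0, 1, 0;
    0, 0, 0, 0, 0, 0, 1]

/-- Its table. -/
def tab1 : Fin 7 → Fin 7 → List (ℕ × ℤ) :=
  ![![[(0, 1)], [], [], [], [(1, 1)], [], []], ![[], [(0, 1)], [], [], [], [], []], ![[], [], [(0, 1)], [], [], [], [(1, -1)]], ![[], [], [], [(0, 1)], [], [], []], ![[], [], [], [], [(0, 1)], [], []], ![[], [], [], [], [], [(0, 1)], []], ![[], [], [], [], [], [], [(0, 1)]]]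

theorem tab1_eq : ∀ a b, red3 (coefs chevG2 ⟨1, by decide⟩ (ii a) (ii b)) = tab1 a b := by decide +kernel

lemma blk_x1 (t : F) : Blk (chevG2.x F 1 t) = Xm1 t := by
  ext a b
  rw [Blk_apply, x_eq_xMat' 1 (by decide), xMat_eq, ← evalL_red3, tab1_eq]
  fin_cases a <;> fin_cases b <;> simp [Xm1, tab1]

/-- The short block of `x_2(t)`. -/
def Xm2 (t : F) : Matrix (Fin 7) (Fin 7) F :=
  !![1, 0, 0, t, 0, 0, -t^2;
    0, 1, 0, 0, t, 0, 0;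
    0, 0, 1, 0, 0, -t, 0;
    0, 0, 0, 1, 0, 0, t;
    0, 0, 0, 0, 1, 0, 0;
    0, 0, 0, 0, 0, 1, 0;
    0, 0, 0, 0, 0, 0, 1]

/-- Its table. -/
def tab2 : Fin 7 → Fin 7 → List (ℕ × ℤ) :=
  ![![[(0, 1)], [], [], [(1, 1)], [], [], [(2, -1)]], ![[], [(0, 1)], [], [], [(1, 1)], [], []], ![[], [], [(0, 1)], [], [], [(1, -1)], []], ![[], [], [], [(0, 1)], [], [], [(1, 1)]], ![[], [], [], [], [(0, 1)], [], []], ![[], [], [], [], [], [(0, 1)], []], ![[], [], [], [], [], [], [(0, 1)]]]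

theorem tab2_eq : ∀ a b, red3 (coefs chevG2 ⟨2, by decide⟩ (ii a) (ii b)) = tab2 a b := by decide +kernel

lemma blk_x2 (t : F) : Blk (chevG2.x F 2 t) = Xm2 t := by
  ext a b
  rw [Blk_apply, x_eq_xMat' 2 (by decide), xMat_eq, ← evalL_red3, tab2_eq]
  fin_cases a <;> fin_cases b <;> simp [Xm2, tab2]

/-- The short block of `x_3(t)`. -/
def Xm3 (t : F) : Matrix (Fin 7) (Fin 7) F :=
  !![1, 0, t, 0, 0, 0, 0;
    0, 1, 0, -t, 0, -t^2, 0;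
    0, 0, 1, 0, 0, 0, 0;
    0, 0, 0, 1, 0, -t, 0;
    0, 0, 0, 0, 1, 0, -t;
    0, 0, 0, 0, 0, 1, 0;
    0, 0, 0, 0, 0, 0, 1]

/-- Its table. -/
def tab3 : Fin 7 → Fin 7 → List (ℕ × ℤ) :=
  ![![[(0, 1)], [], [(1, 1)], [], [], [], []], ![[], [(0, 1)], [], [(1, -1)], [], [(2, -1)], []], ![[], [], [(0, 1)], [], [], [], []], ![[], [], [], [(0, 1)], [], [(1, -1)], []], ![[], [], [], [], [(0, 1)], [], [(1, -1)]], ![[], [], [], [], [], [(0, 1)], []], ![[], [], [], [], [], [], [(0, 1)]]]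

theorem tab3_eq : ∀ a b, red3 (coefs chevG2 ⟨3, by decide⟩ (ii a) (ii b)) = tab3 a b := by decide +kernel

lemma blk_x3 (t : F) : Blk (chevG2.x F 3 t) = Xm3 t := by
  ext a b
  rw [Blk_apply, x_eq_xMat' 3 (by decide), xMat_eq, ← evalL_red3, tab3_eq]
  fin_cases a <;> fin_cases b <;> simp [Xm3, tab3]

/-- The short block of `x_4(t)`. -/
def Xm4 (t : F) : Matrix (Fin 7) (Fin 7) F :=
  !![1, -t, 0, 0, 0, 0, 0;
    0, 1, 0, 0, 0, 0, 0;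
    0, 0, 1, -t, -t^2, 0, 0;
    0, 0, 0, 1, -t, 0, 0;
    0, 0, 0, 0, 1, 0, 0;
    0, 0, 0, 0, 0, 1, t;
    0, 0, 0, 0, 0, 0, 1]

/-- Its table. -/
def tab4 : Fin 7 → Fin 7 → List (ℕ × ℤ) :=
  ![![[(0, 1)], [(1, -1)], [], [], [], [], []], ![[], [(0, 1)], [], [], [], [], []], ![[], [], [(0, 1)], [(1, -1)], [(2, -1)], [], []], ![[], [], [], [(0, 1)], [(1, -1)], [], []], ![[], [], [], [], [(0, 1)], [], []], ![[], [], [], [], [], [(0, 1)], [(1, 1)]], ![[], [], [], [], [], [], [(0, 1)]]]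

theorem tab4_eq : ∀ a b, red3 (coefs chevG2 ⟨4, by decide⟩ (ii a) (ii b)) = tab4 a b := by decide +kernel

lemma blk_x4 (t : F) : Blk (chevG2.x F 4 t) = Xm4 t := by
  ext a b
  rw [Blk_apply, x_eq_xMat' 4 (by decide), xMat_eq, ← evalL_red3, tab4_eq]
  fin_cases a <;> fin_cases b <;> simp [Xm4, tab4]

/-- The short block of `x_5(t)`. -/
def Xm5 (t : F) : Matrix (Fin 7) (Fin 7) F :=
  !![1, 0, 0, 0, 0, 0, 0;
    0, 1, -t, 0, 0, 0, 0;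
    0, 0, 1, 0, 0, 0, 0;
    0, 0, 0, 1, 0, 0, 0;
    0, 0, 0, 0, 1, t, 0;
    0, 0, 0, 0, 0, 1, 0;
    0, 0, 0, 0, 0, 0, 1]

/-- Its table. -/
def tab5 : Fin 7 → Fin 7 → List (ℕ × ℤ) :=
  ![![[(0, 1)], [], [], [], [], [], []], ![[], [(0, 1)], [(1, -1)], [], [], [], []], ![[], [], [(0, 1)], [], [], [], []], ![[], [], [], [(0, 1)], [], [], []], ![[], [], [], [], [(0, 1)], [(1, 1)], []], ![[], [], [], [], [], [(0, 1)], []], ![[], [], [], [], [], [], [(0, 1)]]]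

theorem tab5_eq : ∀ a b, red3 (coefs chevG2 ⟨5, by decide⟩ (ii a) (ii b)) = tab5 a b := by decide +kernel

lemma blk_x5 (t : F) : Blk (chevG2.x F 5 t) = Xm5 t := by
  ext a b
  rw [Blk_apply, x_eq_xMat' 5 (by decide), xMat_eq, ← evalL_red3, tab5_eq]
  fin_cases a <;> fin_cases b <;> simp [Xm5, tab5]

/-- The short block of `x_6(t)`. -/
def Xb (t : F) : Matrix (Fin 7) (Fin 7) F :=
  !![1, 0, 0, 0, 0, 0, 0;
    0, 1, 0, 0, 0, 0, 0;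
    0, -t, 1, 0, 0, 0, 0;
    0, 0, 0, 1, 0, 0, 0;
    0, 0, 0, 0, 1, 0, 0;
    0, 0, 0, 0, t, 1, 0;
    0, 0, 0, 0, 0, 0, 1]

/-- Its table. -/
def tab6 : Fin 7 → Fin 7 → List (ℕ × ℤ) :=
  ![![[(0, 1)], [], [], [], [], [], []], ![[], [(0, 1)], [], [], [], [], []], ![[], [(1, -1)], [(0, 1)], [], [], [], []], ![[], [], [], [(0, 1)], [], [], []], ![[], [], [], [], [(0, 1)], [], []], ![[], [], [], [], [(1, 1)], [(0, 1)], []], ![[], [], [], [], [], [], [(0, 1)]]]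

theorem tab6_eq : ∀ a b, red3 (coefs chevG2 ⟨6, by decide⟩ (ii a) (ii b)) = tab6 a b := by decide +kernel

lemma blk_x6 (t : F) : Blk (chevG2.x F 6 t) = Xb t := by
  ext a b
  rw [Blk_apply, x_eq_xMat' 6 (by decide), xMat_eq, ← evalL_red3, tab6_eq]
  fin_cases a <;> fin_cases b <;> simp [Xb, tab6]

/-- The short block of `x_7(t)`. -/
def Xa (t : F) : Matrix (Fin 7) (Fin 7) F :=
  !![1, 0, 0, 0, 0, 0, 0;
    -t, 1, 0, 0, 0, 0, 0;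
    0, 0, 1, 0, 0, 0, 0;
    0, 0, t, 1, 0, 0, 0;
    0, 0, -t^2, t, 1, 0, 0;
    0, 0, 0, 0, 0, 1, 0;
    0, 0, 0, 0, 0, t, 1]

/-- Its table. -/
def tab7 : Fin 7 → Fin 7 → List (ℕ × ℤ) :=
  ![![[(0, 1)], [], [], [], [], [], []], ![[(1, -1)], [(0, 1)], [], [], [], [], []], ![[], [], [(0, 1)], [], [], [], []], ![[], [], [(1, 1)], [(0, 1)], [], [], []], ![[], [], [(2, -1)], [(1, 1)], [(0, 1)], [], []], ![[], [], [], [], [], [(0, 1)], []], ![[], [], [], [], [], [(1, 1)], [(0, 1)]]]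

theorem tab7_eq : ∀ a b, red3 (coefs chevG2 ⟨7, by decide⟩ (ii a) (ii b)) = tab7 a b := by decide +kernel

lemma blk_x7 (t : F) : Blk (chevG2.x F 7 t) = Xa t := by
  ext a b
  rw [Blk_apply, x_eq_xMat' 7 (by decide), xMat_eq, ← evalL_red3, tab7_eq]
  fin_cases a <;> fin_cases b <;> simp [Xa, tab7]

/-- The short block of `x_8(t)`. -/
def Xab (t : F) : Matrix (Fin 7) (Fin 7) F :=
  !![1, 0, 0, 0, 0, 0, 0;
    0, 1, 0, 0, 0, 0, 0;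
    t, 0, 1, 0, 0, 0, 0;
    0, t, 0, 1, 0, 0, 0;
    0, 0, 0, 0, 1, 0, 0;
    0, -t^2, 0, t, 0, 1, 0;
    0, 0, 0, 0, -t, 0, 1]

/-- Its table. -/
def tab8 : Fin 7 → Fin 7 → List (ℕ × ℤ) :=
  ![![[(0, 1)], [], [], [], [], [], []], ![[], [(0, 1)], [], [], [], [], []], ![[(1, 1)], [], [(0, 1)], [], [], [], []], ![[], [(1, 1)], [], [(0, 1)], [], [], []], ![[], [], [], [], [(0, 1)], [], []], ![[], [(2, -1)], [], [(1, 1)], [], [(0, 1)], []], ![[], [], [], [], [(1, -1)], [], [(0, 1)]]]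

theorem tab8_eq : ∀ a b, red3 (coefs chevG2 ⟨8, by decide⟩ (ii a) (ii b)) = tab8 a b := by decide +kernel

lemma blk_x8 (t : F) : Blk (chevG2.x F 8 t) = Xab t := by
  ext a b
  rw [Blk_apply, x_eq_xMat' 8 (by decide), xMat_eq, ← evalL_red3, tab8_eq]
  fin_cases a <;> fin_cases b <;> simp [Xab, tab8]

/-- The short block of `x_9(t)`. -/
def Xaab (t : F) : Matrix (Fin 7) (Fin 7) F :=
  !![1, 0, 0, 0, 0, 0, 0;
    0, 1, 0, 0, 0, 0, 0;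
    0, 0, 1, 0, 0, 0, 0;
    -t, 0, 0, 1, 0, 0, 0;
    0, t, 0, 0, 1, 0, 0;
    0, 0, -t, 0, 0, 1, 0;
    -t^2, 0, 0, -t, 0, 0, 1]

/-- Its table. -/
def tab9 : Fin 7 → Fin 7 → List (ℕ × ℤ) :=
  ![![[(0, 1)], [], [], [], [], [], []], ![[], [(0, 1)], [], [], [], [], []], ![[], [], [(0, 1)], [], [], [], []], ![[(1, -1)], [], [], [(0, 1)], [], [], []], ![[], [(1, 1)], [], [], [(0, 1)], [], []], ![[], [], [(1, -1)], [], [], [(0, 1)], []], ![[(2, -1)], [], [], [(1, -1)], [], [], [(0, 1)]]]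

theorem tab9_eq : ∀ a b, red3 (coefs chevG2 ⟨9, by decide⟩ (ii a) (ii b)) = tab9 a b := by decide +kernel

lemma blk_x9 (t : F) : Blk (chevG2.x F 9 t) = Xaab t := by
  ext a b
  rw [Blk_apply, x_eq_xMat' 9 (by decide), xMat_eq, ← evalL_red3, tab9_eq]
  fin_cases a <;> fin_cases b <;> simp [Xaab, tab9]

/-- The short block of `x_10(t)`. -/
def Xaaab (t : F) : Matrix (Fin 7) (Fin 7) F :=
  !![1, 0, 0, 0, 0, 0, 0;
    0, 1, 0, 0, 0, 0, 0;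
    0, 0, 1, 0, 0, 0, 0;
    0, 0, 0, 1, 0, 0, 0;
    t, 0, 0, 0, 1, 0, 0;
    0, 0, 0, 0, 0, 1, 0;
    0, 0, -t, 0, 0, 0, 1]

/-- Its table. -/
def tab10 : Fin 7 → Fin 7 → List (ℕ × ℤ) :=
  ![![[(0, 1)], [], [], [], [], [], []], ![[], [(0, 1)], [], [], [], [], []], ![[], [], [(0, 1)], [], [], [], []], ![[], [], [], [(0, 1)], [], [], []], ![[(1, 1)], [], [], [], [(0, 1)], [], []], ![[], [], [], [], [], [(0, 1)], []], ![[], [], [(1, -1)], [], [], [], [(0, 1)]]]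

theorem tab10_eq : ∀ a b, red3 (coefs chevG2 ⟨10, by decide⟩ (ii a) (ii b)) = tab10 a b := by decide +kernel

lemma blk_x10 (t : F) : Blk (chevG2.x F 10 t) = Xaaab t := by
  ext a b
  rw [Blk_apply, x_eq_xMat' 10 (by decide), xMat_eq, ← evalL_red3, tab10_eq]
  fin_cases a <;> fin_cases b <;> simp [Xaaab, tab10]

/-- The short block of `x_11(t)`. -/
def Xaaabb (t : F) : Matrix (Fin 7) (Fin 7) F :=
  !![1, 0, 0, 0, 0, 0, 0;
    0, 1, 0, 0, 0, 0, 0;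
    0, 0, 1, 0, 0, 0, 0;
    0, 0, 0, 1, 0, 0, 0;
    0, 0, 0, 0, 1, 0, 0;
    t, 0, 0, 0, 0, 1, 0;
    0, -t, 0, 0, 0, 0, 1]

/-- Its table. -/
def tab11 : Fin 7 → Fin 7 → List (ℕ × ℤ) :=
  ![![[(0, 1)], [], [], [], [], [], []], ![[], [(0, 1)], [], [], [], [], []], ![[], [], [(0, 1)], [], [], [], []], ![[], [], [], [(0, 1)], [], [], []], ![[], [], [], [], [(0, 1)], [], []], ![[(1, 1)], [], [], [], [], [(0, 1)], []], ![[], [(1, -1)], [], [], [], [], [(0, 1)]]]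

theorem tab11_eq : ∀ a b, red3 (coefs chevG2 ⟨11, by decide⟩ (ii a) (ii b)) = tab11 a b := by decide +kernel

lemma blk_x11 (t : F) : Blk (chevG2.x F 11 t) = Xaaabb t := by
  ext a b
  rw [Blk_apply, x_eq_xMat' 11 (by decide), xMat_eq, ← evalL_red3, tab11_eq]
  fin_cases a <;> fin_cases b <;> simp [Xaaabb, tab11]


section mulcol

omit [CharP F 3]

lemma mul_Xm0_0 (M : Matrix (Fin 7) (Fin 7) F) (t : F) (i : Fin 7) : (M * Xm0 t) i 0 = M i 0 := by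
  simp [Xm0, Matrix.mul_apply, Fin.sum_univ_succ] <;> ring

lemma mul_Xm0_1 (M : Matrix (Fin 7) (Fin 7) F) (t : F) (i : Fin 7) : (M * Xm0 t) i 1 = M i 1 := by
  simp [Xm0, Matrix.mul_apply, Fin.sum_univ_succ] <;> ring

lemma mul_Xm0_2 (M : Matrix (Fin 7) (Fin 7) F) (t : F) (i : Fin 7) : (M * Xm0 t) i 2 = M i 2 := by
  simp [Xm0, Matrix.mul_apply, Fin.sum_univ_succ] <;> ring

lemma mul_Xm0_3 (M : Matrix (Fin 7) (Fin 7) F) (t : F) (i : Fin 7) : (M * Xm0 t) i 3 = M i 3 := by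
  simp [Xm0, Matrix.mul_apply, Fin.sum_univ_succ] <;> ring

lemma mul_Xm0_4 (M : Matrix (Fin 7) (Fin 7) F) (t : F) (i : Fin 7) : (M * Xm0 t) i 4 = M i 4 := by
  simp [Xm0, Matrix.mul_apply, Fin.sum_univ_succ] <;> ring

lemma mul_Xm0_5 (M : Matrix (Fin 7) (Fin 7) F) (t : F) (i : Fin 7) : (M * Xm0 t) i 5 = M i 0 * (t) + M i 5 := by
  simp [Xm0, Matrix.mul_apply, Fin.sum_univ_succ] <;> ring

lemma mul_Xm0_6 (M : Matrix (Fin 7) (Fin 7) F) (t : F) (i : Fin 7) : (M * Xm0 t) i 6 = M i 1 * (-t) + M i 6 := by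
  simp [Xm0, Matrix.mul_apply, Fin.sum_univ_succ] <;> ring

lemma mul_Xm1_0 (M : Matrix (Fin 7) (Fin 7) F) (t : F) (i : Fin 7) : (M * Xm1 t) i 0 = M i 0 := by
  simp [Xm1, Matrix.mul_apply, Fin.sum_univ_succ] <;> ring

lemma mul_Xm1_1 (M : Matrix (Fin 7) (Fin 7) F) (t : F) (i : Fin 7) : (M * Xm1 t) i 1 = M i 1 := by
  simp [Xm1, Matrix.mul_apply, Fin.sum_univ_succ] <;> ring

lemma mul_Xm1_2 (M : Matrix (Fin 7) (Fin 7) F) (t : F) (i : Fin 7) : (M * Xm1 t) i 2 = M i 2 := by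
  simp [Xm1, Matrix.mul_apply, Fin.sum_univ_succ] <;> ring

lemma mul_Xm1_3 (M : Matrix (Fin 7) (Fin 7) F) (t : F) (i : Fin 7) : (M * Xm1 t) i 3 = M i 3 := by
  simp [Xm1, Matrix.mul_apply, Fin.sum_univ_succ] <;> ring

lemma mul_Xm1_4 (M : Matrix (Fin 7) (Fin 7) F) (t : F) (i : Fin 7) : (M * Xm1 t) i 4 = M i 0 * (t) + M i 4 := by
  simp [Xm1, Matrix.mul_apply, Fin.sum_univ_succ] <;> ring

lemma mul_Xm1_5 (M : Matrix (Fin 7) (Fin 7) F) (t : F) (i : Fin 7) : (M * Xm1 t) i 5 = M i 5 := by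
  simp [Xm1, Matrix.mul_apply, Fin.sum_univ_succ] <;> ring

lemma mul_Xm1_6 (M : Matrix (Fin 7) (Fin 7) F) (t : F) (i : Fin 7) : (M * Xm1 t) i 6 = M i 2 * (-t) + M i 6 := by
  simp [Xm1, Matrix.mul_apply, Fin.sum_univ_succ] <;> ring

lemma mul_Xm2_0 (M : Matrix (Fin 7) (Fin 7) F) (t : F) (i : Fin 7) : (M * Xm2 t) i 0 = M i 0 := by
  simp [Xm2, Matrix.mul_apply, Fin.sum_univ_succ] <;> ring

lemma mul_Xm2_1 (M : Matrix (Fin 7) (Fin 7) F) (t : F) (i : Fin 7) : (M * Xm2 t) i 1 = M i 1 := by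
  simp [Xm2, Matrix.mul_apply, Fin.sum_univ_succ] <;> ring

lemma mul_Xm2_2 (M : Matrix (Fin 7) (Fin 7) F) (t : F) (i : Fin 7) : (M * Xm2 t) i 2 = M i 2 := by
  simp [Xm2, Matrix.mul_apply, Fin.sum_univ_succ] <;> ring

lemma mul_Xm2_3 (M : Matrix (Fin 7) (Fin 7) F) (t : F) (i : Fin 7) : (M * Xm2 t) i 3 = M i 0 * (t) + M i 3 := by
  simp [Xm2, Matrix.mul_apply, Fin.sum_univ_succ] <;> ring

lemma mul_Xm2_4 (M : Matrix (Fin 7) (Fin 7) F) (t : F) (i : Fin 7) : (M * Xm2 t) i 4 = M i 1 * (t) + M i 4 := by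
  simp [Xm2, Matrix.mul_apply, Fin.sum_univ_succ] <;> ring

lemma mul_Xm2_5 (M : Matrix (Fin 7) (Fin 7) F) (t : F) (i : Fin 7) : (M * Xm2 t) i 5 = M i 2 * (-t) + M i 5 := by
  simp [Xm2, Matrix.mul_apply, Fin.sum_univ_succ] <;> ring

lemma mul_Xm2_6 (M : Matrix (Fin 7) (Fin 7) F) (t : F) (i : Fin 7) : (M * Xm2 t) i 6 = M i 0 * (-t^2) + M i 3 * (t) + M i 6 := by
  simp [Xm2, Matrix.mul_apply, Fin.sum_univ_succ] <;> ring

lemma mul_Xm3_0 (M : Matrix (Fin 7) (Fin 7) F) (t : F) (i : Fin 7) : (M * Xm3 t) i 0 = M i 0 := by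
  simp [Xm3, Matrix.mul_apply, Fin.sum_univ_succ] <;> ring

lemma mul_Xm3_1 (M : Matrix (Fin 7) (Fin 7) F) (t : F) (i : Fin 7) : (M * Xm3 t) i 1 = M i 1 := by
  simp [Xm3, Matrix.mul_apply, Fin.sum_univ_succ] <;> ring

lemma mul_Xm3_2 (M : Matrix (Fin 7) (Fin 7) F) (t : F) (i : Fin 7) : (M * Xm3 t) i 2 = M i 0 * (t) + M i 2 := by
  simp [Xm3, Matrix.mul_apply, Fin.sum_univ_succ] <;> ring

lemma mul_Xm3_3 (M : Matrix (Fin 7) (Fin 7) F) (t : F) (i : Fin 7) : (M * Xm3 t) i 3 = M i 1 * (-t) + M i 3 := by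
  simp [Xm3, Matrix.mul_apply, Fin.sum_univ_succ] <;> ring

lemma mul_Xm3_4 (M : Matrix (Fin 7) (Fin 7) F) (t : F) (i : Fin 7) : (M * Xm3 t) i 4 = M i 4 := by
  simp [Xm3, Matrix.mul_apply, Fin.sum_univ_succ] <;> ring

lemma mul_Xm3_5 (M : Matrix (Fin 7) (Fin 7) F) (t : F) (i : Fin 7) : (M * Xm3 t) i 5 = M i 1 * (-t^2) + M i 3 * (-t) + M i 5 := by
  simp [Xm3, Matrix.mul_apply, Fin.sum_univ_succ] <;> ring

lemma mul_Xm3_6 (M : Matrix (Fin 7) (Fin 7) F) (t : F) (i : Fin 7) : (M * Xm3 t) i 6 = M i 4 * (-t) + M i 6 := by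
  simp [Xm3, Matrix.mul_apply, Fin.sum_univ_succ] <;> ring

lemma mul_Xm4_0 (M : Matrix (Fin 7) (Fin 7) F) (t : F) (i : Fin 7) : (M * Xm4 t) i 0 = M i 0 := by
  simp [Xm4, Matrix.mul_apply, Fin.sum_univ_succ] <;> ring

lemma mul_Xm4_1 (M : Matrix (Fin 7) (Fin 7) F) (t : F) (i : Fin 7) : (M * Xm4 t) i 1 = M i 0 * (-t) + M i 1 := by
  simp [Xm4, Matrix.mul_apply, Fin.sum_univ_succ] <;> ring

lemma mul_Xm4_2 (M : Matrix (Fin 7) (Fin 7) F) (t : F) (i : Fin 7) : (M * Xm4 t) i 2 = M i 2 := by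
  simp [Xm4, Matrix.mul_apply, Fin.sum_univ_succ] <;> ring

lemma mul_Xm4_3 (M : Matrix (Fin 7) (Fin 7) F) (t : F) (i : Fin 7) : (M * Xm4 t) i 3 = M i 2 * (-t) + M i 3 := by
  simp [Xm4, Matrix.mul_apply, Fin.sum_univ_succ] <;> ring

lemma mul_Xm4_4 (M : Matrix (Fin 7) (Fin 7) F) (t : F) (i : Fin 7) : (M * Xm4 t) i 4 = M i 2 * (-t^2) + M i 3 * (-t) + M i 4 := by
  simp [Xm4, Matrix.mul_apply, Fin.sum_univ_succ] <;> ring

lemma mul_Xm4_5 (M : Matrix (Fin 7) (Fin 7) F) (t : F) (i : Fin 7) : (M * Xm4 t) i 5 = M i 5 := by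
  simp [Xm4, Matrix.mul_apply, Fin.sum_univ_succ] <;> ring

lemma mul_Xm4_6 (M : Matrix (Fin 7) (Fin 7) F) (t : F) (i : Fin 7) : (M * Xm4 t) i 6 = M i 5 * (t) + M i 6 := by
  simp [Xm4, Matrix.mul_apply, Fin.sum_univ_succ] <;> ring

lemma mul_Xm5_0 (M : Matrix (Fin 7) (Fin 7) F) (t : F) (i : Fin 7) : (M * Xm5 t) i 0 = M i 0 := by
  simp [Xm5, Matrix.mul_apply, Fin.sum_univ_succ] <;> ring

lemma mul_Xm5_1 (M : Matrix (Fin 7) (Fin 7) F) (t : F) (i : Fin 7) : (M * Xm5 t) i 1 = M i 1 := by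
  simp [Xm5, Matrix.mul_apply, Fin.sum_univ_succ] <;> ring

lemma mul_Xm5_2 (M : Matrix (Fin 7) (Fin 7) F) (t : F) (i : Fin 7) : (M * Xm5 t) i 2 = M i 1 * (-t) + M i 2 := by
  simp [Xm5, Matrix.mul_apply, Fin.sum_univ_succ] <;> ring

lemma mul_Xm5_3 (M : Matrix (Fin 7) (Fin 7) F) (t : F) (i : Fin 7) : (M * Xm5 t) i 3 = M i 3 := by
  simp [Xm5, Matrix.mul_apply, Fin.sum_univ_succ] <;> ring

lemma mul_Xm5_4 (M : Matrix (Fin 7) (Fin 7) F) (t : F) (i : Fin 7) : (M * Xm5 t) i 4 = M i 4 := by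
  simp [Xm5, Matrix.mul_apply, Fin.sum_univ_succ] <;> ring

lemma mul_Xm5_5 (M : Matrix (Fin 7) (Fin 7) F) (t : F) (i : Fin 7) : (M * Xm5 t) i 5 = M i 4 * (t) + M i 5 := by
  simp [Xm5, Matrix.mul_apply, Fin.sum_univ_succ] <;> ring

lemma mul_Xm5_6 (M : Matrix (Fin 7) (Fin 7) F) (t : F) (i : Fin 7) : (M * Xm5 t) i 6 = M i 6 := by
  simp [Xm5, Matrix.mul_apply, Fin.sum_univ_succ] <;> ring

lemma mul_Xb_0 (M : Matrix (Fin 7) (Fin 7) F) (t : F) (i : Fin 7) : (M * Xb t) i 0 = M i 0 := by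
  simp [Xb, Matrix.mul_apply, Fin.sum_univ_succ] <;> ring

lemma mul_Xb_1 (M : Matrix (Fin 7) (Fin 7) F) (t : F) (i : Fin 7) : (M * Xb t) i 1 = M i 1 + M i 2 * (-t) := by
  simp [Xb, Matrix.mul_apply, Fin.sum_univ_succ] <;> ring

lemma mul_Xb_2 (M : Matrix (Fin 7) (Fin 7) F) (t : F) (i : Fin 7) : (M * Xb t) i 2 = M i 2 := by
  simp [Xb, Matrix.mul_apply, Fin.sum_univ_succ] <;> ring

lemma mul_Xb_3 (M : Matrix (Fin 7) (Fin 7) F) (t : F) (i : Fin 7) : (M * Xb t) i 3 = M i 3 := by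
  simp [Xb, Matrix.mul_apply, Fin.sum_univ_succ] <;> ring

lemma mul_Xb_4 (M : Matrix (Fin 7) (Fin 7) F) (t : F) (i : Fin 7) : (M * Xb t) i 4 = M i 4 + M i 5 * (t) := by
  simp [Xb, Matrix.mul_apply, Fin.sum_univ_succ] <;> ring

lemma mul_Xb_5 (M : Matrix (Fin 7) (Fin 7) F) (t : F) (i : Fin 7) : (M * Xb t) i 5 = M i 5 := by
  simp [Xb, Matrix.mul_apply, Fin.sum_univ_succ] <;> ring

lemma mul_Xb_6 (M : Matrix (Fin 7) (Fin 7) F) (t : F) (i : Fin 7) : (M * Xb t) i 6 = M i 6 := by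
  simp [Xb, Matrix.mul_apply, Fin.sum_univ_succ] <;> ring

lemma mul_Xa_0 (M : Matrix (Fin 7) (Fin 7) F) (t : F) (i : Fin 7) : (M * Xa t) i 0 = M i 0 + M i 1 * (-t) := by
  simp [Xa, Matrix.mul_apply, Fin.sum_univ_succ] <;> ring

lemma mul_Xa_1 (M : Matrix (Fin 7) (Fin 7) F) (t : F) (i : Fin 7) : (M * Xa t) i 1 = M i 1 := by
  simp [Xa, Matrix.mul_apply, Fin.sum_univ_succ] <;> ring

lemma mul_Xa_2 (M : Matrix (Fin 7) (Fin 7) F) (t : F) (i : Fin 7) : (M * Xa t) i 2 = M i 2 + M i 3 * (t) + M i 4 * (-t^2) := by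
  simp [Xa, Matrix.mul_apply, Fin.sum_univ_succ] <;> ring

lemma mul_Xa_3 (M : Matrix (Fin 7) (Fin 7) F) (t : F) (i : Fin 7) : (M * Xa t) i 3 = M i 3 + M i 4 * (t) := by
  simp [Xa, Matrix.mul_apply, Fin.sum_univ_succ] <;> ring

lemma mul_Xa_4 (M : Matrix (Fin 7) (Fin 7) F) (t : F) (i : Fin 7) : (M * Xa t) i 4 = M i 4 := by
  simp [Xa, Matrix.mul_apply, Fin.sum_univ_succ] <;> ring

lemma mul_Xa_5 (M : Matrix (Fin 7) (Fin 7) F) (t : F) (i : Fin 7) : (M * Xa t) i 5 = M i 5 + M i 6 * (t) := by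
  simp [Xa, Matrix.mul_apply, Fin.sum_univ_succ] <;> ring

lemma mul_Xa_6 (M : Matrix (Fin 7) (Fin 7) F) (t : F) (i : Fin 7) : (M * Xa t) i 6 = M i 6 := by
  simp [Xa, Matrix.mul_apply, Fin.sum_univ_succ] <;> ring

lemma mul_Xab_0 (M : Matrix (Fin 7) (Fin 7) F) (t : F) (i : Fin 7) : (M * Xab t) i 0 = M i 0 + M i 2 * (t) := by
  simp [Xab, Matrix.mul_apply, Fin.sum_univ_succ] <;> ring

lemma mul_Xab_1 (M : Matrix (Fin 7) (Fin 7) F) (t : F) (i : Fin 7) : (M * Xab t) i 1 = M i 1 + M i 3 * (t) + M i 5 * (-t^2) := by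
  simp [Xab, Matrix.mul_apply, Fin.sum_univ_succ] <;> ring

lemma mul_Xab_2 (M : Matrix (Fin 7) (Fin 7) F) (t : F) (i : Fin 7) : (M * Xab t) i 2 = M i 2 := by
  simp [Xab, Matrix.mul_apply, Fin.sum_univ_succ] <;> ring

lemma mul_Xab_3 (M : Matrix (Fin 7) (Fin 7) F) (t : F) (i : Fin 7) : (M * Xab t) i 3 = M i 3 + M i 5 * (t) := by
  simp [Xab, Matrix.mul_apply, Fin.sum_univ_succ] <;> ring

lemma mul_Xab_4 (M : Matrix (Fin 7) (Fin 7) F) (t : F) (i : Fin 7) : (M * Xab t) i 4 = M i 4 + M i 6 * (-t) := by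
  simp [Xab, Matrix.mul_apply, Fin.sum_univ_succ] <;> ring

lemma mul_Xab_5 (M : Matrix (Fin 7) (Fin 7) F) (t : F) (i : Fin 7) : (M * Xab t) i 5 = M i 5 := by
  simp [Xab, Matrix.mul_apply, Fin.sum_univ_succ] <;> ring

lemma mul_Xab_6 (M : Matrix (Fin 7) (Fin 7) F) (t : F) (i : Fin 7) : (M * Xab t) i 6 = M i 6 := by
  simp [Xab, Matrix.mul_apply, Fin.sum_univ_succ] <;> ring

lemma mul_Xaab_0 (M : Matrix (Fin 7) (Fin 7) F) (t : F) (i : Fin 7) : (M * Xaab t) i 0 = M i 0 + M i 3 * (-t) + M i 6 * (-t^2) := by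
  simp [Xaab, Matrix.mul_apply, Fin.sum_univ_succ] <;> ring

lemma mul_Xaab_1 (M : Matrix (Fin 7) (Fin 7) F) (t : F) (i : Fin 7) : (M * Xaab t) i 1 = M i 1 + M i 4 * (t) := by
  simp [Xaab, Matrix.mul_apply, Fin.sum_univ_succ] <;> ring

lemma mul_Xaab_2 (M : Matrix (Fin 7) (Fin 7) F) (t : F) (i : Fin 7) : (M * Xaab t) i 2 = M i 2 + M i 5 * (-t) := by
  simp [Xaab, Matrix.mul_apply, Fin.sum_univ_succ] <;> ring

lemma mul_Xaab_3 (M : Matrix (Fin 7) (Fin 7) F) (t : F) (i : Fin 7) : (M * Xaab t) i 3 = M i 3 + M i 6 * (-t) := by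
  simp [Xaab, Matrix.mul_apply, Fin.sum_univ_succ] <;> ring

lemma mul_Xaab_4 (M : Matrix (Fin 7) (Fin 7) F) (t : F) (i : Fin 7) : (M * Xaab t) i 4 = M i 4 := by
  simp [Xaab, Matrix.mul_apply, Fin.sum_univ_succ] <;> ring

lemma mul_Xaab_5 (M : Matrix (Fin 7) (Fin 7) F) (t : F) (i : Fin 7) : (M * Xaab t) i 5 = M i 5 := by
  simp [Xaab, Matrix.mul_apply, Fin.sum_univ_succ] <;> ring

lemma mul_Xaab_6 (M : Matrix (Fin 7) (Fin 7) F) (t : F) (i : Fin 7) : (M * Xaab t) i 6 = M i 6 := by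
  simp [Xaab, Matrix.mul_apply, Fin.sum_univ_succ] <;> ring

lemma mul_Xaaab_0 (M : Matrix (Fin 7) (Fin 7) F) (t : F) (i : Fin 7) : (M * Xaaab t) i 0 = M i 0 + M i 4 * (t) := by
  simp [Xaaab, Matrix.mul_apply, Fin.sum_univ_succ] <;> ring

lemma mul_Xaaab_1 (M : Matrix (Fin 7) (Fin 7) F) (t : F) (i : Fin 7) : (M * Xaaab t) i 1 = M i 1 := by
  simp [Xaaab, Matrix.mul_apply, Fin.sum_univ_succ] <;> ring

lemma mul_Xaaab_2 (M : Matrix (Fin 7) (Fin 7) F) (t : F) (i : Fin 7) : (M * Xaaab t) i 2 = M i 2 + M i 6 * (-t) := by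
  simp [Xaaab, Matrix.mul_apply, Fin.sum_univ_succ] <;> ring

lemma mul_Xaaab_3 (M : Matrix (Fin 7) (Fin 7) F) (t : F) (i : Fin 7) : (M * Xaaab t) i 3 = M i 3 := by
  simp [Xaaab, Matrix.mul_apply, Fin.sum_univ_succ] <;> ring

lemma mul_Xaaab_4 (M : Matrix (Fin 7) (Fin 7) F) (t : F) (i : Fin 7) : (M * Xaaab t) i 4 = M i 4 := by
  simp [Xaaab, Matrix.mul_apply, Fin.sum_univ_succ] <;> ring

lemma mul_Xaaab_5 (M : Matrix (Fin 7) (Fin 7) F) (t : F) (i : Fin 7) : (M * Xaaab t) i 5 = M i 5 := by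
  simp [Xaaab, Matrix.mul_apply, Fin.sum_univ_succ] <;> ring

lemma mul_Xaaab_6 (M : Matrix (Fin 7) (Fin 7) F) (t : F) (i : Fin 7) : (M * Xaaab t) i 6 = M i 6 := by
  simp [Xaaab, Matrix.mul_apply, Fin.sum_univ_succ] <;> ring

lemma mul_Xaaabb_0 (M : Matrix (Fin 7) (Fin 7) F) (t : F) (i : Fin 7) : (M * Xaaabb t) i 0 = M i 0 + M i 5 * (t) := by
  simp [Xaaabb, Matrix.mul_apply, Fin.sum_univ_succ] <;> ring

lemma mul_Xaaabb_1 (M : Matrix (Fin 7) (Fin 7) F) (t : F) (i : Fin 7) : (M * Xaaabb t) i 1 = M i 1 + M i 6 * (-t) := by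
  simp [Xaaabb, Matrix.mul_apply, Fin.sum_univ_succ] <;> ring

lemma mul_Xaaabb_2 (M : Matrix (Fin 7) (Fin 7) F) (t : F) (i : Fin 7) : (M * Xaaabb t) i 2 = M i 2 := by
  simp [Xaaabb, Matrix.mul_apply, Fin.sum_univ_succ] <;> ring

lemma mul_Xaaabb_3 (M : Matrix (Fin 7) (Fin 7) F) (t : F) (i : Fin 7) : (M * Xaaabb t) i 3 = M i 3 := by
  simp [Xaaabb, Matrix.mul_apply, Fin.sum_univ_succ] <;> ring

lemma mul_Xaaabb_4 (M : Matrix (Fin 7) (Fin 7) F) (t : F) (i : Fin 7) : (M * Xaaabb t) i 4 = M i 4 := by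
  simp [Xaaabb, Matrix.mul_apply, Fin.sum_univ_succ] <;> ring

lemma mul_Xaaabb_5 (M : Matrix (Fin 7) (Fin 7) F) (t : F) (i : Fin 7) : (M * Xaaabb t) i 5 = M i 5 := by
  simp [Xaaabb, Matrix.mul_apply, Fin.sum_univ_succ] <;> ring

lemma mul_Xaaabb_6 (M : Matrix (Fin 7) (Fin 7) F) (t : F) (i : Fin 7) : (M * Xaaabb t) i 6 = M i 6 := by
  simp [Xaaabb, Matrix.mul_apply, Fin.sum_univ_succ] <;> ring


end mulcol

end Cfsg.Agent.Lib.ReeG2.Blk7
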