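import Cfsg.Agent.Lib.ReeG2.GL7

/-!
# Centralisers of elements of prime order dividing `q² - q + 1` in subgroups of `GL₇(q)`
-/

set_option autoImplicit false
set_option linter.unusedSectionVars false
set_option linter.unusedVariables false

namespace Cfsg.Agent.Lib.ReeG2.GL8

open Cfsg.Agent.Lib.ReeG2.GL7
open scoped MatrixGroups Matrix Pointwise

/-- Conjugating a polynomial expression by a unit. -/
lemma aeval_units_conj' {R A : Type*} [CommRing R] [Ring A] [Algebra R A] (u : Aˣ) (a : A)
    (P : Polynomial R) :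
    Polynomial.aeval ((u : A) * a * ((u⁻¹ : Aˣ) : A)) P =
      (u : A) * Polynomial.aeval a P * ((u⁻¹ : Aˣ) : A) := by
  induction P using Polynomial.induction_on' with
  | add p q hp hq => simp only [map_add, hp, hq, mul_add, add_mul]
  | monomial n r =>
    simp only [Polynomial.aeval_monomial, Units.conj_pow]
    have : (u : A) * ((algebraMap R A) r * a ^ n) * ((u⁻¹ : Aˣ) : A) =
        (algebraMap R A) r * ((u : A) * a ^ n * ((u⁻¹ : Aˣ) : A)) := by
      rw [← mul_assoc (u : A), (Algebra.commutes r (u : A)).symm]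
      noncomm_ring
    rw [this]

/-- Commuting with polynomials. -/
lemma commute_aeval {R A : Type*} [CommRing R] [Ring A] [Algebra R A] {z a : A} (h : Commute z a)
    (P : Polynomial R) : Commute z (Polynomial.aeval a P) := by
  induction P using Polynomial.induction_on' with
  | add p q hp hq =>
    rw [map_add]
    exact hp.add_right hq
  | monomial n r =>
    rw [Polynomial.aeval_monomial]
    exact Commute.mul_right (Algebra.commutes r z).symm (h.pow_right n)

section field

variable (F : Type*) [Field F] [Fintype F] [CharP F 3]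

local notation "q" => Fintype.card F

/-- Proper intermediate fields have degree `1`, `2` or `3`. -/
lemma pow_of_ne_top (S : IntermediateField F (E6 F)) (hS : S ≠ ⊤) (a : E6 F) (ha : a ∈ S) :
    a ^ (q ^ 2) = a ∨ a ^ (q ^ 3) = a := by
  have h1 := Module.finrank_mul_finrank F S (E6 F)
  rw [finrank_E6] at h1
  have hd : Module.finrank F S ∣ 6 := ⟨_, h1.symm⟩
  have hd6 : Module.finrank F S ≠ 6 := by
    intro h
    apply hS
    apply IntermediateField.eq_of_le_of_finrank_eq le_top
    rw [IntermediateField.finrank_top', finrank_E6, h]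
  have hcard : Nat.card S = q ^ Module.finrank F S := by
    rw [Module.natCard_eq_pow_finrank (K := F) (V := S), Nat.card_eq_fintype_card]
  letI : Fintype S := Fintype.ofFinite _
  have hpow : ((⟨a, ha⟩ : S)) ^ Fintype.card S = ⟨a, ha⟩ := FiniteField.pow_card _
  rw [← Nat.card_eq_fintype_card, hcard] at hpow
  have hpow' : a ^ (q ^ Module.finrank F S) = a := by
    simpa using congrArg (fun z : S => (z : E6 F)) hpow
  have hle := Nat.le_of_dvd (by norm_num) hd
  generalize Module.finrank F S = d at *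
  interval_cases d
  · simp at hd
  · rw [pow_one] at hpow'
    left
    rw [sq, pow_mul, hpow', hpow']
  · left
    exact hpow'
  · right
    exact hpow'
  · norm_num at hd
  · norm_num at hd
  · exact absurd rfl hd6

variable {F}

/-- Polynomial expressions of a generator. -/
lemma exists_poly {e : E6 F} (h2 : e ^ (q ^ 2) ≠ e) (h3 : e ^ (q ^ 3) ≠ e) (b : E6 F) :
    ∃ P : Polynomial F, Polynomial.aeval e P = b := by
  have htop : IntermediateField.adjoin F {e} = ⊤ := by
    by_contra hne
    rcases pow_of_ne_top F _ hne e (IntermediateField.mem_adjoin_simple_self F e) with h | h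
    · exact h2 h
    · exact h3 h
  have hint : IsIntegral F e := Algebra.IsIntegral.isIntegral _
  have hb : b ∈ (IntermediateField.adjoin F {e}).toSubalgebra := by
    rw [htop]
    trivial
  rw [IntermediateField.adjoin_simple_toSubalgebra_of_isAlgebraic hint.isAlgebraic, Algebra.adjoin_singleton_eq_range_aeval] at hb
  obtain ⟨P, hP⟩ := hb
  exact ⟨P, hP⟩

lemma ne_one_of {e : E6 F} (h2 : e ^ (q ^ 2) ≠ e) : e ≠ 1 := by
  rintro rfl
  exact h2 (one_pow _)

lemma aeval_pair (e : E6 F) (c : F) (Q : Polynomial F) :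
    Polynomial.aeval ((e, c) : A7 F) Q = (Polynomial.aeval e Q, Polynomial.aeval c Q) := by
  apply Prod.ext
  · have := Polynomial.aeval_algHom_apply (AlgHom.fst F (E6 F) F) ((e, c) : A7 F) Q
    exact this.symm
  · have := Polynomial.aeval_algHom_apply (AlgHom.snd F (E6 F) F) ((e, c) : A7 F) Q
    exact this.symm

/-- `(e, 1)` generates the whole algebra. -/
lemma exists_poly2 {e : E6 F} (h2 : e ^ (q ^ 2) ≠ e) (h3 : e ^ (q ^ 3) ≠ e) (b : E6 F) (c : F) :
    ∃ Q : Polynomial F, Polynomial.aeval ((e, (1 : F)) : A7 F) Q = (b, c) := by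
  obtain ⟨P, hP⟩ := exists_poly h2 h3 b
  have hint : IsIntegral F e := Algebra.IsIntegral.isIntegral _
  set μ := minpoly F e with hμ
  have hμ1 : Polynomial.eval 1 μ ≠ 0 := by
    intro h0
    have hd : (Polynomial.X - Polynomial.C 1) ∣ μ := Polynomial.dvd_iff_isRoot.mpr h0
    have hirr := minpoly.irreducible hint
    have hm := minpoly.monic hint
    have hu := (Polynomial.irreducible_X_sub_C (1 : F)).dvd_irreducible_iff_associated hirr |>.mp hd
    have e1 : Polynomial.X - Polynomial.C 1 = μ :=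
      Polynomial.eq_of_monic_of_associated (Polynomial.monic_X_sub_C 1) hm hu
    have e2 : Polynomial.aeval e μ = 0 := minpoly.aeval F e
    rw [← e1] at e2
    simp only [map_sub, Polynomial.aeval_X, Polynomial.aeval_C, map_one] at e2
    exact ne_one_of h2 (sub_eq_zero.mp e2)
  refine ⟨P + Polynomial.C ((c - Polynomial.eval 1 P) / Polynomial.eval 1 μ) * μ, ?_⟩
  rw [aeval_pair]
  apply Prod.ext
  · show Polynomial.aeval e (P + Polynomial.C ((c - Polynomial.eval 1 P) / Polynomial.eval 1 μ) * μ) = b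
    rw [map_add, map_mul, hμ, minpoly.aeval, mul_zero, add_zero, hP]
  · show Polynomial.aeval (1 : F) (P + Polynomial.C ((c - Polynomial.eval 1 P) / Polynomial.eval 1 μ) * μ) = c
    rw [Polynomial.coe_aeval_eq_eval, Polynomial.eval_add, Polynomial.eval_mul, Polynomial.eval_C]
    field_simp
    ring

/-- The commutant of `(e, 1)`. -/
theorem commute_all {e : E6 F} (h2 : e ^ (q ^ 2) ≠ e) (h3 : e ^ (q ^ 3) ≠ e)
    {z : Matrix (Fin 7) (Fin 7) F} (hz : Commute z (iota F ((e, (1 : F)) : A7 F))) (a : A7 F) :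
    Commute z (iota F a) := by
  obtain ⟨b, c⟩ := a
  obtain ⟨Q, hQ⟩ := exists_poly2 h2 h3 b c
  rw [← hQ, ← Polynomial.aeval_algHom_apply]
  exact commute_aeval hz Q

/-- The commutant of `(e, 1)`. -/
theorem exists_eq_iota {e : E6 F} (h2 : e ^ (q ^ 2) ≠ e) (h3 : e ^ (q ^ 3) ≠ e)
    {z : Matrix (Fin 7) (Fin 7) F} (hz : Commute z (iota F ((e, (1 : F)) : A7 F))) : ∃ w, z = iota F w := by
  have hall := commute_all h2 h3 hz
  set Φ := LinearMap.toMatrixAlgEquiv (R := F) (bA F) with hΦ
  have hiota : ∀ a : A7 F, iota F a = Φ (Algebra.lmul F (A7 F) a) := fun a => rfl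
  set φ := Φ.symm z with hφ
  have hzφ : z = Φ φ := by rw [hφ]; simp
  refine ⟨φ 1, ?_⟩
  rw [hzφ, hiota]
  congr 1
  apply LinearMap.ext
  intro y
  have hcomm : φ * Algebra.lmul F (A7 F) y = Algebra.lmul F (A7 F) y * φ := by
    apply Φ.injective
    rw [map_mul, map_mul, ← hzφ, ← hiota]
    exact hall y
  have := congrArg (fun L : Module.End F (A7 F) => L 1) hcomm
  simp only [Module.End.mul_apply, Algebra.coe_lmul_eq_mul, LinearMap.mul_apply_apply, mul_one] at this
  simp only [Algebra.coe_lmul_eq_mul, LinearMap.mul_apply_apply]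
  rw [this, mul_comm]

/-- The centraliser in `GL₇` of `(e, 1)`. -/
theorem exists_unit {e : (E6 F)ˣ} (h2 : (e : E6 F) ^ (q ^ 2) ≠ e) (h3 : (e : E6 F) ^ (q ^ 3) ≠ e)
    (z : GL (Fin 7) F) (hz : z * iotaU F (iP F e) = iotaU F (iP F e) * z) : ∃ u, iotaU F u = z := by
  have hval : ((iP F e : (A7 F)ˣ) : A7 F) = ((e : E6 F), (1 : F)) := rfl
  have hc : ∀ z : GL (Fin 7) F, z * iotaU F (iP F e) = iotaU F (iP F e) * z →
      Commute (z : Matrix (Fin 7) (Fin 7) F) (iota F (((e : E6 F), (1 : F)) : A7 F)) := by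
    intro z hz
    have := congrArg (fun u : GL (Fin 7) F => (u : Matrix (Fin 7) (Fin 7) F)) hz
    exact this
  have hz' : z⁻¹ * iotaU F (iP F e) = iotaU F (iP F e) * z⁻¹ := by
    rw [eq_mul_inv_iff_mul_eq, mul_assoc, ← hz, ← mul_assoc, inv_mul_cancel, one_mul]
  obtain ⟨w, hw⟩ := exists_eq_iota h2 h3 (hc z hz)
  obtain ⟨w', hw'⟩ := exists_eq_iota h2 h3 (hc z⁻¹ hz')
  have h1 : w * w' = 1 := by
    apply iota_injective F
    rw [map_mul, ← hw, ← hw', map_one, ← Units.val_mul, mul_inv_cancel, Units.val_one]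
  have h2' : w' * w = 1 := by
    apply iota_injective F
    rw [map_mul, ← hw, ← hw', map_one, ← Units.val_mul, inv_mul_cancel, Units.val_one]
  refine ⟨⟨w, w', h1, h2'⟩, ?_⟩
  apply Units.ext
  rw [coe_iotaU]
  exact hw.symm

variable (F)

/-- The arithmetic input. -/
lemma arith7 {p x : ℕ} [hp : Fact p.Prime] (hp3 : 3 < p) (hq : 2 ≤ x) (h : p ∣ x ^ 2 + 1 - x) :
    ¬ p ∣ x ^ 2 - 1 ∧ ¬ p ∣ x ^ 3 - 1 := by
  have hle0 : x ≤ x ^ 2 + 1 := by nlinarith
  have hx0 : ((x : ZMod p)) ^ 2 + 1 - x = 0 := by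
    have : ((x ^ 2 + 1 - x : ℕ) : ZMod p) = 0 := (ZMod.natCast_eq_zero_iff _ _).2 h
    rw [Nat.cast_sub hle0] at this
    push_cast at this
    exact this
  have h20 : (2 : ZMod p) ≠ 0 := by
    intro h0
    have : ((2 : ℕ) : ZMod p) = 0 := by exact_mod_cast h0
    rw [ZMod.natCast_eq_zero_iff] at this
    have := Nat.le_of_dvd (by norm_num) this
    omega
  have h30 : (3 : ZMod p) ≠ 0 := by
    intro h0
    have : ((3 : ℕ) : ZMod p) = 0 := by exact_mod_cast h0
    rw [ZMod.natCast_eq_zero_iff] at this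
    have := Nat.le_of_dvd (by norm_num) this
    omega
  set y := (x : ZMod p) with hy
  have hy3 : y ^ 3 = -1 := by linear_combination (y + 1) * hx0
  constructor
  · intro hd
    have h1 : 1 ≤ x ^ 2 := Nat.one_le_pow _ _ (by omega)
    have hd' : ((x ^ 2 - 1 : ℕ) : ZMod p) = 0 := (ZMod.natCast_eq_zero_iff _ _).2 hd
    rw [Nat.cast_sub h1] at hd'
    push_cast at hd'
    rw [← hy] at hd'
    apply h30
    have e1 : y = 2 := by linear_combination hx0 * (-1) + hd'
    rw [e1] at hd'
    linear_combination hd'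
  · intro hd
    have h1 : 1 ≤ x ^ 3 := Nat.one_le_pow _ _ (by omega)
    have hd' : ((x ^ 3 - 1 : ℕ) : ZMod p) = 0 := (ZMod.natCast_eq_zero_iff _ _).2 hd
    rw [Nat.cast_sub h1] at hd'
    push_cast at hd'
    rw [← hy] at hd'
    apply h20
    linear_combination hy3 - hd'

variable {F}

/-- From a power relation to divisibility. -/
lemma dvd_of_pow {e : (E6 F)ˣ} {N : ℕ} (hN : 0 < N) (h : (e : E6 F) ^ N = e) : orderOf e ∣ N - 1 := by
  apply orderOf_dvd_of_pow_eq_one
  apply Units.ext
  have h4 : (e : E6 F) ^ (N - 1) * e = e := by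
    rw [← pow_succ, Nat.sub_add_cancel hN, h]
  have h5 : (e : E6 F) ^ (N - 1) = 1 :=
    mul_right_cancel₀ e.ne_zero (by rw [h4, one_mul])
  simpa using h5

/-- The main result: the centraliser is cyclic and of index at most `6` in its normaliser. -/
theorem hY_general {G : Type*} [Group G] [Finite G] (Ψ : G →* GL (Fin 7) F) (hΨ : Function.Injective Ψ)
    {x : G} {p : ℕ} (hp : p.Prime) (hx : orderOf x = p) (hp3 : 3 < p) (hd : p ∣ q ^ 2 + 1 - q)
    (hco : Nat.Coprime (Nat.card (Subgroup.centralizer {x})) (q - 1)) :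
    IsCyclic (Subgroup.centralizer {x}) ∧
      Nat.card (Subgroup.normalizer ((Subgroup.centralizer {x} : Subgroup G) : Set G)) ≤
        6 * Nat.card (Subgroup.centralizer {x}) := by
  classical
  haveI : Fact p.Prime := ⟨hp⟩
  have hq2 : 2 ≤ q := Fintype.one_lt_card
  have hpg : IsPGroup p (Subgroup.zpowers (Ψ x)) := by
    apply IsPGroup.of_card (n := 1)
    rw [Nat.card_zpowers, orderOf_injective _ hΨ, hx, pow_one]
  obtain ⟨γ, hγ⟩ := exists_conj_le (HE F) (not_dvd_index_HE F hp3 hd) _ hpg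
  obtain ⟨e, he⟩ := hγ _ (Subgroup.mem_zpowers _)
  have he' : iotaU F (iP F e) = γ⁻¹ * Ψ x * γ := he
  let ψ : G →* GL (Fin 7) F := (MulAut.conj γ⁻¹).toMonoidHom.comp Ψ
  have hψ : ∀ c, ψ c = γ⁻¹ * Ψ c * γ := by
    intro c
    simp [ψ, MulAut.conj_apply]
  have hψinj : Function.Injective ψ := by
    intro a b hab
    rw [hψ, hψ] at hab
    exact hΨ (mul_left_cancel (mul_right_cancel hab))
  have hψx : ψ x = iotaU F (iP F e) := by rw [hψ, he']
  have hoe : orderOf e = p := by
    rw [← hx, ← orderOf_injective _ hψinj, hψx, orderOf_injective _ (comp_inj F) e |>.symm]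
    rfl
  obtain ⟨ha2, ha3⟩ := arith7 (x := q) hp3 hq2 hd
  have h2 : (e : E6 F) ^ (q ^ 2) ≠ e := by
    intro h
    apply ha2
    rw [← hoe]
    exact dvd_of_pow (by positivity) h
  have h3 : (e : E6 F) ^ (q ^ 3) ≠ e := by
    intro h
    apply ha3
    rw [← hoe]
    exact dvd_of_pow (by positivity) h
  set C := Subgroup.centralizer ({x} : Set G) with hC
  have mem_C : ∀ {c : G}, c ∈ C ↔ c * x = x * c := Subgroup.mem_centralizer_singleton_iff
  have key : ∀ c : C, ∃ u : (A7 F)ˣ, iotaU F u = ψ c := by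
    intro c
    apply exists_unit h2 h3
    rw [← hψx, ← map_mul, ← map_mul, mem_C.mp c.2]
  choose fu hfu using key
  have hmul : ∀ a b, fu (a * b) = fu a * fu b := by
    intro a b
    apply iotaU_injective F
    rw [map_mul, hfu, hfu, hfu]
    simp
  let f : C →* (A7 F)ˣ := MonoidHom.mk' fu hmul
  have hf : ∀ c, iotaU F (f c) = ψ c := hfu
  have hfinj : Function.Injective f := by
    intro a b hab
    have h1 : ψ a = ψ b := by rw [← hf, ← hf, hab]
    exact Subtype.ext (hψinj h1)
  let ρ : (A7 F)ˣ ≃* (E6 F)ˣ × Fˣ := MulEquiv.prodUnits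
  have hsnd : ∀ c : C, (ρ (f c)).2 = 1 := by
    intro c
    have h1 : ((ρ (f c)).2) ^ Nat.card C = 1 := by
      have h5 : (f c) ^ Nat.card C = 1 := by
        rw [← map_pow, pow_card_eq_one', map_one]
      have h6 : (ρ (f c)) ^ Nat.card C = 1 := by rw [← map_pow, h5, map_one]
      exact congrArg Prod.snd h6
    have h7 : ((ρ (f c)).2) ^ (q - 1) = 1 := by
      have : ((ρ (f c)).2) ^ Nat.card Fˣ = 1 := pow_card_eq_one'
      rwa [Nat.card_units, Nat.card_eq_fintype_card] at this
    have h8 := Nat.eq_one_of_dvd_coprimes hco (orderOf_dvd_of_pow_eq_one h1) (orderOf_dvd_of_pow_eq_one h7)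
    exact orderOf_eq_one_iff.mp h8
  have hfst : ∀ a b : C, (ρ (f a)).1 = (ρ (f b)).1 → a = b := by
    intro a b hab
    apply hfinj
    apply ρ.injective
    apply Prod.ext hab
    rw [hsnd, hsnd]
  have hcyc : IsCyclic C := by
    let f1 : C →* (E6 F)ˣ := (MonoidHom.fst _ _).comp (ρ.toMonoidHom.comp f)
    exact isCyclic_of_injective f1 hfst
  refine ⟨hcyc, ?_⟩
  -- the normaliser
  set N := Subgroup.normalizer ((C : Subgroup G) : Set G) with hN
  have hxC : x ∈ C := mem_C.mpr rfl
  have hcn : ∀ n : N, (n : G) * x * (n : G)⁻¹ ∈ C := fun n => (Subgroup.mem_normalizer_iff.mp n.2 x).mp hxC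
  let c0 : N → C := fun n => ⟨_, hcn n⟩
  let E : N → (E6 F)ˣ := fun n => (ρ (f (c0 n))).1
  have hE : ∀ n : N, iotaU F (iP F (E n)) = ψ ((n : G) * x * (n : G)⁻¹) := by
    intro n
    rw [← hf (c0 n)]
    congr 1
    apply ρ.injective
    have h5 : ρ (iP F (E n)) = (E n, 1) := by
      simp [iP, ρ]
    rw [h5]
    apply Prod.ext
    · rfl
    · exact (hsnd (c0 n)).symm
  set μ := minpoly F (e : E6 F) with hμ
  have hμ0 : μ ≠ 0 := minpoly.ne_zero (Algebra.IsIntegral.isIntegral _)
  have hroot : ∀ n : N, Polynomial.aeval (E n : E6 F) μ = 0 := by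
    intro n
    have hEne : (E n : E6 F) - 1 ≠ 0 := by
      intro h0
      have h5 : E n = 1 := Units.ext (sub_eq_zero.mp h0)
      have h6 := hE n
      rw [h5, map_one, map_one, hψ] at h6
      have h7 : (n : G) * x * (n : G)⁻¹ = 1 := by
        apply hΨ
        rw [map_one]
        have h8 : Ψ ((n : G) * x * (n : G)⁻¹) = γ * 1 * γ⁻¹ := by
          rw [h6]
          group
        rw [h8]
        group
      have h9 : x = 1 := by
        have e9 : x = (n : G)⁻¹ * ((n : G) * x * (n : G)⁻¹) * (n : G) := by group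
        rw [e9, h7]
        group
      rw [h9, orderOf_one] at hx
      exact hp.one_lt.ne hx
    have h1 : Polynomial.aeval (((e : E6 F), (1 : F)) : A7 F) (μ * (Polynomial.X - Polynomial.C 1)) = 0 := by
      rw [aeval_pair]
      apply Prod.ext
      · show Polynomial.aeval (e : E6 F) (μ * (Polynomial.X - Polynomial.C 1)) = 0
        rw [map_mul, hμ, minpoly.aeval, zero_mul]
      · show Polynomial.aeval (1 : F) (μ * (Polynomial.X - Polynomial.C 1)) = 0
        simp
    set D : GL (Fin 7) F := ψ (n : G) with hD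
    have h2' : iota F (((E n : E6 F), (1 : F)) : A7 F) =
        (D : Matrix (Fin 7) (Fin 7) F) * iota F (((e : E6 F), (1 : F)) : A7 F) * ((D⁻¹ : GL (Fin 7) F) : Matrix (Fin 7) (Fin 7) F) := by
      have h3' : iotaU F (iP F (E n)) = D * iotaU F (iP F e) * D⁻¹ := by
        rw [hE, ← hψx, hD, map_mul, map_mul, map_inv]
      exact congrArg (fun z : GL (Fin 7) F => (z : Matrix (Fin 7) (Fin 7) F)) h3'
    have h4' : iota F (Polynomial.aeval (((E n : E6 F), (1 : F)) : A7 F) (μ * (Polynomial.X - Polynomial.C 1))) = 0 := by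
      rw [← Polynomial.aeval_algHom_apply, h2', aeval_units_conj', Polynomial.aeval_algHom_apply, h1, map_zero, mul_zero, zero_mul]
    have h5' : Polynomial.aeval (((E n : E6 F), (1 : F)) : A7 F) (μ * (Polynomial.X - Polynomial.C 1)) = 0 := by
      apply iota_injective F
      rw [h4', map_zero]
    rw [aeval_pair] at h5'
    have h6' : Polynomial.aeval (E n : E6 F) (μ * (Polynomial.X - Polynomial.C 1)) = 0 := congrArg Prod.fst h5'
    rw [map_mul] at h6'
    have h7' : Polynomial.aeval (E n : E6 F) (Polynomial.X - Polynomial.C (1 : F)) = (E n : E6 F) - 1 := by simp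
    rw [h7'] at h6'
    exact (mul_eq_zero.mp h6').resolve_right hEne
  letI : Fintype N := Fintype.ofFinite _
  letI : Fintype C := Fintype.ofFinite _
  set t : Finset (E6 F) := (μ.map (algebraMap F (E6 F))).roots.toFinset with ht
  have hμ0' : μ.map (algebraMap F (E6 F)) ≠ 0 := (Polynomial.map_ne_zero_iff (algebraMap F (E6 F)).injective).2 hμ0
  have hmaps : ∀ n ∈ (Finset.univ : Finset N), (E n : E6 F) ∈ t := by
    intro n _
    rw [ht, Multiset.mem_toFinset, Polynomial.mem_roots hμ0', Polynomial.IsRoot, Polynomial.eval_map_algebraMap]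
    exact hroot n
  have htc : t.card ≤ 6 := by
    calc t.card ≤ (μ.map (algebraMap F (E6 F))).roots.card := Multiset.toFinset_card_le _
      _ ≤ (μ.map (algebraMap F (E6 F))).natDegree := Polynomial.card_roots' _
      _ = μ.natDegree := Polynomial.natDegree_map _
      _ ≤ Module.finrank F (E6 F) := minpoly.natDegree_le _
      _ = 6 := finrank_E6 F
  have hfib : ∀ b ∈ t, ((Finset.univ : Finset N).filter (fun n => (E n : E6 F) = b)).card ≤ Nat.card C := by
    intro b _
    rcases ((Finset.univ : Finset N).filter (fun n => (E n : E6 F) = b)).eq_empty_or_nonempty with h0 | ⟨n₀, hn₀⟩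
    · rw [h0]; simp
    · have hn₀' : (E n₀ : E6 F) = b := (Finset.mem_filter.1 hn₀).2
      have hin : ∀ n : N, (E n : E6 F) = b → (n₀ : G)⁻¹ * (n : G) ∈ C := by
        intro n hn
        have h1 : E n = E n₀ := Units.ext (hn.trans hn₀'.symm)
        have h3' : (n : G) * x * (n : G)⁻¹ = (n₀ : G) * x * (n₀ : G)⁻¹ := by
          apply hψinj
          rw [← hE, ← hE, h1]
        rw [mem_C]
        calc (n₀ : G)⁻¹ * (n : G) * x = (n₀ : G)⁻¹ * ((n : G) * x * (n : G)⁻¹) * (n : G) := by group
          _ = (n₀ : G)⁻¹ * ((n₀ : G) * x * (n₀ : G)⁻¹) * (n : G) := by rw [h3']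
          _ = x * ((n₀ : G)⁻¹ * (n : G)) := by group
      rw [Nat.card_eq_fintype_card, ← Finset.card_univ]
      refine Finset.card_le_card_of_injOn
        (fun n : N => if h : (E n : E6 F) = b then ⟨_, hin n h⟩ else ⟨1, one_mem _⟩) (fun _ _ => Finset.mem_coe.2 (Finset.mem_univ _)) ?_
      intro a ha a' ha' heq
      have ha2 : (E a : E6 F) = b := (Finset.mem_filter.1 (Finset.mem_coe.1 ha)).2
      have ha2' : (E a' : E6 F) = b := (Finset.mem_filter.1 (Finset.mem_coe.1 ha')).2
      simp only [ha2, ha2', dif_pos] at heq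
      have h6 := congrArg Subtype.val heq
      exact Subtype.ext (mul_left_cancel h6)
  have hfinal := Finset.card_le_mul_card_image_of_maps_to hmaps _ hfib
  rw [Finset.card_univ, ← Nat.card_eq_fintype_card] at hfinal
  calc Nat.card N ≤ Nat.card C * t.card := hfinal
    _ ≤ Nat.card C * 6 := Nat.mul_le_mul_left _ htc
    _ = 6 * Nat.card C := mul_comm _ _

end field

end Cfsg.Agent.Lib.ReeG2.GL8
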