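import Cfsg.Agent.Lib.ReeG2.T
import Cfsg.Agent.Lib.ReeG2.Ab4
import Cfsg.Agent.Lib.ReeG2.GL8
import Cfsg.Agent.Lib.Classical.SL2Sylow

/-!
# The data of the abstract Ree-type group for `G¹`: first part
-/

set_option autoImplicit false
set_option linter.unusedTactic false
set_option linter.unreachableTactic false
set_option linter.unusedSectionVars false
set_option linter.unusedVariables false
set_option linter.ambiguousOpen false
set_option linter.dupNamespace false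
set_option maxHeartbeats 2000000

namespace Cfsg.Agent.Lib.ReeG2.Con1

open scoped MatrixGroups Matrix
open Cfsg Lie ChevalleyDatum
open Cfsg.Agent.Lib.Chev
open Tables Tables2 Tables3 Raise Basic AxBasic Torus Products Products2 Mono1 Mono2 Mono3 Bn ChevSimple
open Cfsg.Agent.Lib.Twisted.Fact Cfsg.Agent.Lib.Twisted.Bruhat Cfsg.Agent.Lib.Twisted.Tw
open Cfsg.Agent.Lib.Twisted.Struct Cfsg.Agent.Lib.Twisted.Check Cfsg.Agent.Lib.Twisted.Ortho
open Cfsg.Agent.Lib.ReeG2.Blocks Cfsg.Agent.Lib.ReeG2.Tw Cfsg.Agent.Lib.ReeG2.Blk7 Cfsg.Agent.Lib.ReeG2.Unip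
open Cfsg.Agent.Lib.ReeG2.RTD Cfsg.Agent.Lib.ReeG2.H1 Cfsg.Agent.Lib.ReeG2.Rank1 Cfsg.Agent.Lib.ReeG2.Str
open Cfsg.Agent.Lib.ReeG2.Fini Cfsg.Agent.Lib.ReeG2.Fini2 Cfsg.Agent.Lib.ReeG2.L Cfsg.Agent.Lib.ReeG2.Rank1b
open Cfsg.Agent.Lib.ReeG2.L2 Cfsg.Agent.Lib.ReeG2.L3 Cfsg.Agent.Lib.ReeG2.E8 Cfsg.Agent.Lib.ReeG2.L4 Cfsg.Agent.Lib.ReeG2.L5
open Cfsg.Agent.Lib.ReeG2.T
open Cfsg.Agent.Lib.Chev.SL2 (upM loM)

section Twist

variable {F : Type*} [Field F] [CharP F 3] (ax : Ax chevG2 F)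
variable (f : F ≃+* F) {e : ℕ} (hf : ∀ t, f t = t ^ e) (hff : ∀ t, f (f t) ^ 3 = t)
variable (hns : ∀ l : Fˣ, (∃ ν : Fˣ, l = ν ^ 2) ∨ ∃ ν : Fˣ, l = -ν ^ 2)

include ax hf hff

lemma card_UG : Nat.card (UG F e) = Nat.card F ^ 3 := by
  rw [← card_U1 ax f hf hff]
  exact Nat.card_congr (Subgroup.subgroupOfEquivOfLe inf_le_right).toEquiv

include hns in
lemma card_HG : Nat.card (HG F e) = Nat.card F - 1 := by
  have h1 : Nat.card (HG F e) = Nat.card ↥(chevG2.diagonalSubgroup F ⊓ twistedG2 F e) :=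
    Nat.card_congr (Subgroup.subgroupOfEquivOfLe inf_le_right).toEquiv
  rw [h1, ← Nat.card_congr (hhEquiv ax f hf hff hns).toEquiv, Nat.card_units]

include hns in
lemma cyc_HG [Finite F] : IsCyclic (HG F e) := by
  let e1 := Subgroup.subgroupOfEquivOfLe (G := GL chevG2.Idx F) (H := chevG2.diagonalSubgroup F ⊓ twistedG2 F e)
    (K := twistedG2 F e) inf_le_right
  haveI : IsCyclic ↥(chevG2.diagonalSubgroup F ⊓ twistedG2 F e) :=
    isCyclic_of_surjective (hhEquiv ax f hf hff hns) (hhEquiv ax f hf hff hns).surjective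
  exact isCyclic_of_injective e1.toMonoidHom e1.injective

lemma aG_mem_HG : aG ax f hf hff ∈ HG F e :=
  (⟨aa_mem_H ax f hf hff, aa_mem ax f hf hff⟩ : (aa : GL chevG2.Idx F) ∈ chevG2.diagonalSubgroup F ⊓ twistedG2 F e)

lemma aG_ne : aG ax f hf hff ≠ 1 := (isE8 ax f hf hff).a_ne

lemma n_inv' {h : ↥(twistedG2 F e)} (hh₀ : h ∈ HG F e) : nG1 ax f hf * h * nG1 ax f hf = h⁻¹ := by
  obtain ⟨l, hl⟩ := H1_form ax f hf hff hh₀.1 hh₀.2
  have hl' : h.1 = hh f l := hl
  apply Subtype.ext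
  show n0 ax * h.1 * n0 ax = (h.1)⁻¹
  rw [hl', hh_inv, hh, hh, n0_conj_tt]
  congr 1

include hns in
lemma fix3' {h u : ↥(twistedG2 F e)} (hh₀ : h ∈ HG F e) (hu : u ∈ UG F e) (hu1 : u ≠ 1) (hc : h * u = u * h) :
    h = 1 ∨ h = aG ax f hf hff := by
  rcases CH_subset ax f hf hff hns hu hu1 (⟨hh₀, hc⟩ : h ∈ Sp.CH (HG F e) u) with h1 | h1
  · left
    rw [h1]
    exact Subtype.ext (hh_one f)
  · right
    have h2 : h = ⟨hh f (-1), (hh_mem_H1 ax f hf hns hff (-1)).2⟩ := h1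
    rw [h2]
    exact Subtype.ext (hh_neg_one f)

/-- Elements of `U¹` commuting with `a`. -/
lemma U_C_iff {u : ↥(twistedG2 F e)} : u ∈ UG F e ⊓ Subgroup.centralizer {aG ax f hf hff} ↔ ∃ s, u = LL ax f hf hff (upM s) := by
  constructor
  · rintro ⟨hu, hc⟩
    exact U_comm_a ax f hf hff hu (Subgroup.mem_centralizer_singleton_iff.mp hc).symm
  · rintro ⟨s, rfl⟩
    refine ⟨?_, Subgroup.mem_centralizer_singleton_iff.mpr (aG_comm ax f hf hff _).symm⟩
    have h1 : ((LL ax f hf hff (upM s) : ↥(twistedG2 F e)) : GL chevG2.Idx F) ∈ chevG2.posUnipotent F ⊓ twistedG2 F e := by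
      rw [LL_up]
      exact xx_mem_U1 ax f hf hff _ _ _
    exact h1

lemma card_UC : Nat.card ↥(UG F e ⊓ Subgroup.centralizer {aG ax f hf hff}) = Nat.card F := by
  apply Nat.card_congr
  symm
  refine Equiv.ofBijective (fun s : F => ⟨LL ax f hf hff (upM s), (U_C_iff ax f hf hff).mpr ⟨s, rfl⟩⟩) ⟨?_, ?_⟩
  · intro s s' h
    have h1 : ((LL ax f hf hff (upM s) : ↥(twistedG2 F e)) : GL chevG2.Idx F) = ((LL ax f hf hff (upM s') : ↥(twistedG2 F e)) : GL chevG2.Idx F) :=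
      congrArg (fun x : ↥(UG F e ⊓ Subgroup.centralizer {aG ax f hf hff}) => ((x : ↥(twistedG2 F e)) : GL chevG2.Idx F)) h
    rw [LL_up, LL_up] at h1
    exact (xx_inj ax f h1).2.1
  · rintro ⟨u, hu⟩
    obtain ⟨s, hs⟩ := (U_C_iff ax f hf hff).mp hu
    exact ⟨s, Subtype.ext hs.symm⟩

lemma U_form {u : ↥(twistedG2 F e)} (hu : u ∈ UG F e) : ∃ t s v, u.1 = xx ax f t s v := by
  obtain ⟨t, s, v, hu'⟩ := (mem_U1_iff ax f hf hff).mp hu
  exact ⟨t, s, v, hu'⟩

lemma U9' {u : ↥(twistedG2 F e)} (hu : u ∈ UG F e) : u ^ 9 = 1 := by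
  obtain ⟨t, s, v, hu'⟩ := U_form ax f hf hff hu
  apply Subtype.ext
  show (u.1) ^ 9 = 1
  rw [hu', show 9 = 3 * 3 from rfl, pow_mul, xx_cube ax f hff, xx_cube ax f hff]
  simp [xx_zero']

lemma CUa3' {u : ↥(twistedG2 F e)} (hu : u ∈ UG F e) (hc : u * aG ax f hf hff = aG ax f hf hff * u) : u ^ 3 = 1 := by
  obtain ⟨s, rfl⟩ := U_comm_a ax f hf hff hu hc.symm
  apply Subtype.ext
  show ((LL ax f hf hff (upM s) : ↥(twistedG2 F e)) : GL chevG2.Idx F) ^ 3 = 1
  rw [LL_up, xx_cube ax f hff]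
  simp [xx_zero']

/-- An element of order nine. -/
lemma exists_order_nine : ∃ u : ↥(twistedG2 F e), orderOf u = 9 := by
  haveI : Fact (Nat.Prime 3) := ⟨Nat.prime_three⟩
  refine ⟨⟨xx ax f 1 0 0, xx_mem ax f hf _ _ _⟩, ?_⟩
  have hu : (⟨xx ax f 1 0 0, xx_mem ax f hf _ _ _⟩ : ↥(twistedG2 F e)) ∈ UG F e := xx_mem_U1 ax f hf hff _ _ _
  have := orderOf_eq_prime_pow (p := 3) (n := 1) (x := (⟨xx ax f 1 0 0, xx_mem ax f hf _ _ _⟩ : ↥(twistedG2 F e))) ?_ ?_
  · simpa using this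
  · intro h
    have h1 : (xx ax f 1 0 0) ^ 3 = 1 := by
      have h2 := congrArg Subtype.val h
      simpa using h2
    rw [xx_cube ax f hff, ← xx_zero' ax f] at h1
    have h3 := (xx_inj ax f h1).2.2
    simp at h3
  · exact U9' ax f hf hff hu

end Twist

section Card

variable {F : Type*} [Field F] [Fintype F] [CharP F 3] (ax : Ax chevG2 F)
variable (f : F ≃+* F) {e : ℕ} (hf : ∀ t, f t = t ^ e) (hff : ∀ t, f (f t) ^ 3 = t)
variable (hns : ∀ l : Fˣ, (∃ ν : Fˣ, l = ν ^ 2) ∨ ∃ ν : Fˣ, l = -ν ^ 2)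

/-- The order of `PSL₂`. -/
lemma card_PSL : 2 * Nat.card (PSL(2, F)) = Fintype.card F * ((Fintype.card F - 1) * (Fintype.card F + 1)) := by
  rw [← Cfsg.Agent.Lib.Classical.SL2Sylow.card_SL2, Subgroup.card_eq_card_quotient_mul_card_subgroup (Subgroup.center (SL(2, F)))]
  have h2 : Nat.card (Subgroup.center (SL(2, F))) = 2 := by
    rw [Nat.card_eq_two_iff]
    refine ⟨⟨1, Subgroup.one_mem _⟩, ⟨mOne, ?_⟩, ?_, ?_⟩
    · rw [Matrix.SpecialLinearGroup.mem_center_iff]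
      refine ⟨-1, by simp, ?_⟩
      ext a b
      fin_cases a <;> fin_cases b <;> simp [mOne]
    · intro h2
      have h3 : (1 : SL(2, F)) = mOne := congrArg (fun x => x.1) h2
      have h4 : (1 : SL(2, F)).1 0 0 = (mOne : SL(2, F)).1 0 0 := by rw [← h3]
      have h5 : (1 : F) = -1 := by simpa [mOne] using h4
      exact neg_one_ne_one h5.symm
    · ext ⟨x, hx⟩
      simp only [Set.mem_insert_iff, Set.mem_singleton_iff, Set.mem_univ, iff_true]
      obtain ⟨r, hr, hg⟩ := Matrix.SpecialLinearGroup.mem_center_iff.mp hx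
      have hr2 : r * r = 1 := by
        have : r ^ 2 = 1 := by simpa using hr
        rw [← pow_two, this]
      rcases mul_self_eq_one_iff.mp hr2 with rfl | rfl
      · left
        apply Subtype.ext
        apply Subtype.ext
        rw [← hg]
        simp
      · right
        apply Subtype.ext
        apply Subtype.ext
        rw [← hg]
        ext a b
        fin_cases a <;> fin_cases b <;> simp [mOne]
  rw [h2, mul_comm]

include ax hf hff hns in
lemma card_Ca : Nat.card (Subgroup.centralizer {aG ax f hf hff}) = Fintype.card F * ((Fintype.card F) ^ 2 - 1) := by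
  obtain ⟨Θ⟩ := C_iso ax f hf hff hns
  rw [Nat.card_congr Θ.toEquiv, Nat.card_prod, Nat.card_congr Multiplicative.toAdd, Nat.card_zmod, card_PSL]
  congr 1
  have h2 : 2 ≤ Fintype.card F := Fintype.one_lt_card
  obtain ⟨d, hd⟩ : ∃ d, Fintype.card F = d + 1 := ⟨Fintype.card F - 1, by omega⟩
  rw [hd]
  simp only [Nat.add_sub_cancel]
  have : (d + 1) ^ 2 = d * (d + 1 + 1) + 1 := by ring
  rw [this, Nat.add_sub_cancel]

end Card

section Inv

variable {G : Type*} [Group G] {a b c s : G}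

/-- The orbit of `a` under conjugation by a cycle of order seven. -/
lemma orbit_E8 (S : IsE8 a b c) (h1 : s * a = b * c * s) (h2 : s * b = a * b * s) (h3 : s * c = a * b * c * s)
    {y : G} (hy : y ∈ EE a b c) (hy1 : y ≠ 1) : ∃ x, y = x * a * x⁻¹ := by
  have ha : s * a * s⁻¹ = pw a false * pw b true * pw c true := by
    rw [h1]
    simp
  have hb : s * b * s⁻¹ = pw a true * pw b true * pw c false := by
    rw [h2]
    simp
  have hc : s * c * s⁻¹ = pw a true * pw b true * pw c true := by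
    rw [h3]
    simp
  have ha' : ∀ i, s * pw a i * s⁻¹ = pw a false * pw b i * pw c i := by
    intro i
    cases i
    · simp
    · simpa using ha
  have hb' : ∀ i, s * pw b i * s⁻¹ = pw a i * pw b i * pw c false := by
    intro i
    cases i
    · simp
    · simpa using hb
  have hc' : ∀ i, s * pw c i * s⁻¹ = pw a i * pw b i * pw c i := by
    intro i
    cases i
    · simp
    · simpa using hc
  have hconj : ∀ i j k : Bool, s * (pw a i * pw b j * pw c k) * s⁻¹ =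
      pw a (xor j k) * pw b (xor (xor i j) k) * pw c (xor i k) := by
    intro i j k
    have e : s * (pw a i * pw b j * pw c k) * s⁻¹ = (s * pw a i * s⁻¹) * (s * pw b j * s⁻¹) * (s * pw c k * s⁻¹) := by group
    rw [e, ha', hb', hc', S.prod_mul, S.prod_mul]
    simp
  have step : ∀ i j k : Bool, (∃ x, pw a i * pw b j * pw c k = x * a * x⁻¹) →
      ∃ x, pw a (xor j k) * pw b (xor (xor i j) k) * pw c (xor i k) = x * a * x⁻¹ := by
    rintro i j k ⟨x, hx⟩
    refine ⟨s * x, ?_⟩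
    rw [← hconj, hx]
    group
  have h0 : ∃ x, pw a true * pw b false * pw c false = x * a * x⁻¹ := ⟨1, by simp⟩
  have h1' : ∃ x, pw a false * pw b true * pw c true = x * a * x⁻¹ := step _ _ _ h0
  have h2' : ∃ x, pw a false * pw b false * pw c true = x * a * x⁻¹ := step _ _ _ h1'
  have h3' : ∃ x, pw a true * pw b true * pw c true = x * a * x⁻¹ := step _ _ _ h2'
  have h4' : ∃ x, pw a false * pw b true * pw c false = x * a * x⁻¹ := step _ _ _ h3'
  have h5' : ∃ x, pw a true * pw b true * pw c false = x * a * x⁻¹ := step _ _ _ h4'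
  have h6' : ∃ x, pw a true * pw b false * pw c true = x * a * x⁻¹ := step _ _ _ h5'
  obtain ⟨i, j, k, rfl⟩ := S.mem_iff.mp hy
  cases i <;> cases j <;> cases k
  · exact absurd (by simp) hy1
  · exact h2'
  · exact h4'
  · exact h1'
  · exact h0
  · exact h6'
  · exact h5'
  · exact h3'

end Inv

section Main

variable {F : Type*} [Field F] [Fintype F] [CharP F 3] (ax : Ax chevG2 F)
variable (f : F ≃+* F) {e : ℕ} (hf : ∀ t, f t = t ^ e) (hff : ∀ t, f (f t) ^ 3 = t)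

include ax hf hff

/-- Two-elements are conjugate into `E`. -/
lemma conj_E {k : ℕ} (hcard : Nat.card ↥(twistedG2 F e) = 8 * k) (hk : Odd k) {g : ↥(twistedG2 F e)}
    (hg : ∃ n, g ^ 2 ^ n = 1) :
    ∃ t : ↥(twistedG2 F e), t⁻¹ * g * t ∈ EE (aG ax f hf hff) (LL ax f hf hff iM) (LL ax f hf hff jM) := by
  have S := isE8 ax f hf hff
  haveI : Fact (Nat.Prime 2) := ⟨Nat.prime_two⟩
  have hidx : ¬ 2 ∣ (EE (aG ax f hf hff) (LL ax f hf hff iM) (LL ax f hf hff jM)).index := by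
    have h1 := Subgroup.card_mul_index (EE (aG ax f hf hff) (LL ax f hf hff iM) (LL ax f hf hff jM))
    rw [S.card, hcard] at h1
    have h2 : (EE (aG ax f hf hff) (LL ax f hf hff iM) (LL ax f hf hff jM)).index = k := by omega
    rw [h2]
    exact hk.not_two_dvd_nat
  have hP : IsPGroup 2 (Subgroup.zpowers g) := by
    rw [IsPGroup.iff_card]
    obtain ⟨n, hn⟩ := hg
    have : orderOf g ∣ 2 ^ n := orderOf_dvd_of_pow_eq_one hn
    obtain ⟨j, -, hj⟩ := (Nat.dvd_prime_pow Nat.prime_two).mp this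
    exact ⟨j, by rw [Nat.card_zpowers, hj]⟩
  obtain ⟨t, ht⟩ := Cfsg.Agent.Lib.ReeG2.GL7.exists_conj_le _ hidx _ hP
  exact ⟨t, ht g (Subgroup.mem_zpowers g)⟩

lemma no4' {k : ℕ} (hcard : Nat.card ↥(twistedG2 F e) = 8 * k) (hk : Odd k) {g : ↥(twistedG2 F e)} (hg : g ^ 4 = 1) :
    g * g = 1 := by
  obtain ⟨t, ht⟩ := conj_E ax f hf hff hcard hk (g := g) ⟨2, by simpa using hg⟩
  have h1 := (isE8 ax f hf hff).sq ht
  have e1 : t⁻¹ * g * t * (t⁻¹ * g * t) = t⁻¹ * (g * g) * t := by group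
  rw [e1] at h1
  have e2 : g * g = t * (t⁻¹ * (g * g) * t) * t⁻¹ := by group
  rw [e2, h1]
  group

lemma inv_conj' {k : ℕ} (hcard : Nat.card ↥(twistedG2 F e) = 8 * k) (hk : Odd k) {g : ↥(twistedG2 F e)} (hg : g * g = 1)
    (hg1 : g ≠ 1) : ∃ x, g = x * aG ax f hf hff * x⁻¹ := by
  obtain ⟨t, ht⟩ := conj_E ax f hf hff hcard hk (g := g) ⟨1, by simpa [pow_two] using hg⟩
  have hne : t⁻¹ * g * t ≠ 1 := by
    intro h
    apply hg1
    have e2 : g = t * (t⁻¹ * g * t) * t⁻¹ := by group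
    rw [e2, h]
    group
  obtain ⟨x, hx⟩ := orbit_E8 (isE8 ax f hf hff) (rel_s_a ax f hf hff) (rel_s_b ax f hf hff) (rel_s_c ax f hf hff) ht hne
  refine ⟨t * x, ?_⟩
  have e2 : g = t * (t⁻¹ * g * t) * t⁻¹ := by group
  rw [e2, hx]
  group

end Main

end Cfsg.Agent.Lib.ReeG2.Con1
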