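import Cfsg.Agent.Lib.ReeG2.Con1

/-!
# The data of the abstract Ree-type group for `G¹`: the subgroup `M`
-/

set_option autoImplicit false
set_option linter.unusedTactic false
set_option linter.unreachableTactic false
set_option linter.unusedSectionVars false
set_option linter.unusedVariables false
set_option linter.ambiguousOpen false
set_option linter.dupNamespace false
set_option maxHeartbeats 2000000

namespace Cfsg.Agent.Lib.ReeG2.Con2

open scoped MatrixGroups Matrix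
open Cfsg Lie ChevalleyDatum
open Cfsg.Agent.Lib.Chev
open Tables Tables2 Tables3 Raise Basic AxBasic Torus Products Products2 Mono1 Mono2 Mono3 Bn ChevSimple
open Cfsg.Agent.Lib.Twisted.Fact Cfsg.Agent.Lib.Twisted.Bruhat Cfsg.Agent.Lib.Twisted.Tw
open Cfsg.Agent.Lib.Twisted.Struct Cfsg.Agent.Lib.Twisted.Check Cfsg.Agent.Lib.Twisted.Ortho
open Cfsg.Agent.Lib.ReeG2.Blocks Cfsg.Agent.Lib.ReeG2.Tw Cfsg.Agent.Lib.ReeG2.Blk7 Cfsg.Agent.Lib.ReeG2.Unip
open Cfsg.Agent.Lib.ReeG2.RTD Cfsg.Agent.Lib.ReeG2.H1 Cfsg.Agent.Lib.ReeG2.Rank1 Cfsg.Agent.Lib.ReeG2.Str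
open Cfsg.Agent.Lib.ReeG2.Fini Cfsg.Agent.Lib.ReeG2.Fini2 Cfsg.Agent.Lib.ReeG2.L Cfsg.Agent.Lib.ReeG2.Rank1b
open Cfsg.Agent.Lib.ReeG2.L2 Cfsg.Agent.Lib.ReeG2.L3 Cfsg.Agent.Lib.ReeG2.E8 Cfsg.Agent.Lib.ReeG2.L4 Cfsg.Agent.Lib.ReeG2.L5
open Cfsg.Agent.Lib.ReeG2.T Cfsg.Agent.Lib.ReeG2.Con1
open Cfsg.Agent.Lib.Chev.SL2 (upM loM)

section Mat

variable {F : Type*} [Field F]

/-- The sum of a torus element and its inverse. -/
def M0 (A B C E : F) : Matrix (Fin 7) (Fin 7) F :=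
  !![A, 0, 0, 0, 0, 0, B;
     0, C, 0, 0, 0, E, 0;
     0, 0, A, 0, B, 0, 0;
     0, 0, 0, C + E, 0, 0, 0;
     0, 0, B, 0, A, 0, 0;
     0, E, 0, 0, 0, C, 0;
     B, 0, 0, 0, 0, 0, A]

/-- The polynomial in `M0`. -/
def Z0 (a b c : F) : Matrix (Fin 7) (Fin 7) F :=
  !![0, 0, 0, 0, 0, 0, 0;
     0, a, 0, 0, 0, b, 0;
     0, 0, 0, 0, 0, 0, 0;
     0, 0, 0, c, 0, 0, 0;
     0, 0, 0, 0, 0, 0, 0;
     0, b, 0, 0, 0, a, 0;
     0, 0, 0, 0, 0, 0, 0]

/-- The projection on the `-1`-eigenspace of `a`. -/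
def Pi0 : Matrix (Fin 7) (Fin 7) F :=
  !![1, 0, 0, 0, 0, 0, 0;
     0, 0, 0, 0, 0, 0, 0;
     0, 0, 1, 0, 0, 0, 0;
     0, 0, 0, 0, 0, 0, 0;
     0, 0, 0, 0, 1, 0, 0;
     0, 0, 0, 0, 0, 0, 0;
     0, 0, 0, 0, 0, 0, 1]

lemma Z0_eq (A B C E : F) :
    (M0 A B C E - A • 1) * (M0 A B C E - A • 1) - (B * B) • 1 =
      Z0 ((C - A) * (C - A) + E * E - B * B) (2 * (C - A) * E) ((C + E - A) * (C + E - A) - B * B) := by
  ext a b
  fin_cases a <;> fin_cases b <;> simp [M0, Z0, Matrix.mul_apply, Fin.sum_univ_succ, Matrix.one_apply] <;> ring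

lemma Z0_poly (a b c d : F) (h1 : a + b = c) (h2 : a - b = d) :
    (Z0 a b c - c • 1) * (Z0 a b c - d • 1) = (c * d) • Pi0 := by
  subst h1 h2
  ext i j
  fin_cases i <;> fin_cases j <;> simp [Z0, Pi0, Matrix.mul_apply, Fin.sum_univ_succ, Matrix.one_apply] <;> ring

/-- Commuting with `M0` implies commuting with the projection. -/
lemma comm_Pi0 {A B C E : F} {W : Matrix (Fin 7) (Fin 7) F} (hW : Commute W (M0 A B C E))
    (h3 : (C + E - A) * (C + E - A) - B * B ≠ 0) (h4 : (C - E - A) * (C - E - A) - B * B ≠ 0) : Commute W Pi0 := by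
  set z3 := (C + E - A) * (C + E - A) - B * B with hz3
  set z4 := (C - E - A) * (C - E - A) - B * B with hz4
  have h1 : Commute W (M0 A B C E - A • 1) := hW.sub_right ((Commute.one_right W).smul_right A)
  have h2 : Commute W ((M0 A B C E - A • 1) * (M0 A B C E - A • 1) - (B * B) • 1) :=
    (h1.mul_right h1).sub_right ((Commute.one_right W).smul_right _)
  rw [Z0_eq] at h2
  have h5 := (h2.sub_right ((Commute.one_right W).smul_right z3)).mul_right (h2.sub_right ((Commute.one_right W).smul_right z4))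
  rw [Z0_poly _ _ z3 z4 (by rw [hz3]; ring) (by rw [hz4]; ring)] at h5
  have h6 : W * ((z3 * z4) • Pi0) = ((z3 * z4) • Pi0) * W := h5
  rw [Matrix.mul_smul, Matrix.smul_mul] at h6
  exact smul_right_injective _ (mul_ne_zero h3 h4) h6

end Mat

section Twist

variable {F : Type*} [Field F] [CharP F 3] (ax : Ax chevG2 F)
variable (f : F ≃+* F) {e : ℕ} (hf : ∀ t, f t = t ^ e) (hff : ∀ t, f (f t) ^ 3 = t)

lemma PM_tmk (f : F ≃+* F) (x y : F) (h : x * x + y * y = 1) :
    PM f (tmk x y h) = Pm x y (-y) x (f x) (f y) (-f y) (f x) := by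
  rw [PM_apply, tmk_00, tmk_01, tmk_10, tmk_11, map_neg]

lemma eq_tmk {g : SL(2, F)} (hg : g ∈ TT F) : g = tmk (g.1 0 0) (g.1 0 1) (TT_det hg) :=
  TT_ext hg (tmk_mem _ _ _) rfl rfl

lemma tmk_mul_neg (x y : F) (h : x * x + y * y = 1) (h' : x * x + (-y) * (-y) = 1) : tmk x y h * tmk x (-y) h' = 1 := by
  apply Subtype.ext
  show (tmk x y h).1 * (tmk x (-y) h').1 = 1
  ext a b
  fin_cases a <;> fin_cases b <;> simp [tmk, Matrix.mul_apply, Fin.sum_univ_succ]
  · linear_combination h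
  · ring
  · ring
  · linear_combination h

omit [CharP F 3] in
lemma sum_PM (x y : F) :
    Pm x y (-y) x (f x) (f y) (-f y) (f x) + Pm x (-y) (- -y) x (f x) (-f y) (- -f y) (f x) =
      M0 (2 * (x * f x)) (-(2 * (y * f y))) (2 * (f x) ^ 2) (-(2 * (f y) ^ 2)) := by
  ext a b
  fin_cases a <;> fin_cases b <;> simp [Pm, M0] <;> ring

include ax hf hff

/-- The key lemma: the centraliser of an element of the torus with non fixed trace centralises `a`. -/
theorem comm_a_of_comm {z : ↥(twistedG2 F e)} {g : SL(2, F)} (hg : g ∈ TT F) (hx : f (g.1 0 0) ≠ g.1 0 0)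
    (hc : z * LL ax f hf hff g = LL ax f hf hff g * z) : z * aG ax f hf hff = aG ax f hf hff * z := by
  apply pG_inj ax f hf hff
  rw [map_mul, map_mul]
  have hd := TT_det hg
  set x := g.1 0 0 with hxd
  set y := g.1 0 1 with hyd
  have hd' : x * x + (-y) * (-y) = 1 := by linear_combination hd
  have hgt : g = tmk x y hd := eq_tmk hg
  have hinv : tmk x y hd * tmk x (-y) hd' = 1 := tmk_mul_neg x y hd hd'
  set g' := tmk x (-y) hd' with hg'
  have hLinv : LL ax f hf hff g' = (LL ax f hf hff g)⁻¹ := by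
    rw [hgt]
    apply eq_inv_of_mul_eq_one_right
    rw [← map_mul, hinv, map_one]
  have hc' : z * LL ax f hf hff g' = LL ax f hf hff g' * z := by
    rw [hLinv]
    exact (Commute.inv_right hc)
  have hP1 : pG ax f hf hff (LL ax f hf hff g) = Pm x y (-y) x (f x) (f y) (-f y) (f x) := by
    rw [pG_val, blk_LL, hgt, PM_tmk]
  have hP2 : pG ax f hf hff (LL ax f hf hff g') = Pm x (-y) (- -y) x (f x) (-f y) (- -f y) (f x) := by
    rw [pG_val, blk_LL, hg', PM_tmk, map_neg]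
  have h1 : Commute (pG ax f hf hff z) (pG ax f hf hff (LL ax f hf hff g)) := by
    show _ * _ = _ * _
    rw [← map_mul, hc, map_mul]
  have h2 : Commute (pG ax f hf hff z) (pG ax f hf hff (LL ax f hf hff g')) := by
    show _ * _ = _ * _
    rw [← map_mul, hc', map_mul]
  have h3 := h1.add_right h2
  rw [hP1, hP2, sum_PM] at h3
  have hthree : (3 : F) = 0 := three_eq_zero
  have htwo : (2 : F) ≠ 0 := by
    intro h
    have : (1 : F) = 0 := by linear_combination hthree - h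
    exact one_ne_zero this
  have hfour : (4 : F) ≠ 0 := by
    intro h
    have : (1 : F) = 0 := by linear_combination h - hthree
    exact one_ne_zero this
  have hd2 : f x * f x + f y * f y = 1 := by
    have := congrArg f hd
    simpa using this
  have hY : y * y = 1 - x * x := by linear_combination hd
  have hY' : f y * f y = 1 - f x * f x := by linear_combination hd2
  have hx3 : f x ^ 3 ≠ x := by
    intro h
    apply hx
    have h5 := congrArg f h
    rw [map_pow, hff] at h5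
    exact h5.symm
  have h4 := comm_Pi0 h3 ?_ ?_
  · -- conclusion
    have hD : pG ax f hf hff (aG ax f hf hff) = 1 - (2 : F) • Pi0 := by
      rw [pG_a, Dn_map]
      ext a b
      fin_cases a <;> fin_cases b <;> simp [Dm, Pi0, Matrix.one_apply] <;> first | ring1 | skip
    rw [hD]
    have h5 : Commute (pG ax f hf hff z) (1 - (2 : F) • Pi0) := (Commute.one_right _).sub_right (h4.smul_right _)
    exact h5
  · -- `z₃`
    have e1 : (2 * f x ^ 2 + -(2 * f y ^ 2) - 2 * (x * f x)) * (2 * f x ^ 2 + -(2 * f y ^ 2) - 2 * (x * f x)) -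
        -(2 * (y * f y)) * -(2 * (y * f y)) = 4 * (f x ^ 3 - x) * (f x - x) := by
      have e2 : (2 * f x ^ 2 + -(2 * f y ^ 2) - 2 * (x * f x)) * (2 * f x ^ 2 + -(2 * f y ^ 2) - 2 * (x * f x)) -
          -(2 * (y * f y)) * -(2 * (y * f y)) = (2 * f x ^ 2 - 2 * (f y * f y) - 2 * (x * f x)) ^ 2 - 4 * (y * y) * (f y * f y) := by ring
      rw [e2, hY, hY']
      linear_combination 4 * (f x ^ 4 - f x ^ 2 - x * f x ^ 3 + x * f x) * hthree
    rw [e1]
    exact mul_ne_zero (mul_ne_zero hfour (sub_ne_zero.mpr hx3)) (sub_ne_zero.mpr hx)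
  · -- `z₄`
    have e1 : (2 * f x ^ 2 - -(2 * f y ^ 2) - 2 * (x * f x)) * (2 * f x ^ 2 - -(2 * f y ^ 2) - 2 * (x * f x)) -
        -(2 * (y * f y)) * -(2 * (y * f y)) = 4 * ((f x - x) * (f x - x)) := by
      have e2 : (2 * f x ^ 2 - -(2 * f y ^ 2) - 2 * (x * f x)) * (2 * f x ^ 2 - -(2 * f y ^ 2) - 2 * (x * f x)) -
          -(2 * (y * f y)) * -(2 * (y * f y)) = (2 * f x ^ 2 + 2 * (f y * f y) - 2 * (x * f x)) ^ 2 - 4 * (y * y) * (f y * f y) := by ring
      rw [e2, hY, hY']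
      ring
    rw [e1]
    exact mul_ne_zero hfour (mul_ne_zero (sub_ne_zero.mpr hx) (sub_ne_zero.mpr hx))

end Twist

end Cfsg.Agent.Lib.ReeG2.Con2
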