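import Cfsg.Agent.Lib.ReeG2.Con2

/-!
# The data of the abstract Ree-type group for `G¹`: the subgroup `M`
-/

set_option autoImplicit false
set_option linter.unusedTactic false
set_option linter.unreachableTactic false
set_option linter.unusedSectionVars false
set_option linter.unusedVariables false
set_option linter.ambiguousOpen false
set_option linter.dupNamespace false
set_option maxHeartbeats 2000000

namespace Cfsg.Agent.Lib.ReeG2.Con3

open scoped MatrixGroups Matrix
open Cfsg Lie ChevalleyDatum
open Cfsg.Agent.Lib.Chev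
open Tables Tables2 Tables3 Raise Basic AxBasic Torus Products Products2 Mono1 Mono2 Mono3 Bn ChevSimple
open Cfsg.Agent.Lib.Twisted.Fact Cfsg.Agent.Lib.Twisted.Bruhat Cfsg.Agent.Lib.Twisted.Tw
open Cfsg.Agent.Lib.Twisted.Struct Cfsg.Agent.Lib.Twisted.Check Cfsg.Agent.Lib.Twisted.Ortho
open Cfsg.Agent.Lib.ReeG2.Blocks Cfsg.Agent.Lib.ReeG2.Tw Cfsg.Agent.Lib.ReeG2.Blk7 Cfsg.Agent.Lib.ReeG2.Unip
open Cfsg.Agent.Lib.ReeG2.RTD Cfsg.Agent.Lib.ReeG2.H1 Cfsg.Agent.Lib.ReeG2.Rank1 Cfsg.Agent.Lib.ReeG2.Str
open Cfsg.Agent.Lib.ReeG2.Fini Cfsg.Agent.Lib.ReeG2.Fini2 Cfsg.Agent.Lib.ReeG2.L Cfsg.Agent.Lib.ReeG2.Rank1b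
open Cfsg.Agent.Lib.ReeG2.L2 Cfsg.Agent.Lib.ReeG2.L3 Cfsg.Agent.Lib.ReeG2.E8 Cfsg.Agent.Lib.ReeG2.L4 Cfsg.Agent.Lib.ReeG2.L5
open Cfsg.Agent.Lib.ReeG2.T Cfsg.Agent.Lib.ReeG2.Con1 Cfsg.Agent.Lib.ReeG2.Con2
open Cfsg.Agent.Lib.Chev.SL2 (upM loM)

/-- A subgroup of index two. -/
lemma card_of_index_two {G : Type*} [Group G] {H K : Subgroup G} (hle : H ≤ K) {c : G} (hc : c ∈ K) (hcH : c ∉ H)
    (h : ∀ z ∈ K, z ∉ H → z * c ∈ H) : Nat.card K = 2 * Nat.card H := by
  have h1 := Subgroup.card_mul_index (H.subgroupOf K)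
  have h2 : Nat.card (H.subgroupOf K) = Nat.card H := Nat.card_congr (Subgroup.subgroupOfEquivOfLe hle).toEquiv
  have h3 : (H.subgroupOf K).index = 2 := by
    rw [Subgroup.index_eq_two_iff]
    refine ⟨⟨c, hc⟩, ?_⟩
    rintro ⟨z, hz⟩
    rw [Subgroup.mem_subgroupOf, Subgroup.mem_subgroupOf]
    by_cases hzH : z ∈ H
    · right
      refine ⟨hzH, ?_⟩
      intro h4
      apply hcH
      have h5 : c = z⁻¹ * (z * c) := by group
      rw [h5]
      exact H.mul_mem (H.inv_mem hzH) h4
    · left
      exact ⟨h z hz hzH, hzH⟩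
  rw [h2, h3] at h1
  rw [← h1, mul_comm]

section Twist

variable {F : Type*} [Field F] [CharP F 3] (ax : Ax chevG2 F)
variable (f : F ≃+* F) {e : ℕ} (hf : ∀ t, f t = t ^ e) (hff : ∀ t, f (f t) ^ 3 = t)

lemma TT_comm [Finite F] (hneg : ∀ c : F, c * c ≠ -1) {g g' : SL(2, F)} (hg : g ∈ TT F) (hg' : g' ∈ TT F) : g * g' = g' * g :=
  Cfsg.Agent.Lib.ReeG2.Ab3.comm_of_cyclic (isCyclic_TT hneg) hg hg'

include ax hf hff

lemma LL_mOne : LL ax f hf hff (mOne : SL(2, F)) = 1 := (LL_eq_one_iff ax f hf hff).mpr (Or.inr rfl)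

lemma a_inv : (aG ax f hf hff)⁻¹ = aG ax f hf hff := inv_eq_of_mul_eq_one_left (aG_sq ax f hf hff)

/-- The subgroup `⟨a⟩ × image of the torus`. -/
def MM : Subgroup ↥(twistedG2 F e) where
  carrier := {x | ∃ g ∈ TT F, x = LL ax f hf hff g ∨ x = aG ax f hf hff * LL ax f hf hff g}
  one_mem' := ⟨1, Subgroup.one_mem _, Or.inl (map_one _).symm⟩
  mul_mem' := by
    have hs := aG_sq ax f hf hff
    have hc := aG_comm ax f hf hff
    rintro _ _ ⟨g, hg, rfl | rfl⟩ ⟨g', hg', rfl | rfl⟩
    · exact ⟨g * g', Subgroup.mul_mem _ hg hg', Or.inl (map_mul _ _ _).symm⟩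
    · refine ⟨g * g', Subgroup.mul_mem _ hg hg', Or.inr ?_⟩
      rw [map_mul, ← mul_assoc, ← mul_assoc, hc]
    · refine ⟨g * g', Subgroup.mul_mem _ hg hg', Or.inr ?_⟩
      rw [map_mul, mul_assoc]
    · refine ⟨g * g', Subgroup.mul_mem _ hg hg', Or.inl ?_⟩
      rw [map_mul]
      calc aG ax f hf hff * LL ax f hf hff g * (aG ax f hf hff * LL ax f hf hff g')
          = aG ax f hf hff * (LL ax f hf hff g * aG ax f hf hff) * LL ax f hf hff g' := by group
        _ = aG ax f hf hff * (aG ax f hf hff * LL ax f hf hff g) * LL ax f hf hff g' := by rw [hc]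
        _ = (aG ax f hf hff * aG ax f hf hff) * LL ax f hf hff g * LL ax f hf hff g' := by group
        _ = _ := by rw [hs]; group
  inv_mem' := by
    have hs := aG_sq ax f hf hff
    have hc := aG_comm ax f hf hff
    have hi : (aG ax f hf hff)⁻¹ = aG ax f hf hff := inv_eq_of_mul_eq_one_left hs
    rintro _ ⟨g, hg, rfl | rfl⟩
    · exact ⟨g⁻¹, Subgroup.inv_mem _ hg, Or.inl (map_inv _ _).symm⟩
    · refine ⟨g⁻¹, Subgroup.inv_mem _ hg, Or.inr ?_⟩
      rw [mul_inv_rev, hi, map_inv]
      have := hc g⁻¹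
      rw [map_inv] at this
      exact this.symm

lemma mem_MM {x : ↥(twistedG2 F e)} : x ∈ MM ax f hf hff ↔ ∃ g ∈ TT F, x = LL ax f hf hff g ∨ x = aG ax f hf hff * LL ax f hf hff g := Iff.rfl

lemma LL_mem_MM {g : SL(2, F)} (hg : g ∈ TT F) : LL ax f hf hff g ∈ MM ax f hf hff := ⟨g, hg, Or.inl rfl⟩

lemma a_mem_MM : aG ax f hf hff ∈ MM ax f hf hff := ⟨1, Subgroup.one_mem _, Or.inr (by simp)⟩

lemma b_mem_MM : LL ax f hf hff iM ∈ MM ax f hf hff := LL_mem_MM ax f hf hff iM_mem_TT

lemma LLT_le_MM : LLT ax f hf hff ≤ MM ax f hf hff := by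
  rintro x hx
  obtain ⟨g, hg, rfl⟩ := (mem_LLT ax f hf hff).mp hx
  exact LL_mem_MM ax f hf hff hg

lemma MM_comm [Finite F] (hneg : ∀ c : F, c * c ≠ -1) {x y : ↥(twistedG2 F e)} (hx : x ∈ MM ax f hf hff)
    (hy : y ∈ MM ax f hf hff) : x * y = y * x := by
  have hc := aG_comm ax f hf hff
  obtain ⟨g, hg, hx'⟩ := hx
  obtain ⟨g', hg', hy'⟩ := hy
  have h1 : LL ax f hf hff g * LL ax f hf hff g' = LL ax f hf hff g' * LL ax f hf hff g := by
    rw [← map_mul, ← map_mul, TT_comm hneg hg hg']
  rcases hx' with rfl | rfl <;> rcases hy' with rfl | rfl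
  · exact h1
  · calc LL ax f hf hff g * (aG ax f hf hff * LL ax f hf hff g')
        = (LL ax f hf hff g * aG ax f hf hff) * LL ax f hf hff g' := by group
      _ = aG ax f hf hff * (LL ax f hf hff g * LL ax f hf hff g') := by rw [← hc]; group
      _ = _ := by rw [h1]; group
  · calc aG ax f hf hff * LL ax f hf hff g * LL ax f hf hff g'
        = aG ax f hf hff * (LL ax f hf hff g * LL ax f hf hff g') := by group
      _ = aG ax f hf hff * (LL ax f hf hff g' * LL ax f hf hff g) := by rw [h1]
      _ = (aG ax f hf hff * LL ax f hf hff g') * LL ax f hf hff g := by group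
      _ = _ := by rw [hc]; group
  · calc aG ax f hf hff * LL ax f hf hff g * (aG ax f hf hff * LL ax f hf hff g')
        = aG ax f hf hff * (LL ax f hf hff g * aG ax f hf hff) * LL ax f hf hff g' := by group
      _ = aG ax f hf hff * (aG ax f hf hff * LL ax f hf hff g) * LL ax f hf hff g' := by rw [hc]
      _ = aG ax f hf hff * aG ax f hf hff * (LL ax f hf hff g * LL ax f hf hff g') := by group
      _ = aG ax f hf hff * aG ax f hf hff * (LL ax f hf hff g' * LL ax f hf hff g) := by rw [h1]
      _ = aG ax f hf hff * (aG ax f hf hff * LL ax f hf hff g') * LL ax f hf hff g := by group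
      _ = aG ax f hf hff * (LL ax f hf hff g' * aG ax f hf hff) * LL ax f hf hff g := by rw [hc]
      _ = _ := by group

lemma a_not_mem_LLT : aG ax f hf hff ∉ LLT ax f hf hff := by
  intro h
  obtain ⟨g, -, h2⟩ := (mem_LLT ax f hf hff).mp h
  exact aG_not_mem ax f hf hff g h2

/-- The order of `M`. -/
lemma card_MM [Finite F] (hneg : ∀ c : F, c * c ≠ -1) : Nat.card (MM ax f hf hff) = Nat.card F + 1 := by
  rw [← card_LLT ax f hf hff hneg]
  apply card_of_index_two (LLT_le_MM ax f hf hff) (a_mem_MM ax f hf hff) (a_not_mem_LLT ax f hf hff)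
  rintro z ⟨g, hg, rfl | rfl⟩ hz
  · exact absurd ((mem_LLT ax f hf hff).mpr ⟨g, hg, rfl⟩) hz
  · have e1 : aG ax f hf hff * LL ax f hf hff g * aG ax f hf hff = LL ax f hf hff g := by
      calc aG ax f hf hff * LL ax f hf hff g * aG ax f hf hff = aG ax f hf hff * (LL ax f hf hff g * aG ax f hf hff) := by group
        _ = aG ax f hf hff * (aG ax f hf hff * LL ax f hf hff g) := by rw [aG_comm]
        _ = (aG ax f hf hff * aG ax f hf hff) * LL ax f hf hff g := by group
        _ = _ := by rw [aG_sq]; group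
    rw [e1]
    exact (mem_LLT ax f hf hff).mpr ⟨g, hg, rfl⟩

/-- Powers of `a` times an element of `L`. -/
lemma a_mul_pow (g : SL(2, F)) (n : ℕ) : (aG ax f hf hff * LL ax f hf hff g) ^ n = aG ax f hf hff ^ n * LL ax f hf hff (g ^ n) := by
  have h : Commute (aG ax f hf hff) (LL ax f hf hff g) := aG_comm ax f hf hff g
  rw [h.mul_pow, map_pow]

lemma a_pow_odd {n : ℕ} (hn : Odd n) : aG ax f hf hff ^ n = aG ax f hf hff := by
  obtain ⟨r, rfl⟩ := hn
  rw [pow_succ, pow_mul, pow_two, aG_sq, one_pow, one_mul]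

lemma a_pow_even (n : ℕ) : aG ax f hf hff ^ (2 * n) = 1 := by
  rw [pow_mul, pow_two, aG_sq, one_pow]

/-- Odd order elements of `M` lie in the image of the torus. -/
lemma odd_mem {w : ↥(twistedG2 F e)} (hw : w ∈ MM ax f hf hff) {n : ℕ} (hn : Odd n) (hwn : w ^ n = 1) :
    ∃ g ∈ TT F, w = LL ax f hf hff g := by
  obtain ⟨g, hg, rfl | rfl⟩ := hw
  · exact ⟨g, hg, rfl⟩
  · exfalso
    rw [a_mul_pow ax f hf hff, a_pow_odd ax f hf hff hn] at hwn
    have h1 := eq_inv_of_mul_eq_one_left hwn
    rw [← map_inv] at h1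
    exact aG_not_mem ax f hf hff _ h1.symm

/-- The squares in the torus. -/
lemma TT_sq {g : SL(2, F)} (hg : g ∈ TT F) (h : g * g = 1 ∨ g * g = mOne) :
    g = 1 ∨ g = mOne ∨ g = iM ∨ g = mOne * iM := by
  obtain ⟨h1, h2⟩ := mem_TT.mp hg
  have hd := TT_det hg
  have hthree : (3 : F) = 0 := three_eq_zero
  have h01 : g.1 0 0 * g.1 0 1 + g.1 0 1 * g.1 0 0 = 0 := by
    have e1 : (g * g).1 0 1 = g.1 0 0 * g.1 0 1 + g.1 0 1 * g.1 1 1 := mul_entry g g 0 1
    rw [h1] at e1
    rcases h with h | h
    · rw [h] at e1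
      simpa using e1.symm
    · rw [h] at e1
      simpa [mOne] using e1.symm
  have htwo : (2 : F) ≠ 0 := by
    intro h
    have : (1 : F) = 0 := by linear_combination hthree - h
    exact one_ne_zero this
  have h02 : g.1 0 0 * g.1 0 1 = 0 := by
    have : 2 * (g.1 0 0 * g.1 0 1) = 0 := by linear_combination h01
    exact (mul_eq_zero.mp this).resolve_left htwo
  have hmem1 : (mOne * iM : SL(2, F)) ∈ TT F := Subgroup.mul_mem _ mOne_mem_TT iM_mem_TT
  rcases mul_eq_zero.mp h02 with h0 | h0
  · -- `x = 0`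
    have hy : g.1 0 1 * g.1 0 1 = 1 := by
      rw [h0] at hd
      linear_combination hd
    rcases mul_self_eq_one_iff.mp hy with hy' | hy'
    · right; right; left
      apply TT_ext hg iM_mem_TT
      · rw [h0]; rfl
      · rw [hy']; rfl
    · right; right; right
      apply TT_ext hg hmem1
      · rw [h0, mul_entry]
        simp [mOne, iM]
      · rw [hy', mul_entry]
        simp [mOne, iM]
  · have hx : g.1 0 0 * g.1 0 0 = 1 := by
      rw [h0] at hd
      linear_combination hd
    rcases mul_self_eq_one_iff.mp hx with hx' | hx'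
    · left
      apply TT_ext hg (Subgroup.one_mem _)
      · rw [hx']; simp
      · rw [h0]; simp
    · right; left
      apply TT_ext hg mOne_mem_TT
      · rw [hx']; rfl
      · rw [h0]; simp [mOne]

/-- The involutions of `M`. -/
lemma mem_V {x : ↥(twistedG2 F e)} : (x ∈ MM ax f hf hff ∧ x * x = 1) ↔
    x = 1 ∨ x = aG ax f hf hff ∨ x = LL ax f hf hff iM ∨ x = aG ax f hf hff * LL ax f hf hff iM := by
  have S := isE8 ax f hf hff
  have hm := LL_mOne ax f hf hff
  have hLL : ∀ g ∈ TT F, LL ax f hf hff g * LL ax f hf hff g = 1 → LL ax f hf hff g = 1 ∨ LL ax f hf hff g = LL ax f hf hff iM := by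
    intro g hg h
    rw [← map_mul] at h
    rcases TT_sq ax f hf hff hg ((LL_eq_one_iff ax f hf hff).mp h) with rfl | rfl | rfl | rfl
    · left; exact map_one _
    · left; exact hm
    · right; rfl
    · right
      rw [map_mul, hm, one_mul]
  constructor
  · rintro ⟨⟨g, hg, rfl | rfl⟩, hx⟩
    · rcases hLL g hg hx with h | h
      · left; exact h
      · right; right; left; exact h
    · have e1 : aG ax f hf hff * LL ax f hf hff g * (aG ax f hf hff * LL ax f hf hff g) = LL ax f hf hff g * LL ax f hf hff g := by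
        calc aG ax f hf hff * LL ax f hf hff g * (aG ax f hf hff * LL ax f hf hff g)
            = aG ax f hf hff * (LL ax f hf hff g * aG ax f hf hff) * LL ax f hf hff g := by group
          _ = aG ax f hf hff * (aG ax f hf hff * LL ax f hf hff g) * LL ax f hf hff g := by rw [aG_comm]
          _ = (aG ax f hf hff * aG ax f hf hff) * (LL ax f hf hff g * LL ax f hf hff g) := by group
          _ = _ := by rw [aG_sq]; group
      rw [e1] at hx
      rcases hLL g hg hx with h | h
      · right; left
        rw [h, mul_one]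
      · right; right; right
        rw [h]
  · rintro (rfl | rfl | rfl | rfl)
    · exact ⟨Subgroup.one_mem _, mul_one _⟩
    · exact ⟨a_mem_MM ax f hf hff, aG_sq ax f hf hff⟩
    · exact ⟨b_mem_MM ax f hf hff, S.bb⟩
    · refine ⟨Subgroup.mul_mem _ (a_mem_MM ax f hf hff) (b_mem_MM ax f hf hff), ?_⟩
      calc aG ax f hf hff * LL ax f hf hff iM * (aG ax f hf hff * LL ax f hf hff iM)
          = aG ax f hf hff * (LL ax f hf hff iM * aG ax f hf hff) * LL ax f hf hff iM := by group
        _ = aG ax f hf hff * (aG ax f hf hff * LL ax f hf hff iM) * LL ax f hf hff iM := by rw [aG_comm]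
        _ = (aG ax f hf hff * aG ax f hf hff) * (LL ax f hf hff iM * LL ax f hf hff iM) := by group
        _ = _ := by rw [aG_sq, S.bb]; group

/-- The number of involutions of `M`, with `1`. -/
lemma card_V [Finite F] : {x : ↥(twistedG2 F e) | x ∈ MM ax f hf hff ∧ x * x = 1}.ncard = 4 := by
  have S := isE8 ax f hf hff
  have e1 : {x : ↥(twistedG2 F e) | x ∈ MM ax f hf hff ∧ x * x = 1} =
      {1, aG ax f hf hff, LL ax f hf hff iM, aG ax f hf hff * LL ax f hf hff iM} := by
    ext x
    simp only [Set.mem_setOf_eq, Set.mem_insert_iff, Set.mem_singleton_iff]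
    exact mem_V ax f hf hff
  rw [e1]
  set a := aG ax f hf hff with ha
  set b := LL ax f hf hff iM with hb
  have h1 : a * b ≠ 1 := by
    intro h
    have := S.ind true true false (by simpa using h)
    simp at this
  have h2 : a ≠ a * b := by
    intro h
    apply S.b_ne
    have : a * 1 = a * b := by rw [mul_one]; exact h
    exact (mul_left_cancel this).symm
  have h3 : b ≠ a * b := by
    intro h
    apply S.a_ne
    have : 1 * b = a * b := by rw [one_mul]; exact h
    exact (mul_right_cancel this).symm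
  rw [Set.ncard_insert_of_notMem, Set.ncard_insert_of_notMem, Set.ncard_insert_of_notMem, Set.ncard_singleton]
  · simp only [Set.mem_singleton_iff]
    exact h3
  · simp only [Set.mem_insert_iff, Set.mem_singleton_iff, not_or]
    exact ⟨S.b_ne_a.symm, h2⟩
  · simp only [Set.mem_insert_iff, Set.mem_singleton_iff, not_or]
    exact ⟨S.a_ne.symm, S.b_ne.symm, h1.symm⟩

include hf hff in
/-- The elements of the torus are not fixed by `f` unless they are small. -/
lemma not_fixed {g : SL(2, F)} (hg : g ∈ TT F) (hfx : f (g.1 0 0) = g.1 0 0) :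
    g = 1 ∨ g = mOne ∨ g = iM ∨ g = mOne * iM := by
  have hd := TT_det hg
  have hthree : (3 : F) = 0 := three_eq_zero
  set x := g.1 0 0 with hx
  set y := g.1 0 1 with hy
  have h1 := hff x
  rw [hfx, hfx] at h1
  have h2 : x * ((x - 1) * (x + 1)) = 0 := by linear_combination h1
  have hmem1 : (mOne * iM : SL(2, F)) ∈ TT F := Subgroup.mul_mem _ mOne_mem_TT iM_mem_TT
  rcases mul_eq_zero.mp h2 with h0 | h0
  · have hy1 : y * y = 1 := by
      rw [h0] at hd
      linear_combination hd
    rcases mul_self_eq_one_iff.mp hy1 with hy' | hy'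
    · right; right; left
      apply TT_ext hg iM_mem_TT
      · show x = _
        rw [h0]; rfl
      · show y = _
        rw [hy']; rfl
    · right; right; right
      apply TT_ext hg hmem1
      · show x = _
        rw [h0, mul_entry]
        simp [mOne, iM]
      · show y = _
        rw [hy', mul_entry]
        simp [mOne, iM]
  · have hx2 : x = 1 ∨ x = -1 := by
      rcases mul_eq_zero.mp h0 with h | h
      · left; linear_combination h
      · right; linear_combination h
    have hy0 : y = 0 := by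
      have : y * y = 0 := by
        rcases hx2 with h | h <;> rw [h] at hd <;> linear_combination hd
      exact mul_self_eq_zero.mp this
    rcases hx2 with h | h
    · left
      apply TT_ext hg (Subgroup.one_mem _)
      · show x = _
        rw [h]; simp
      · show y = _
        rw [hy0]; simp
    · right; left
      apply TT_ext hg mOne_mem_TT
      · show x = _
        rw [h]; rfl
      · show y = _
        rw [hy0]; simp [mOne]

/-- Elements commuting up to sign with a torus element. -/
lemma comm_torus {g u : SL(2, F)} (hg : g ∈ TT F) (hfx : f (g.1 0 0) ≠ g.1 0 0)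
    (h : u * g = g * u ∨ u * g = mOne * (g * u)) : u ∈ TT F := by
  have hd := TT_det hg
  have hthree : (3 : F) = 0 := three_eq_zero
  obtain ⟨h11, h10⟩ := mem_TT.mp hg
  set x := g.1 0 0 with hx
  set y := g.1 0 1 with hy
  have htwo : (2 : F) ≠ 0 := by
    intro h
    have : (1 : F) = 0 := by linear_combination hthree - h
    exact one_ne_zero this
  have hx0 : x ≠ 0 := by
    intro h0
    apply hfx
    rw [h0, map_zero]
  have hy0 : y ≠ 0 := by
    intro h0
    apply hfx
    have h5 : x * x = 1 := by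
      rw [h0] at hd
      linear_combination hd
    rcases mul_self_eq_one_iff.mp h5 with h6 | h6
    · rw [h6, map_one]
    · rw [h6, map_neg, map_one]
  have hdetu := Cfsg.Agent.Lib.Chev.SL2.det_eq u
  set p := u.1 0 0 with hp
  set q := u.1 0 1 with hq
  set r := u.1 1 0 with hr
  set s := u.1 1 1 with hs
  have eL : ∀ a b, (u * g).1 a b = u.1 a 0 * g.1 0 b + u.1 a 1 * g.1 1 b := fun a b => mul_entry u g a b
  have eR : ∀ a b, (g * u).1 a b = g.1 a 0 * u.1 0 b + g.1 a 1 * u.1 1 b := fun a b => mul_entry g u a b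
  have hmo : ∀ (w : SL(2, F)) (a b : Fin 2), (mOne * w).1 a b = -(w.1 a b) := by
    intro w a b
    rw [mul_entry]
    fin_cases a <;> simp [mOne]
  rcases h with h | h
  · have E : ∀ a b, (u * g).1 a b = (g * u).1 a b := fun a b => by rw [h]
    have e00 : p * x + q * (-y) = x * p + y * r := by
      have := E 0 0
      rw [eL, eR, h10] at this
      exact this
    have e01 : p * y + q * x = x * q + y * s := by
      have := E 0 1
      rw [eL, eR, h11] at this
      exact this
    rw [mem_TT]
    constructor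
    · have : y * (p - s) = 0 := by linear_combination e01
      have h5 := (mul_eq_zero.mp this).resolve_left hy0
      show s = p
      linear_combination -h5
    · have : y * (r + q) = 0 := by linear_combination -e00
      have h5 := (mul_eq_zero.mp this).resolve_left hy0
      show r = -q
      linear_combination h5
  · exfalso
    have E : ∀ a b, (u * g).1 a b = -(g * u).1 a b := fun a b => by rw [h, hmo]
    have e00 : p * x + q * (-y) = -(x * p + y * r) := by
      have := E 0 0
      rw [eL, eR, h10] at this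
      exact this
    have e01 : p * y + q * x = -(x * q + y * s) := by
      have := E 0 1
      rw [eL, eR, h11] at this
      exact this
    have e10 : r * x + s * (-y) = -((-y) * p + x * r) := by
      have := E 1 0
      rw [eL, eR, h10, h11] at this
      exact this
    have e11 : r * y + s * x = -((-y) * q + x * s) := by
      have := E 1 1
      rw [eL, eR, h10, h11] at this
      exact this
    have hps : p = s := by
      have : 2 * x * (p - s) = 0 := by linear_combination e00 - e11
      have h5 := (mul_eq_zero.mp this).resolve_left (mul_ne_zero htwo hx0)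
      linear_combination h5
    have hqr : r = -q := by
      have : 2 * x * (q + r) = 0 := by linear_combination e01 + e10
      have h5 := (mul_eq_zero.mp this).resolve_left (mul_ne_zero htwo hx0)
      linear_combination h5
    rw [← hps, hqr] at hdetu
    rw [hqr] at e00
    rw [← hps] at e01
    have h1 : 2 * p = 0 := by
      have : 2 * p * (x * x + y * y) = 0 := by linear_combination x * e00 + y * e01
      rw [hd, mul_one] at this
      exact this
    have h2 : 2 * q = 0 := by
      have : 2 * q * (x * x + y * y) = 0 := by linear_combination x * e01 - y * e00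
      rw [hd, mul_one] at this
      exact this
    have hp0 := (mul_eq_zero.mp h1).resolve_left htwo
    have hq0 := (mul_eq_zero.mp h2).resolve_left htwo
    rw [hp0, hq0] at hdetu
    simp at hdetu

variable (hns : ∀ l : Fˣ, (∃ ν : Fˣ, l = ν ^ 2) ∨ ∃ ν : Fˣ, l = -ν ^ 2)

include hns

/-- Centralisers of odd order elements of `M`. -/
theorem MM_C [Finite F] (hneg : ∀ c : F, c * c ≠ -1) {w : ↥(twistedG2 F e)} (hw : w ∈ MM ax f hf hff)
    (hodd : Odd (orderOf w)) (hw1 : w ≠ 1) : Subgroup.centralizer {w} = MM ax f hf hff := by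
  have S := isE8 ax f hf hff
  have hm := LL_mOne ax f hf hff
  obtain ⟨g, hg, rfl⟩ := odd_mem ax f hf hff hw hodd (pow_orderOf_eq_one w)
  have hfx : f (g.1 0 0) ≠ g.1 0 0 := by
    intro hfx
    have hbo : ¬ Odd (orderOf (LL ax f hf hff iM)) := by
      haveI : Fact (Nat.Prime 2) := ⟨Nat.prime_two⟩
      rw [orderOf_eq_prime (by rw [pow_two]; exact S.bb) S.b_ne]
      decide
    rcases not_fixed ax f hf hff hg hfx with rfl | rfl | rfl | rfl
    · exact hw1 (map_one _)
    · exact hw1 hm
    · exact hbo hodd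
    · rw [map_mul, hm, one_mul] at hodd
      exact hbo hodd
  apply le_antisymm
  · intro z hz
    have hz' : z * LL ax f hf hff g = LL ax f hf hff g * z := Subgroup.mem_centralizer_singleton_iff.mp hz
    have hza := comm_a_of_comm ax f hf hff hg hfx hz'
    obtain ⟨u, hu | hu⟩ := C_le_AL ax f hf hff hns hza.symm
    · have h1 : LL ax f hf hff (u * g) = LL ax f hf hff (g * u) := by
        rw [map_mul, map_mul, ← hu]
        exact hz'
      exact ⟨u, comm_torus ax f hf hff hg hfx (LL_eq_iff ax f hf hff h1), Or.inl hu⟩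
    · have h1 : LL ax f hf hff (u * g) = LL ax f hf hff (g * u) := by
        rw [map_mul, map_mul]
        apply mul_left_cancel (a := aG ax f hf hff)
        calc aG ax f hf hff * (LL ax f hf hff u * LL ax f hf hff g)
            = (aG ax f hf hff * LL ax f hf hff u) * LL ax f hf hff g := by group
          _ = z * LL ax f hf hff g := by rw [hu]
          _ = LL ax f hf hff g * z := hz'
          _ = LL ax f hf hff g * (aG ax f hf hff * LL ax f hf hff u) := by rw [hu]
          _ = (LL ax f hf hff g * aG ax f hf hff) * LL ax f hf hff u := by group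
          _ = (aG ax f hf hff * LL ax f hf hff g) * LL ax f hf hff u := by rw [aG_comm]
          _ = _ := by group
      exact ⟨u, comm_torus ax f hf hff hg hfx (LL_eq_iff ax f hf hff h1), Or.inr hu⟩
  · intro z hz
    exact Subgroup.mem_centralizer_singleton_iff.mpr (MM_comm ax f hf hff hneg hz hw)

end Twist

end Cfsg.Agent.Lib.ReeG2.Con3
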