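import Cfsg.Agent.Lib.ReeG2.Con3

/-!
# The data of the abstract Ree-type group for `G¹`: the normaliser of `M`
-/

set_option autoImplicit false
set_option linter.unusedTactic false
set_option linter.unreachableTactic false
set_option linter.unusedSectionVars false
set_option linter.unusedVariables false
set_option linter.ambiguousOpen false
set_option linter.dupNamespace false
set_option maxHeartbeats 2000000

namespace Cfsg.Agent.Lib.ReeG2.Con4

open scoped MatrixGroups Matrix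
open Cfsg Lie ChevalleyDatum
open Cfsg.Agent.Lib.Chev
open Tables Tables2 Tables3 Raise Basic AxBasic Torus Products Products2 Mono1 Mono2 Mono3 Bn ChevSimple
open Cfsg.Agent.Lib.Twisted.Fact Cfsg.Agent.Lib.Twisted.Bruhat Cfsg.Agent.Lib.Twisted.Tw
open Cfsg.Agent.Lib.Twisted.Struct Cfsg.Agent.Lib.Twisted.Check Cfsg.Agent.Lib.Twisted.Ortho
open Cfsg.Agent.Lib.ReeG2.Blocks Cfsg.Agent.Lib.ReeG2.Tw Cfsg.Agent.Lib.ReeG2.Blk7 Cfsg.Agent.Lib.ReeG2.Unip
open Cfsg.Agent.Lib.ReeG2.RTD Cfsg.Agent.Lib.ReeG2.H1 Cfsg.Agent.Lib.ReeG2.Rank1 Cfsg.Agent.Lib.ReeG2.Str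
open Cfsg.Agent.Lib.ReeG2.Fini Cfsg.Agent.Lib.ReeG2.Fini2 Cfsg.Agent.Lib.ReeG2.L Cfsg.Agent.Lib.ReeG2.Rank1b
open Cfsg.Agent.Lib.ReeG2.L2 Cfsg.Agent.Lib.ReeG2.L3 Cfsg.Agent.Lib.ReeG2.E8 Cfsg.Agent.Lib.ReeG2.L4 Cfsg.Agent.Lib.ReeG2.L5
open Cfsg.Agent.Lib.ReeG2.T Cfsg.Agent.Lib.ReeG2.Con1 Cfsg.Agent.Lib.ReeG2.Con2 Cfsg.Agent.Lib.ReeG2.Con3
open Cfsg.Agent.Lib.Chev.SL2 (upM loM)

theorem num9 : (Sn ^ 3 * Tn * Sn ^ 4) * Dn = Dn * Bn * (Sn ^ 3 * Tn * Sn ^ 4) := by decide +kernel
theorem num10 : (Sn ^ 3 * Tn * Sn ^ 4) * Bn = Dn * (Sn ^ 3 * Tn * Sn ^ 4) := by decide +kernel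
theorem num11 : (Sn ^ 3 * Tn * Sn ^ 4) ^ 3 = 1 := by decide +kernel

section Twist

variable {F : Type*} [Field F] [CharP F 3] (ax : Ax chevG2 F)
variable (f : F ≃+* F) {e : ℕ} (hf : ∀ t, f t = t ^ e) (hff : ∀ t, f (f t) ^ 3 = t)

/-- The element of order three permuting `a`, `b`, `ab`. -/
def dG : ↥(twistedG2 F e) := sG ax f hf ^ 3 * tG ax f hf * sG ax f hf ^ 4

include ax hf hff

lemma pG_d : pG ax f hf hff (dG ax f hf) = (Sn ^ 3 * Tn * Sn ^ 4).map (φ₃ F) := by
  rw [dG, map_mul, map_mul, map_pow, map_pow, pG_s, pG_t, hmm, hmm, hpow, hpow]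

lemma rel_d_a : dG ax f hf * aG ax f hf hff = aG ax f hf hff * LL ax f hf hff iM * dG ax f hf := by
  apply pG_inj ax f hf hff
  rw [map_mul, map_mul, map_mul, pG_d, pG_a, pG_b, ← hmm, ← hmm, ← hmm, num9]

lemma rel_d_b : dG ax f hf * LL ax f hf hff iM = aG ax f hf hff * dG ax f hf := by
  apply pG_inj ax f hf hff
  rw [map_mul, map_mul, pG_d, pG_a, pG_b, ← hmm, ← hmm, num10]

lemma d_pow : dG ax f hf ^ 3 = 1 := by
  apply pG_inj ax f hf hff
  rw [map_pow, pG_d, ← hpow, num11, map_one]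
  ext a b
  fin_cases a <;> fin_cases b <;> simp [Matrix.one_apply]

lemma d_ne : dG ax f hf ≠ 1 := by
  intro h
  have h1 := rel_d_b ax f hf hff
  rw [h, one_mul, mul_one] at h1
  exact (isE8 ax f hf hff).b_ne_a h1

/-- The cyclic subgroup of order `(q + 1)/4`. -/
theorem exists_A [Finite F] (hneg : ∀ c : F, c * c ≠ -1) {k : ℕ} (hk : Nat.card F + 1 = 4 * k) (hodd : Odd k) :
    ∃ A : Subgroup ↥(twistedG2 F e), IsCyclic A ∧ Nat.card A = k ∧ ∀ x, x ∈ A ↔ x ∈ MM ax f hf hff ∧ x ^ k = 1 := by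
  haveI hc := isCyclic_LLT ax f hf hff hneg
  obtain ⟨z, hz⟩ := IsCyclic.exists_generator (α := LLT ax f hf hff)
  have hcard := card_LLT ax f hf hff hneg
  have hcard' : Nat.card (LLT ax f hf hff) = 2 * k := by omega
  have hord : orderOf (z : ↥(twistedG2 F e)) = 2 * k := by
    rw [Subgroup.orderOf_coe, orderOf_eq_card_of_forall_mem_zpowers hz, hcard']
  have hle : Subgroup.zpowers ((z : ↥(twistedG2 F e)) ^ 2) ≤ LLT ax f hf hff := by
    rw [Subgroup.zpowers_le]
    exact pow_mem z.2 2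
  have hcA : Nat.card (Subgroup.zpowers ((z : ↥(twistedG2 F e)) ^ 2)) = k := by
    rw [Nat.card_zpowers, orderOf_pow' _ (by norm_num), hord, Nat.gcd_eq_right (dvd_mul_right 2 k),
      Nat.mul_div_cancel_left _ (by norm_num)]
  refine ⟨Subgroup.zpowers ((z : ↥(twistedG2 F e)) ^ 2), inferInstance, hcA, ?_⟩
  intro x
  constructor
  · intro hx
    refine ⟨LLT_le_MM ax f hf hff (hle hx), ?_⟩
    rw [← hcA]
    exact Cfsg.Agent.Lib.ReeG2.Ab4.pow_card_sub hx
  · rintro ⟨hx, hxk⟩
    obtain ⟨g, hg, rfl⟩ := odd_mem ax f hf hff hx hodd hxk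
    apply Cfsg.Agent.Lib.ReeG2.Ab4.mem_of_pow_card hc hle ((mem_LLT ax f hf hff).mpr ⟨g, hg, rfl⟩)
    rw [hcA]
    exact hxk

/-- `c` is not in `M`. -/
lemma c_not_mem : LL ax f hf hff jM ∉ MM ax f hf hff := by
  have hj : (jM : SL(2, F)) ∉ TT F := by
    rw [mem_TT]
    rintro ⟨h1, -⟩
    have h2 : (-1 : F) = 1 := h1
    exact neg_one_ne_one h2
  rintro ⟨g, hg, h | h⟩
  · rcases LL_eq_iff ax f hf hff h with h1 | h1
    · exact hj (h1 ▸ hg)
    · exact hj (h1 ▸ Subgroup.mul_mem _ mOne_mem_TT hg)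
  · apply aG_not_mem ax f hf hff (jM * g⁻¹)
    rw [map_mul, map_inv, h]
    group

variable (hns : ∀ l : Fˣ, (∃ ν : Fˣ, l = ν ^ 2) ∨ ∃ ν : Fˣ, l = -ν ^ 2)

include hns

/-- The centraliser of `a` and `b`. -/
theorem CV_cases {z : ↥(twistedG2 F e)} (ha : z * aG ax f hf hff = aG ax f hf hff * z)
    (hb : z * LL ax f hf hff iM = LL ax f hf hff iM * z) :
    z ∈ MM ax f hf hff ∨ (z * LL ax f hf hff jM ∈ MM ax f hf hff ∧ z * z = 1) := by
  have hm := LL_mOne ax f hf hff
  have hthree : (3 : F) = 0 := three_eq_zero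
  obtain ⟨u, hu⟩ := C_le_AL ax f hf hff hns ha.symm
  have hc : LL ax f hf hff (u * iM) = LL ax f hf hff (iM * u) := by
    rw [map_mul, map_mul]
    rcases hu with rfl | rfl
    · exact hb
    · apply mul_left_cancel (a := aG ax f hf hff)
      calc aG ax f hf hff * (LL ax f hf hff u * LL ax f hf hff iM)
          = aG ax f hf hff * LL ax f hf hff u * LL ax f hf hff iM := by group
        _ = LL ax f hf hff iM * (aG ax f hf hff * LL ax f hf hff u) := hb
        _ = (LL ax f hf hff iM * aG ax f hf hff) * LL ax f hf hff u := by group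
        _ = (aG ax f hf hff * LL ax f hf hff iM) * LL ax f hf hff u := by rw [aG_comm]
        _ = _ := by group
  rcases LL_eq_iff ax f hf hff hc with h | h
  · left
    have hu' : u ∈ TT F := Subgroup.mem_centralizer_singleton_iff.mpr h
    exact ⟨u, hu', hu⟩
  · right
    have hmo : ∀ (w : SL(2, F)) (a b : Fin 2), (mOne * w).1 a b = -(w.1 a b) := by
      intro w a b
      rw [mul_entry]
      fin_cases a <;> simp [mOne]
    have i00 : (iM : SL(2, F)).1 0 0 = 0 := rfl
    have i01 : (iM : SL(2, F)).1 0 1 = 1 := rfl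
    have i10 : (iM : SL(2, F)).1 1 0 = -1 := rfl
    have i11 : (iM : SL(2, F)).1 1 1 = 0 := rfl
    have j00 : (jM : SL(2, F)).1 0 0 = 1 := rfl
    have j01 : (jM : SL(2, F)).1 0 1 = 1 := rfl
    have j10 : (jM : SL(2, F)).1 1 0 = 1 := rfl
    have j11 : (jM : SL(2, F)).1 1 1 = -1 := rfl
    have E : ∀ a b, (u * iM).1 a b = -(iM * u).1 a b := fun a b => by rw [h, hmo]
    have e00 := E 0 0
    have e01 := E 0 1
    rw [mul_entry, mul_entry, i00, i01, i10] at e00
    rw [mul_entry, mul_entry, i00, i01, i11] at e01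
    have hdet := Cfsg.Agent.Lib.Chev.SL2.det_eq u
    have hrq : u.1 1 0 = u.1 0 1 := by linear_combination e00
    have hsp : u.1 1 1 = -u.1 0 0 := by linear_combination e01
    have huj : u * jM ∈ TT F := by
      rw [mem_TT, mul_entry, mul_entry, mul_entry, mul_entry, j00, j01, j10, j11, hrq, hsp]
      constructor <;> ring
    have hsq : u * u = mOne := by
      apply Subtype.ext
      rw [hrq, hsp] at hdet
      ext a b
      show (u * u).1 a b = (mOne : SL(2, F)).1 a b
      rw [mul_entry]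
      fin_cases a <;> fin_cases b
      · show u.1 0 0 * u.1 0 0 + u.1 0 1 * u.1 1 0 = -1
        rw [hrq]
        linear_combination -hdet
      · show u.1 0 0 * u.1 0 1 + u.1 0 1 * u.1 1 1 = 0
        rw [hsp]
        ring
      · show u.1 1 0 * u.1 0 0 + u.1 1 1 * u.1 1 0 = 0
        rw [hrq, hsp]
        ring
      · show u.1 1 0 * u.1 0 1 + u.1 1 1 * u.1 1 1 = -1
        rw [hrq, hsp]
        linear_combination -hdet
    have hLL : LL ax f hf hff u * LL ax f hf hff u = 1 := by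
      rw [← map_mul, hsq, hm]
    rcases hu with rfl | rfl
    · exact ⟨⟨u * jM, huj, Or.inl (map_mul _ _ _).symm⟩, hLL⟩
    · refine ⟨⟨u * jM, huj, Or.inr ?_⟩, ?_⟩
      · rw [map_mul, mul_assoc]
      · calc aG ax f hf hff * LL ax f hf hff u * (aG ax f hf hff * LL ax f hf hff u)
            = aG ax f hf hff * (LL ax f hf hff u * aG ax f hf hff) * LL ax f hf hff u := by group
          _ = aG ax f hf hff * (aG ax f hf hff * LL ax f hf hff u) * LL ax f hf hff u := by rw [aG_comm]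
          _ = (aG ax f hf hff * aG ax f hf hff) * (LL ax f hf hff u * LL ax f hf hff u) := by group
          _ = _ := by rw [aG_sq, hLL]; group

/-- An element conjugating an odd order element of `M` into the centraliser of `a` and `b` normalises `M`. -/
lemma mem_N_of_conj [Finite F] (hneg : ∀ c : F, c * c ≠ -1) {w x : ↥(twistedG2 F e)} (hw : w ∈ MM ax f hf hff)
    (hodd : Odd (orderOf w)) (hw1 : w ≠ 1)
    (ha : (x * w * x⁻¹) * aG ax f hf hff = aG ax f hf hff * (x * w * x⁻¹))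
    (hb : (x * w * x⁻¹) * LL ax f hf hff iM = LL ax f hf hff iM * (x * w * x⁻¹)) :
    x ∈ Subgroup.normalizer ((MM ax f hf hff : Subgroup _) : Set ↥(twistedG2 F e)) := by
  have hodd' : Odd (orderOf (x * w * x⁻¹)) := by
    rwa [Cfsg.Agent.Lib.ReeG2.Ab4.order_conj]
  have hy1 : x * w * x⁻¹ ≠ 1 := by
    intro h
    apply hw1
    have e : w = x⁻¹ * (x * w * x⁻¹) * x := by group
    rw [e, h]
    group
  have hyM : x * w * x⁻¹ ∈ MM ax f hf hff := by
    rcases CV_cases ax f hf hff hns ha hb with h | ⟨-, h⟩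
    · exact h
    · exfalso
      have h2 : orderOf (x * w * x⁻¹) ∣ 2 := orderOf_dvd_of_pow_eq_one (by rw [pow_two, h])
      have h3 : orderOf (x * w * x⁻¹) = 1 := by
        have hle := Nat.le_of_dvd (by norm_num) h2
        have hpos := orderOf_pos (x * w * x⁻¹)
        obtain ⟨r, hr⟩ := hodd'
        omega
      exact hy1 (orderOf_eq_one_iff.mp h3)
  exact Cfsg.Agent.Lib.ReeG2.Ab2.normalizer_of_centralizer (MM_C ax f hf hff hns hneg hw hodd hw1)
    (MM_C ax f hf hff hns hneg hyM hodd' hy1)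

/-- The order of the normaliser of `M`. -/
theorem card_N_MM [Finite F] (hneg : ∀ c : F, c * c ≠ -1) {k k' : ℕ} (hk : Nat.card F + 1 = 4 * k) (hodd : Odd k)
    (hk3 : ¬ 3 ∣ k) (hk1 : 1 < k) (hcard : Nat.card ↥(twistedG2 F e) = 8 * k') (hk' : Odd k') :
    Nat.card (Subgroup.normalizer ((MM ax f hf hff : Subgroup _) : Set ↥(twistedG2 F e))) = 6 * (Nat.card F + 1) := by
  have S := isE8 ax f hf hff
  set a := aG ax f hf hff with ha
  set b := LL ax f hf hff iM with hb
  set c := LL ax f hf hff jM with hc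
  set M := MM ax f hf hff with hM
  set N := Subgroup.normalizer ((M : Subgroup _) : Set ↥(twistedG2 F e)) with hN
  have haM : a ∈ M := a_mem_MM ax f hf hff
  have hbM : b ∈ M := b_mem_MM ax f hf hff
  -- an odd order element of `M`
  obtain ⟨A, -, hcA, hA⟩ := exists_A ax f hf hff hneg hk hodd
  obtain ⟨w, hwM, hwodd, hw1⟩ : ∃ w ∈ M, Odd (orderOf w) ∧ w ≠ 1 := by
    have h1 : 1 < Nat.card A := by rw [hcA]; exact hk1
    haveI : Nontrivial A := Finite.one_lt_card_iff_nontrivial.mp h1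
    obtain ⟨w, hw⟩ := exists_ne (1 : A)
    have hw1 : (w : ↥(twistedG2 F e)) ≠ 1 := fun h => hw (Subtype.ext h)
    obtain ⟨h2, h3⟩ := (hA w).mp w.2
    exact ⟨w, h2, Odd.of_dvd_nat hodd (orderOf_dvd_of_pow_eq_one h3), hw1⟩
  have hwa : w * a = a * w := MM_comm ax f hf hff hneg hwM haM
  have hwb : w * b = b * w := MM_comm ax f hf hff hneg hwM hbM
  -- the centraliser of `a`, `b`
  let CV : Subgroup ↥(twistedG2 F e) := Subgroup.centralizer {a} ⊓ Subgroup.centralizer {b}
  have memCV : ∀ {z}, z ∈ CV ↔ z * a = a * z ∧ z * b = b * z := by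
    intro z
    show z ∈ Subgroup.centralizer {a} ∧ z ∈ Subgroup.centralizer {b} ↔ _
    rw [Subgroup.mem_centralizer_singleton_iff, Subgroup.mem_centralizer_singleton_iff]
  have hCVN : CV ≤ N := by
    intro z hz
    obtain ⟨h1, h2⟩ := memCV.mp hz
    apply mem_N_of_conj ax f hf hff hns hneg hwM hwodd hw1
    · calc z * w * z⁻¹ * a = z * w * (z⁻¹ * a) := by group
        _ = z * w * (a * z⁻¹) := by
          rw [(show z⁻¹ * a = a * z⁻¹ from (Commute.inv_left h1).eq)]
        _ = z * (w * a) * z⁻¹ := by group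
        _ = z * (a * w) * z⁻¹ := by rw [hwa]
        _ = (z * a) * w * z⁻¹ := by group
        _ = a * (z * w * z⁻¹) := by rw [h1]; group
    · calc z * w * z⁻¹ * b = z * w * (z⁻¹ * b) := by group
        _ = z * w * (b * z⁻¹) := by
          rw [(show z⁻¹ * b = b * z⁻¹ from (Commute.inv_left h2).eq)]
        _ = z * (w * b) * z⁻¹ := by group
        _ = z * (b * w) * z⁻¹ := by rw [hwb]
        _ = (z * b) * w * z⁻¹ := by group
        _ = b * (z * w * z⁻¹) := by rw [h2]; group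
  have hcardCV : Nat.card CV = 2 * (Nat.card F + 1) := by
    rw [← card_MM ax f hf hff hneg]
    apply card_of_index_two (H := M) (K := CV) (c := c)
    · intro z hz
      exact memCV.mpr ⟨MM_comm ax f hf hff hneg hz haM, MM_comm ax f hf hff hneg hz hbM⟩
    · exact memCV.mpr ⟨(aG_comm ax f hf hff jM).symm, S.bc.symm⟩
    · exact c_not_mem ax f hf hff
    · intro z hz hzM
      obtain ⟨h1, h2⟩ := memCV.mp hz
      exact (CV_cases ax f hf hff hns h1 h2).resolve_left hzM |>.1
  -- the conjugates of `a` and `b`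
  have hconjV : ∀ x ∈ N, ∀ y ∈ M, y * y = 1 → y ≠ 1 → x * y * x⁻¹ = a ∨ x * y * x⁻¹ = b ∨ x * y * x⁻¹ = a * b := by
    intro x hx y hy hyy hy1
    have h1 : x * y * x⁻¹ ∈ M := (Subgroup.mem_normalizer_iff.mp hx y).mp hy
    have h2 : x * y * x⁻¹ * (x * y * x⁻¹) = 1 := by
      have e : x * y * x⁻¹ * (x * y * x⁻¹) = x * (y * y) * x⁻¹ := by group
      rw [e, hyy]
      group
    rcases (mem_V ax f hf hff).mp ⟨h1, h2⟩ with h | h | h | h
    · exfalso
      apply hy1
      have e : y = x⁻¹ * (x * y * x⁻¹) * x := by group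
      rw [e, h]
      group
    · left; exact h
    · right; left; exact h
    · right; right; exact h
  obtain ⟨o₁, ho₁, ho₁', eo₁⟩ := IsE8.orbit_step N a ({a, b, a * b} : Set _) (by
    intro x hx
    rcases hconjV x hx a haM (aG_sq ax f hf hff) S.a_ne with h | h | h
    · left; exact h
    · right; left; exact h
    · right; right; exact h)
  obtain ⟨o₂, ho₂, ho₂', eo₂⟩ := IsE8.orbit_step (N ⊓ Subgroup.centralizer {a}) b ({b, a * b} : Set _) (by
    rintro x ⟨hx, hxa⟩
    have hxa' : x * a = a * x := Subgroup.mem_centralizer_singleton_iff.mp hxa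
    rcases hconjV x hx b hbM S.bb S.b_ne with h | h | h
    · exfalso
      apply S.b_ne_a
      have h2 : x * b = a * x := mul_inv_eq_iff_eq_mul.mp h
      rw [← hxa'] at h2
      exact mul_left_cancel h2
    · left; exact h
    · right; exact h)
  have hNCV : (N ⊓ Subgroup.centralizer {a}) ⊓ Subgroup.centralizer {b} = CV := by
    apply le_antisymm
    · rintro x ⟨⟨-, h1⟩, h2⟩
      exact ⟨h1, h2⟩
    · intro x hx
      exact ⟨⟨hCVN hx, hx.1⟩, hx.2⟩
  rw [hNCV, hcardCV] at eo₂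
  rw [eo₂] at eo₁
  have hle₁ : o₁ ≤ 3 := by
    refine ho₁'.trans ((Set.ncard_insert_le _ _).trans ?_)
    have := Set.ncard_insert_le b ({a * b} : Set ↥(twistedG2 F e))
    rw [Set.ncard_singleton] at this
    omega
  have hle₂ : o₂ ≤ 2 := by
    refine ho₂'.trans ((Set.ncard_insert_le _ _).trans ?_)
    rw [Set.ncard_singleton]
  -- the order of `d`
  have hdN : dG ax f hf ∈ N := by
    set d := dG ax f hf with hd
    have h1 : a * d = d * b := (rel_d_b ax f hf hff).symm
    have h2 : b * d = d * (a * b) := by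
      have h3 : d * a = a * b * d := rel_d_a ax f hf hff
      have h4 : b * d = a * (d * a) := by
        rw [h3]
        calc b * d = (a * a) * b * d := by rw [aG_sq]; group
          _ = _ := by group
      rw [h4, ← mul_assoc, h1, mul_assoc, S.ab]
    have hwab : w * (a * b) = (a * b) * w := by
      rw [← mul_assoc, hwa, mul_assoc, hwb, mul_assoc]
    apply mem_N_of_conj ax f hf hff hns hneg hwM hwodd hw1
    · have e1 : d * w * d⁻¹ * a * d = a * (d * w * d⁻¹) * d := by
        calc d * w * d⁻¹ * a * d = d * w * d⁻¹ * (a * d) := by group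
          _ = d * w * d⁻¹ * (d * b) := by rw [h1]
          _ = d * (w * b) := by group
          _ = d * (b * w) := by rw [hwb]
          _ = (d * b) * w := by group
          _ = (a * d) * w := by rw [h1]
          _ = _ := by group
      exact mul_right_cancel e1
    · have e1 : d * w * d⁻¹ * b * d = b * (d * w * d⁻¹) * d := by
        calc d * w * d⁻¹ * b * d = d * w * d⁻¹ * (b * d) := by group
          _ = d * w * d⁻¹ * (d * (a * b)) := by rw [h2]
          _ = d * (w * (a * b)) := by group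
          _ = d * ((a * b) * w) := by rw [hwab]
          _ = (d * (a * b)) * w := by group
          _ = (b * d) * w := by rw [h2]
          _ = _ := by group
      exact mul_right_cancel e1
  have h3N : 3 ∣ Nat.card N := by
    haveI : Fact (Nat.Prime 3) := ⟨Nat.prime_three⟩
    have h1 := Subgroup.orderOf_dvd_natCard N hdN
    rwa [orderOf_eq_prime (d_pow ax f hf hff) (d_ne ax f hf hff)] at h1
  have hdvd : Nat.card N ∣ 8 * k' := by
    rw [← hcard]
    exact Subgroup.card_subgroup_dvd_card N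
  have hval : Nat.card N = 8 * (k * (o₁ * o₂)) := by
    rw [eo₁, hk]
    ring
  rw [hval] at hdvd h3N
  have hd2 : k * (o₁ * o₂) ∣ k' := Nat.dvd_of_mul_dvd_mul_left (by norm_num) hdvd
  have hoddo : Odd (o₁ * o₂) := Odd.of_dvd_nat hk' ((Dvd.intro_left k rfl).trans hd2)
  obtain ⟨ho₁odd, ho₂odd⟩ := Nat.odd_mul.mp hoddo
  have ho₂1 : o₂ = 1 := by
    obtain ⟨r, hr⟩ := ho₂odd
    omega
  subst ho₂1
  have h3o : 3 ∣ o₁ := by
    have hp3 : Nat.Prime 3 := Nat.prime_three
    rw [mul_one] at h3N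
    rcases (Nat.Prime.dvd_mul hp3).mp h3N with h | h
    · exfalso
      have := Nat.Prime.eq_one_or_self_of_dvd hp3 3 (dvd_refl 3)
      have h8 : ¬ 3 ∣ 8 := by norm_num
      exact h8 h
    · rcases (Nat.Prime.dvd_mul hp3).mp h with h | h
      · exact absurd h hk3
      · exact h
  have ho₁3 : o₁ = 3 := by
    obtain ⟨r, hr⟩ := h3o
    omega
  subst ho₁3
  rw [hval]
  have : Nat.card F + 1 = 4 * k := hk
  rw [this]
  ring

end Twist

end Cfsg.Agent.Lib.ReeG2.Con4
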