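import Cfsg.Agent.Lib.ReeG2.Con4

/-!
# The abstract Ree-type data for `G¹`, and the final results
-/

set_option autoImplicit false
set_option linter.unusedTactic false
set_option linter.unreachableTactic false
set_option linter.unusedSectionVars false
set_option linter.unusedVariables false
set_option linter.ambiguousOpen false
set_option linter.dupNamespace false
set_option maxHeartbeats 2000000

namespace Cfsg.Agent.Lib.ReeG2.Con5

open scoped MatrixGroups Matrix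
open Cfsg Lie ChevalleyDatum
open Cfsg.Agent.Lib.Chev
open Tables Tables2 Tables3 Raise Basic AxBasic Torus Products Products2 Mono1 Mono2 Mono3 Bn ChevSimple
open Cfsg.Agent.Lib.Twisted.Fact Cfsg.Agent.Lib.Twisted.Bruhat Cfsg.Agent.Lib.Twisted.Tw
open Cfsg.Agent.Lib.Twisted.Struct Cfsg.Agent.Lib.Twisted.Check Cfsg.Agent.Lib.Twisted.Ortho
open Cfsg.Agent.Lib.ReeG2.Blocks Cfsg.Agent.Lib.ReeG2.Tw Cfsg.Agent.Lib.ReeG2.Blk7 Cfsg.Agent.Lib.ReeG2.Unip
open Cfsg.Agent.Lib.ReeG2.RTD Cfsg.Agent.Lib.ReeG2.H1 Cfsg.Agent.Lib.ReeG2.Rank1 Cfsg.Agent.Lib.ReeG2.Str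
open Cfsg.Agent.Lib.ReeG2.Fini Cfsg.Agent.Lib.ReeG2.Fini2 Cfsg.Agent.Lib.ReeG2.L Cfsg.Agent.Lib.ReeG2.Rank1b
open Cfsg.Agent.Lib.ReeG2.L2 Cfsg.Agent.Lib.ReeG2.L3 Cfsg.Agent.Lib.ReeG2.E8 Cfsg.Agent.Lib.ReeG2.L4 Cfsg.Agent.Lib.ReeG2.L5
open Cfsg.Agent.Lib.ReeG2.T Cfsg.Agent.Lib.ReeG2.Con1 Cfsg.Agent.Lib.ReeG2.Con2 Cfsg.Agent.Lib.ReeG2.Con3 Cfsg.Agent.Lib.ReeG2.Con4
open Cfsg.Agent.Lib.ReeG2.Ab1 Cfsg.Agent.Lib.ReeG2.Ab2 Cfsg.Agent.Lib.ReeG2.Ab3 Cfsg.Agent.Lib.ReeG2.Ab4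
open Cfsg.Agent.Lib.Chev.SL2 (upM loM)

variable {K : Type*} [Field K] [Fintype K] {m : ℕ}

/-- `G¹` is a group of Ree type. -/
theorem exists_Rd (hm : 1 ≤ m) (hK : Fintype.card K = 3 ^ (2 * m + 1)) :
    ∃ (U H M A : Subgroup ↥(twistedG2 K (3 ^ m))) (n a : ↥(twistedG2 K (3 ^ m))), Rd U H M A n a m ∧
      ∃ u : ↥(twistedG2 K (3 ^ m)), orderOf u = 9 := by
  obtain ⟨hc, f, hf, hff, ax, hns⟩ := exists_ctx hK
  haveI := hc
  haveI : Finite ↥(twistedG2 K (3 ^ m)) := inferInstance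
  have hq := natcard hK
  have hneg := neg_one_not_sq hK
  obtain ⟨k', hk', hodd'⟩ := card_eq_eight_mul hK
  obtain ⟨k, hk1, hodd, hk2, hk4⟩ := k_facts m
  have hq1 : Nat.card K + 1 = 4 * k := by rw [hq, hk1]
  have hq27 := q_ge m hm
  have hq3 := (q_facts m).2.2
  have hk3 : ¬ 3 ∣ k := by
    intro h
    obtain ⟨r, hr⟩ := h
    omega
  have hk7 : 1 < k := by omega
  obtain ⟨A, hAc, hAk, hA⟩ := exists_A ax f hf hff hneg hq1 hodd
  have S := spR ax f hf hff hns
  refine ⟨UG K (3 ^ m), HG K (3 ^ m), MM ax f hf hff, A, nG1 ax f hf, aG ax f hf hff, ?_, exists_order_nine ax f hf hff⟩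
  refine
    { S := S
      hm := hm
      cardU := by rw [card_UG ax f hf hff, hq]
      cardH := by rw [card_HG ax f hf hff hns, hq]
      cycH := cyc_HG ax f hf hff hns
      a_H := aG_mem_HG ax f hf hff
      a_ne := aG_ne ax f hf hff
      a_sq := aG_sq ax f hf hff
      n_inv := fun h hh₀ => n_inv' ax f hf hff hh₀
      fix3 := fun h hh₀ u hu hu1 hc => fix3' ax f hf hff hns hh₀ hu hu1 hc
      CUa := by rw [card_UC ax f hf hff, hq]
      CUa3 := fun u hu hc => CUa3' ax f hf hff hu hc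
      U9 := fun u hu => U9' ax f hf hff hu
      Ca := by rw [card_Ca ax f hf hff hns, hK]
      inv_conj := fun t ht ht1 => inv_conj' ax f hf hff hk' hodd' ht ht1
      M_comm := fun x hx y hy => MM_comm ax f hf hff hneg hx hy
      M_card := by rw [card_MM ax f hf hff hneg, hq]
      M_exp := ?_
      M_C := fun w hw hwo hw1 => MM_C ax f hf hff hns hneg hw hwo hw1
      M_N := by rw [card_N_MM ax f hf hff hns hneg hq1 hodd hk3 hk7 hk' hodd', hq]
      M_V := card_V ax f hf hff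
      no4 := fun g hg => no4' ax f hf hff hk' hodd' hg
      A_cyc := hAc
      A_card := by rw [hAk, hk4]
      A_iff := by rw [hk4]; exact hA
      hY := ?_ }
  · -- the exponent of `M`
    intro x hx
    rw [hk2]
    have hcL := card_LLT ax f hf hff hneg
    have hcL' : Nat.card (LLT ax f hf hff) = 2 * k := by omega
    have hL : ∀ g ∈ TT K, (LL ax f hf hff g) ^ (2 * k) = 1 := by
      intro g hg
      rw [← hcL']
      exact pow_card_sub ((mem_LLT ax f hf hff).mpr ⟨g, hg, rfl⟩)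
    obtain ⟨g, hg, rfl | rfl⟩ := hx
    · exact hL g hg
    · rw [a_mul_pow ax f hf hff, a_pow_even ax f hf hff, one_mul, map_pow]
      exact hL g hg
  · -- the centralisers in `GL₇`
    intro x p hp hx hd hco
    have hinj : Function.Injective (MonoidHom.toHomUnits (pG ax f hf hff)) := by
      intro x y hxy
      apply pG_inj ax f hf hff
      have := congrArg (fun z : GL (Fin 7) K => (z : Matrix (Fin 7) (Fin 7) K)) hxy
      exact this
    obtain ⟨h2, h3, -⟩ := prime_D hp hd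
    have hp3 : 3 < p := by
      have := hp.two_le
      omega
    apply Cfsg.Agent.Lib.ReeG2.GL8.hY_general (MonoidHom.toHomUnits (pG ax f hf hff)) hinj hp hx hp3
    · rw [hK]
      exact hd
    · rw [hK]
      exact hco

end Cfsg.Agent.Lib.ReeG2.Con5
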