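import Mathlib

/-!
# Elementary abelian subgroups of order eight as Sylow subgroups: abstract counting for the normaliser
-/

set_option autoImplicit false
set_option linter.unusedSectionVars false
set_option linter.unusedVariables false

namespace Cfsg.Agent.Lib.ReeG2.E8

open scoped Pointwise

variable {G : Type*} [Group G]

/-- A power with a Boolean exponent. -/
def pw (x : G) (i : Bool) : G := if i then x else 1

@[simp] lemma pw_false (x : G) : pw x false = 1 := rfl
@[simp] lemma pw_true (x : G) : pw x true = x := rfl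

lemma pw_comm {x y : G} (h : x * y = y * x) (i j : Bool) : pw x i * pw y j = pw y j * pw x i := by
  cases i <;> cases j <;> simp [h]

lemma pw_mul {x : G} (h : x * x = 1) (i j : Bool) : pw x i * pw x j = pw x (xor i j) := by
  cases i <;> cases j <;> simp [h]

/-- Three independent commuting involutions. -/
structure IsE8 (a b c : G) : Prop where
  aa : a * a = 1
  bb : b * b = 1
  cc : c * c = 1
  ab : a * b = b * a
  ac : a * c = c * a
  bc : b * c = c * b
  ind : ∀ i j k : Bool, pw a i * pw b j * pw c k = 1 → i = false ∧ j = false ∧ k = false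

/-- The subgroup generated. -/
def EE (a b c : G) : Subgroup G := Subgroup.closure {a, b, c}

variable {a b c : G}

lemma a_mem : a ∈ EE a b c := Subgroup.subset_closure (by simp)
lemma b_mem : b ∈ EE a b c := Subgroup.subset_closure (by simp)
lemma c_mem : c ∈ EE a b c := Subgroup.subset_closure (by simp)

lemma pw_mem {x : G} {H : Subgroup G} (hx : x ∈ H) (i : Bool) : pw x i ∈ H := by
  cases i
  · exact Subgroup.one_mem _
  · exact hx

namespace IsE8

variable (S : IsE8 a b c)
include S

lemma prod_mul (i j k i' j' k' : Bool) :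
    (pw a i * pw b j * pw c k) * (pw a i' * pw b j' * pw c k') =
      pw a (xor i i') * pw b (xor j j') * pw c (xor k k') := by
  rw [← pw_mul S.aa, ← pw_mul S.bb, ← pw_mul S.cc]
  have h1 := pw_comm S.ab i' j
  have h2 := pw_comm S.ac i' k
  have h3 := pw_comm S.bc j' k
  calc pw a i * pw b j * pw c k * (pw a i' * pw b j' * pw c k')
      = pw a i * pw b j * (pw c k * pw a i') * pw b j' * pw c k' := by group
    _ = pw a i * (pw b j * pw a i') * pw c k * pw b j' * pw c k' := by rw [← h2]; group
    _ = pw a i * pw a i' * pw b j * (pw c k * pw b j') * pw c k' := by rw [← h1]; group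
    _ = pw a i * pw a i' * pw b j * pw b j' * pw c k * pw c k' := by rw [← h3]; group
    _ = _ := by group

lemma mem_iff {x : G} : x ∈ EE a b c ↔ ∃ i j k, x = pw a i * pw b j * pw c k := by
  constructor
  · intro hx
    induction hx using Subgroup.closure_induction with
    | mem x hx =>
      rcases hx with rfl | rfl | rfl
      · exact ⟨true, false, false, by simp⟩
      · exact ⟨false, true, false, by simp⟩
      · exact ⟨false, false, true, by simp⟩
    | one => exact ⟨false, false, false, by simp⟩
    | mul x y _ _ hx hy =>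
      obtain ⟨i, j, k, rfl⟩ := hx
      obtain ⟨i', j', k', rfl⟩ := hy
      exact ⟨_, _, _, S.prod_mul i j k i' j' k'⟩
    | inv x _ hx =>
      obtain ⟨i, j, k, rfl⟩ := hx
      refine ⟨i, j, k, ?_⟩
      apply inv_eq_of_mul_eq_one_left
      rw [S.prod_mul]
      simp
  · rintro ⟨i, j, k, rfl⟩
    exact mul_mem (mul_mem (pw_mem a_mem i) (pw_mem b_mem j)) (pw_mem c_mem k)

lemma sq {x : G} (hx : x ∈ EE a b c) : x * x = 1 := by
  obtain ⟨i, j, k, rfl⟩ := S.mem_iff.mp hx
  rw [S.prod_mul]
  simp

lemma comm {x y : G} (hx : x ∈ EE a b c) (hy : y ∈ EE a b c) : x * y = y * x := by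
  obtain ⟨i, j, k, rfl⟩ := S.mem_iff.mp hx
  obtain ⟨i', j', k', rfl⟩ := S.mem_iff.mp hy
  rw [S.prod_mul, S.prod_mul]
  simp [Bool.xor_comm]

lemma inj : Function.Injective (fun p : Bool × Bool × Bool => pw a p.1 * pw b p.2.1 * pw c p.2.2) := by
  rintro ⟨i, j, k⟩ ⟨i', j', k'⟩ h
  have h1 : (pw a i * pw b j * pw c k) * (pw a i' * pw b j' * pw c k') = 1 := by
    have : (pw a i * pw b j * pw c k) = (pw a i' * pw b j' * pw c k') := h
    rw [this, S.prod_mul]
    simp
  rw [S.prod_mul] at h1
  obtain ⟨e1, e2, e3⟩ := S.ind _ _ _ h1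
  have e1' : i = i' := by revert e1; cases i <;> cases i' <;> simp
  have e2' : j = j' := by revert e2; cases j <;> cases j' <;> simp
  have e3' : k = k' := by revert e3; cases k <;> cases k' <;> simp
  simp only [e1', e2', e3']

lemma card : Nat.card (EE a b c) = 8 := by
  have hb : Function.Bijective (fun p : Bool × Bool × Bool =>
      (⟨pw a p.1 * pw b p.2.1 * pw c p.2.2, S.mem_iff.mpr ⟨_, _, _, rfl⟩⟩ : EE a b c)) := by
    constructor
    · intro p q h
      exact S.inj (congrArg Subtype.val h)
    · rintro ⟨x, hx⟩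
      obtain ⟨i, j, k, rfl⟩ := S.mem_iff.mp hx
      exact ⟨⟨i, j, k⟩, rfl⟩
  rw [← Nat.card_congr (Equiv.ofBijective _ hb)]
  simp

lemma a_ne : a ≠ 1 := by
  intro h
  have := S.ind true false false (by simp [h])
  simp at this

lemma b_ne : b ≠ 1 := by
  intro h
  have := S.ind false true false (by simp [h])
  simp at this

lemma b_ne_a : b ≠ a := by
  intro h
  have := S.ind true true false (by simp [h, S.aa])
  simp at this

/-- A Sylow subgroup. -/
theorem sylow [Finite G] {k : ℕ} (hcard : Nat.card G = 8 * k) (hk : Odd k) (P : Sylow 2 G) :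
    Nat.card P = 8 ∧ ∀ x ∈ P, x * x = 1 := by
  haveI : Fact (Nat.Prime 2) := ⟨Nat.prime_two⟩
  have h8 := S.card
  have hU : IsPGroup 2 (EE a b c) := by
    apply IsPGroup.of_card (n := 3)
    rw [h8]
    norm_num
  have hidx : ¬ 2 ∣ (EE a b c).index := by
    have h1 := Subgroup.card_mul_index (EE a b c)
    rw [h8, hcard] at h1
    have h2 : (EE a b c).index = k := by omega
    rw [h2]
    exact hk.not_two_dvd_nat
  obtain ⟨g, rfl⟩ := MulAction.exists_smul_eq G (hU.toSylow hidx) P
  constructor
  · rw [Sylow.card_eq_multiplicity, ← Sylow.card_eq_multiplicity (hU.toSylow hidx)]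
    rw [IsPGroup.toSylow_coe]
    exact h8
  · intro x hx
    have hx' : x ∈ ((g • hU.toSylow hidx : Sylow 2 G) : Subgroup G) := hx
    rw [Sylow.coe_subgroup_smul, Subgroup.mem_smul_pointwise_iff_exists] at hx'
    obtain ⟨y, hy, rfl⟩ := hx'
    have hy' : y ∈ EE a b c := (hU.mem_toSylow hidx).mp hy
    have h3 := S.sq hy'
    show (g * y * g⁻¹) * (g * y * g⁻¹) = 1
    calc (g * y * g⁻¹) * (g * y * g⁻¹) = g * (y * y) * g⁻¹ := by group
      _ = 1 := by rw [h3]; group

omit S in
/-- One orbit-stabiliser step. -/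
lemma orbit_step [Finite G] (X : Subgroup G) (x : G) (T : Set G) (hT : ∀ g ∈ X, g * x * g⁻¹ ∈ T) :
    ∃ o, 0 < o ∧ o ≤ T.ncard ∧ Nat.card X = o * Nat.card ↥(X ⊓ Subgroup.centralizer {x}) := by
  classical
  letI : MulAction ↥X G := MulAction.compHom G ((ConjAct.toConjAct : G ≃* ConjAct G).toMonoidHom.comp X.subtype)
  have hsm : ∀ (g : ↥X) (y : G), g • y = g.1 * y * g.1⁻¹ := fun g y => rfl
  have hstab : Nat.card (MulAction.stabilizer ↥X x) = Nat.card ↥(X ⊓ Subgroup.centralizer {x}) := by
    apply Nat.card_congr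
    refine ⟨fun g => ⟨g.1.1, g.1.2, ?_⟩, fun g => ⟨⟨g.1, g.2.1⟩, ?_⟩, fun g => rfl, fun g => rfl⟩
    · have h1 : g.1 • x = x := g.2
      rw [hsm] at h1
      exact Subgroup.mem_centralizer_singleton_iff.mpr (mul_inv_eq_iff_eq_mul.mp h1)
    · rw [MulAction.mem_stabilizer_iff, hsm]
      have h2 : g.1 * x = x * g.1 := Subgroup.mem_centralizer_singleton_iff.mp g.2.2
      exact mul_inv_eq_iff_eq_mul.mpr h2
  have h1 := Subgroup.card_mul_index (MulAction.stabilizer ↥X x)
  rw [MulAction.index_stabilizer, hstab] at h1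
  refine ⟨(MulAction.orbit ↥X x).ncard, ?_, ?_, ?_⟩
  · rw [Set.ncard_pos]
    exact ⟨x, MulAction.mem_orbit_self x⟩
  · apply Set.ncard_le_ncard _ (Set.toFinite _)
    rintro _ ⟨g, rfl⟩
    exact hT g.1 g.2
  · rw [← h1, mul_comm]

/-- The centraliser and the normaliser, from generators of a centraliser and two elements. -/
theorem main [Finite G] {k : ℕ} (hcard : Nat.card G = 8 * k) (hk : Odd k)
    (hC : ∀ y, y * a = a * y → y * b = b * y → y * c = c * y → y ∈ EE a b c)
    {c₇ d₃ : G} (hc7 : orderOf c₇ = 7) (hc7N : c₇ ∈ Subgroup.normalizer ((EE a b c : Subgroup G) : Set G))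
    (hd3 : orderOf d₃ = 3) (hd3N : d₃ ∈ Subgroup.normalizer ((EE a b c : Subgroup G) : Set G))
    (hd3a : d₃ * a = a * d₃) :
    Subgroup.centralizer ((EE a b c : Subgroup G) : Set G) = EE a b c ∧
      Nat.card (Subgroup.normalizer ((EE a b c : Subgroup G) : Set G)) = 168 := by
  classical
  set E := EE a b c with hE
  set N := Subgroup.normalizer (E : Set G) with hN
  have hEN : E ≤ N := Subgroup.le_normalizer
  have hmemN : ∀ {g x : G}, g ∈ N → x ∈ E → g * x * g⁻¹ ∈ E := by
    intro g x hg hx
    exact (Subgroup.mem_normalizer_iff.mp hg x).mp hx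
  have hmemN' : ∀ {g x : G}, g ∈ N → g * x * g⁻¹ ∈ E → x ∈ E := by
    intro g x hg hx
    exact (Subgroup.mem_normalizer_iff.mp hg x).mpr hx
  have h8 : Nat.card E = 8 := S.card
  have hcomm : ∀ {y : G}, y * a = a * y → y * b = b * y → y * c = c * y → y ∈ Subgroup.centralizer (E : Set G) := by
    intro y ha hb hc
    rw [Subgroup.mem_centralizer_iff]
    intro x hx
    have hx' : x ∈ E := hx
    obtain ⟨i, j, l, rfl⟩ := S.mem_iff.mp hx'
    have h1 : ∀ i, y * pw a i = pw a i * y := by intro i; cases i <;> simp [ha]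
    have h2 : ∀ i, y * pw b i = pw b i * y := by intro i; cases i <;> simp [hb]
    have h3 : ∀ i, y * pw c i = pw c i * y := by intro i; cases i <;> simp [hc]
    calc pw a i * pw b j * pw c l * y = pw a i * pw b j * (pw c l * y) := by group
      _ = pw a i * (pw b j * y) * pw c l := by rw [← h3]; group
      _ = (pw a i * y) * pw b j * pw c l := by rw [← h2]; group
      _ = _ := by rw [← h1]; group
  -- the centraliser
  have hcent : Subgroup.centralizer (E : Set G) = E := by
    apply le_antisymm
    · intro y hy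
      rw [Subgroup.mem_centralizer_iff] at hy
      exact hC y (hy a a_mem).symm (hy b b_mem).symm (hy c c_mem).symm
    · intro y hy
      rw [Subgroup.mem_centralizer_iff]
      intro x hx
      exact S.comm hx hy
  refine ⟨hcent, ?_⟩
  -- the index of `E` in `N` is odd
  have hdvd : Nat.card N ∣ 8 * k := by
    rw [← hcard]
    exact Subgroup.card_subgroup_dvd_card N
  have hidx : Odd (E.subgroupOf N).index := by
    have h1 := Subgroup.card_mul_index (E.subgroupOf N)
    have h2 : Nat.card (E.subgroupOf N) = 8 := by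
      rw [← h8]
      exact Nat.card_congr (Subgroup.subgroupOfEquivOfLe hEN).toEquiv
    rw [h2] at h1
    rw [← h1] at hdvd
    have h3 : (E.subgroupOf N).index ∣ k := Nat.dvd_of_mul_dvd_mul_left (by norm_num) hdvd
    exact Odd.of_dvd_nat hk h3
  have hsq_mem : ∀ {y : G}, y ∈ N → y * y ∈ E → y ∈ E := by
    intro y hy hyy
    haveI : (E.subgroupOf N).Normal := Subgroup.normal_in_normalizer
    have h1 := Subgroup.pow_index_mem (E.subgroupOf N) (⟨y, hy⟩ : ↥N)
    obtain ⟨r, hr⟩ := hidx
    rw [hr] at h1
    have h2 : y ^ (2 * r + 1) ∈ E := by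
      have : ((⟨y, hy⟩ : ↥N) ^ (2 * r + 1) : ↥N).1 ∈ E := h1
      simpa using this
    have h3 : y ^ (2 * r + 1) = (y * y) ^ r * y := by
      rw [pow_succ, pow_mul, pow_two]
    rw [h3] at h2
    have h4 := Subgroup.mul_mem _ (Subgroup.inv_mem _ (Subgroup.pow_mem _ hyy r)) h2
    simpa using h4
  -- the stabiliser of `a` and `b`
  have hX3 : (N ⊓ Subgroup.centralizer {a}) ⊓ Subgroup.centralizer {b} = E := by
    apply le_antisymm
    · rintro y ⟨⟨hyN, hya'⟩, hyb'⟩
      have hya : y * a = a * y := Subgroup.mem_centralizer_singleton_iff.mp hya'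
      have hyb : y * b = b * y := Subgroup.mem_centralizer_singleton_iff.mp hyb'
      have hyc := hmemN hyN (c_mem (a := a) (b := b))
      obtain ⟨i, j, l, hl⟩ := S.mem_iff.mp hyc
      have hv : ∀ i j, y * (pw a i * pw b j) = (pw a i * pw b j) * y := by
        intro i j
        have h1 : y * pw a i = pw a i * y := by cases i <;> simp [hya]
        have h2 : y * pw b j = pw b j * y := by cases j <;> simp [hyb]
        calc y * (pw a i * pw b j) = (y * pw a i) * pw b j := by group
          _ = pw a i * (y * pw b j) := by rw [h1]; group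
          _ = _ := by rw [h2]; group
      cases l with
      | false =>
        exfalso
        rw [pw_false, mul_one] at hl
        have h5 : y * c = (pw a i * pw b j) * y := by
          rw [← hl]
          group
        have h6 : c = pw a i * pw b j := by
          have : y * c = y * (pw a i * pw b j) := by rw [h5, hv]
          exact mul_left_cancel this
        have := S.ind i j true (by rw [pw_true, ← h6, S.cc])
        simp at this
      | true =>
        rw [pw_true] at hl
        set v := pw a i * pw b j with hvv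
        have hvv2 : v * v = 1 := S.sq (mul_mem (pw_mem a_mem i) (pw_mem b_mem j))
        have hyv : y * v = v * y := hv i j
        have h5 : y * c = v * c * y := by
          rw [← hl]
          group
        have h6 : (y * y) * c = c * (y * y) := by
          calc (y * y) * c = y * (y * c) := by group
            _ = y * (v * c * y) := by rw [h5]
            _ = (y * v) * c * y := by group
            _ = v * (y * c) * y := by rw [hyv]; group
            _ = v * (v * c * y) * y := by rw [h5]
            _ = (v * v) * c * (y * y) := by group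
            _ = _ := by rw [hvv2]; group
        apply hsq_mem hyN
        apply hC
        · calc y * y * a = y * (y * a) := by group
            _ = y * (a * y) := by rw [hya]
            _ = (y * a) * y := by group
            _ = a * y * y := by rw [hya]
            _ = a * (y * y) := by group
        · calc y * y * b = y * (y * b) := by group
            _ = y * (b * y) := by rw [hyb]
            _ = (y * b) * y := by group
            _ = b * y * y := by rw [hyb]
            _ = b * (y * y) := by group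
        · exact h6
    · intro y hy
      refine ⟨⟨hEN hy, ?_⟩, ?_⟩
      · exact Subgroup.mem_centralizer_singleton_iff.mpr (S.comm hy a_mem)
      · exact Subgroup.mem_centralizer_singleton_iff.mpr (S.comm hy b_mem)
  -- first orbit
  have hcardE : (E : Set G).ncard = 8 := by
    rw [← Nat.card_coe_set_eq]
    exact h8
  have h1mem : (1 : G) ∈ (E : Set G) := Subgroup.one_mem _
  have hT1 : ((E : Set G) \ {1}).ncard = 7 := by
    rw [Set.ncard_diff_singleton_of_mem h1mem, hcardE]
  have hT2 : (((E : Set G) \ {1}) \ {a}).ncard = 6 := by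
    rw [Set.ncard_diff_singleton_of_mem (show a ∈ (E : Set G) \ {1} from ⟨a_mem, S.a_ne⟩), hT1]
  obtain ⟨o₁, ho₁, ho₁', eo₁⟩ := orbit_step N a ((E : Set G) \ {1}) (by
    intro g hg
    refine ⟨hmemN hg a_mem, ?_⟩
    intro h1
    have h2 : g * a * g⁻¹ = 1 := h1
    have h3 : a = 1 := by
      have := congrArg (fun x => g⁻¹ * x * g) h2
      simpa [mul_assoc] using this
    exact S.a_ne h3)
  obtain ⟨o₂, ho₂, ho₂', eo₂⟩ := orbit_step (N ⊓ Subgroup.centralizer {a}) b (((E : Set G) \ {1}) \ {a}) (by
    rintro g ⟨hg, hga'⟩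
    have hga : g * a = a * g := Subgroup.mem_centralizer_singleton_iff.mp hga'
    refine ⟨⟨hmemN hg b_mem, ?_⟩, ?_⟩
    · intro h1
      have h2 : g * b * g⁻¹ = 1 := h1
      have h3 : b = 1 := by
        have := congrArg (fun x => g⁻¹ * x * g) h2
        simpa [mul_assoc] using this
      exact S.b_ne h3
    · intro h1
      have h2 : g * b * g⁻¹ = a := h1
      have h3 : b = a := by
        have h5 : g * b = a * g := by
          rw [← h2]
          group
        have : g * b = g * a := by
          rw [h5, hga]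
        exact mul_left_cancel this
      exact S.b_ne_a h3)
  rw [hX3, h8] at eo₂
  rw [eo₂] at eo₁
  rw [hT1] at ho₁'
  rw [hT2] at ho₂'
  -- the divisibility conditions
  have h7 : 7 ∣ Nat.card N := by
    have h1 := Subgroup.orderOf_dvd_natCard N hc7N
    rwa [hc7] at h1
  have h3 : 3 ∣ Nat.card ↥(N ⊓ Subgroup.centralizer {a}) := by
    have h1 := Subgroup.orderOf_dvd_natCard (N ⊓ Subgroup.centralizer {a})
      (x := d₃) ⟨hd3N, (Subgroup.mem_centralizer_singleton_iff.mpr hd3a : d₃ ∈ Subgroup.centralizer {a})⟩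
    rwa [hd3] at h1
  rw [eo₂] at h3
  have h3' : 3 ∣ o₂ := by
    have : Nat.Coprime 3 8 := by norm_num
    exact this.dvd_of_dvd_mul_right h3
  have hodd2 : Odd o₂ := by
    have h5 : 8 * (o₁ * o₂) ∣ 8 * k := by
      have : 8 * (o₁ * o₂) = Nat.card N := by rw [eo₁]; ring
      rw [this]
      exact hdvd
    have h6 : o₁ * o₂ ∣ k := Nat.dvd_of_mul_dvd_mul_left (by norm_num) h5
    exact Odd.of_dvd_nat hk ((Dvd.intro_left o₁ rfl).trans h6)
  have ho₂3 : o₂ = 3 := by
    obtain ⟨r, hr⟩ := hodd2
    omega
  subst ho₂3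
  have h7' : 7 ∣ o₁ := by
    rw [eo₁] at h7
    have : Nat.Coprime 7 (3 * 8) := by norm_num
    exact this.dvd_of_dvd_mul_right h7
  have ho₁7 : o₁ = 7 := by
    obtain ⟨r, hr⟩ := h7'
    omega
  subst ho₁7
  rw [eo₁]

/-- An element moving the generators into the group normalises it. -/
lemma mem_normalizer_of [Finite G] {g : G} (ha : g * a * g⁻¹ ∈ EE a b c) (hb : g * b * g⁻¹ ∈ EE a b c)
    (hc : g * c * g⁻¹ ∈ EE a b c) : g ∈ Subgroup.normalizer ((EE a b c : Subgroup G) : Set G) := by
  have h1 : ∀ x ∈ EE a b c, g * x * g⁻¹ ∈ EE a b c := by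
    intro x hx
    induction hx using Subgroup.closure_induction with
    | mem x hx =>
      rcases hx with rfl | rfl | rfl
      · exact ha
      · exact hb
      · exact hc
    | one => simp [Subgroup.one_mem]
    | mul x y _ _ hx hy =>
      have : g * (x * y) * g⁻¹ = (g * x * g⁻¹) * (g * y * g⁻¹) := by group
      rw [this]
      exact Subgroup.mul_mem _ hx hy
    | inv x _ hx =>
      have : g * x⁻¹ * g⁻¹ = (g * x * g⁻¹)⁻¹ := by group
      rw [this]
      exact Subgroup.inv_mem _ hx
  haveI : Finite (EE a b c) := inferInstance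
  let φ : EE a b c → EE a b c := fun x => ⟨g * x.1 * g⁻¹, h1 x.1 x.2⟩
  have hφ : Function.Injective φ := by
    intro x y h
    have h2 : g * x.1 * g⁻¹ = g * y.1 * g⁻¹ := congrArg Subtype.val h
    exact Subtype.ext (by simpa using h2)
  have hφ' := Finite.surjective_of_injective hφ
  rw [Subgroup.mem_normalizer_iff]
  intro x
  constructor
  · exact h1 x
  · intro hx
    obtain ⟨y, hy⟩ := hφ' ⟨_, hx⟩
    have h2 : g * y.1 * g⁻¹ = g * x * g⁻¹ := congrArg Subtype.val hy
    have h3 : y.1 = x := by simpa using h2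
    rw [← h3]
    exact y.2

omit S in
/-- Transport along conjugation. -/
lemma conj_transfer (E : Subgroup G) (g : G) :
    (∀ x, x ∈ Subgroup.centralizer ((MulAut.conj g • E : Subgroup G) : Set G) ↔ g⁻¹ * x * g ∈ Subgroup.centralizer (E : Set G)) ∧
    Nat.card (Subgroup.normalizer ((MulAut.conj g • E : Subgroup G) : Set G)) = Nat.card (Subgroup.normalizer (E : Set G)) := by
  have hmem : ∀ x, x ∈ (MulAut.conj g • E : Subgroup G) ↔ g⁻¹ * x * g ∈ E := by
    intro x
    rw [Subgroup.mem_smul_pointwise_iff_exists]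
    constructor
    · rintro ⟨y, hy, rfl⟩
      have : g⁻¹ * (MulAut.conj g • y) * g = y := by
        show g⁻¹ * (g * y * g⁻¹) * g = y
        group
      rw [this]
      exact hy
    · intro h
      refine ⟨_, h, ?_⟩
      show g * (g⁻¹ * x * g) * g⁻¹ = x
      group
  constructor
  · intro x
    rw [Subgroup.mem_centralizer_iff, Subgroup.mem_centralizer_iff]
    constructor
    · intro h y hy
      have h1 : g * y * g⁻¹ ∈ (MulAut.conj g • E : Subgroup G) := by
        rw [hmem]
        have : g⁻¹ * (g * y * g⁻¹) * g = y := by group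
        rw [this]
        exact hy
      have h2 := h _ h1
      calc y * (g⁻¹ * x * g) = g⁻¹ * ((g * y * g⁻¹) * x) * g := by group
        _ = g⁻¹ * (x * (g * y * g⁻¹)) * g := by rw [h2]
        _ = _ := by group
    · intro h y hy
      have h1 : g⁻¹ * y * g ∈ E := (hmem y).mp hy
      have h2 := h _ h1
      calc y * x = g * ((g⁻¹ * y * g) * (g⁻¹ * x * g)) * g⁻¹ := by group
        _ = g * ((g⁻¹ * x * g) * (g⁻¹ * y * g)) * g⁻¹ := by rw [h2]
        _ = _ := by group
  · apply Nat.card_congr
    have key : ∀ x, x ∈ Subgroup.normalizer ((MulAut.conj g • E : Subgroup G) : Set G) ↔ g⁻¹ * x * g ∈ Subgroup.normalizer (E : Set G) := by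
      intro x
      rw [Subgroup.mem_normalizer_iff, Subgroup.mem_normalizer_iff]
      constructor
      · intro h y
        have h1 := h (g * y * g⁻¹)
        rw [hmem, hmem] at h1
        have e1 : g⁻¹ * (g * y * g⁻¹) * g = y := by group
        have e2 : g⁻¹ * (x * (g * y * g⁻¹) * x⁻¹) * g = (g⁻¹ * x * g) * y * (g⁻¹ * x * g)⁻¹ := by group
        rw [e1, e2] at h1
        exact h1
      · intro h y
        rw [hmem, hmem]
        have h1 := h (g⁻¹ * y * g)
        have e2 : g⁻¹ * (x * y * x⁻¹) * g = (g⁻¹ * x * g) * (g⁻¹ * y * g) * (g⁻¹ * x * g)⁻¹ := by group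
        rw [e2]
        exact h1
    refine ⟨fun x => ⟨g⁻¹ * x.1 * g, (key _).mp x.2⟩, fun y => ⟨g * y.1 * g⁻¹, (key _).mpr ?_⟩, ?_, ?_⟩
    · have : g⁻¹ * (g * y.1 * g⁻¹) * g = y.1 := by group
      rw [this]
      exact y.2
    · intro x
      apply Subtype.ext
      show g * (g⁻¹ * x.1 * g) * g⁻¹ = x.1
      group
    · intro y
      apply Subtype.ext
      show g⁻¹ * (g * y.1 * g⁻¹) * g = y.1
      group

/-- All Sylow subgroups. -/
theorem main' [Finite G] {k : ℕ} (hcard : Nat.card G = 8 * k) (hk : Odd k)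
    (h1 : Subgroup.centralizer ((EE a b c : Subgroup G) : Set G) = EE a b c)
    (h2 : Nat.card (Subgroup.normalizer ((EE a b c : Subgroup G) : Set G)) = 168) (P : Sylow 2 G) :
    Subgroup.centralizer ((P : Subgroup G) : Set G) = P ∧
      Nat.card (Subgroup.normalizer ((P : Subgroup G) : Set G)) = 168 := by
  haveI : Fact (Nat.Prime 2) := ⟨Nat.prime_two⟩
  have h8 := S.card
  have hU : IsPGroup 2 (EE a b c) := by
    apply IsPGroup.of_card (n := 3)
    rw [h8]
    norm_num
  have hidx : ¬ 2 ∣ (EE a b c).index := by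
    have h1 := Subgroup.card_mul_index (EE a b c)
    rw [h8, hcard] at h1
    have h2 : (EE a b c).index = k := by omega
    rw [h2]
    exact hk.not_two_dvd_nat
  obtain ⟨g, rfl⟩ := MulAction.exists_smul_eq G (hU.toSylow hidx) P
  rw [Sylow.coe_subgroup_smul, IsPGroup.toSylow_coe]
  obtain ⟨h3, h4⟩ := conj_transfer (EE a b c) g
  rw [h4, h2]
  refine ⟨?_, rfl⟩
  ext x
  rw [h3, h1, Subgroup.mem_smul_pointwise_iff_exists]
  constructor
  · intro h
    refine ⟨_, h, ?_⟩
    show g * (g⁻¹ * x * g) * g⁻¹ = x
    group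
  · rintro ⟨y, hy, rfl⟩
    have : g⁻¹ * (MulAut.conj g • y) * g = y := by
      show g⁻¹ * (g * y * g⁻¹) * g = y
      group
    rw [this]
    exact hy

end IsE8

end Cfsg.Agent.Lib.ReeG2.E8
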