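import Cfsg.Agent.Lib.ReeG2.Fini2
import Cfsg.Agent.Lib.Chev.SL2

/-!
# The subgroup `L ≅ PSL₂(q)` of the Ree group, the centraliser of the involution of `H¹`
-/

set_option autoImplicit false
set_option linter.unusedTactic false
set_option linter.unreachableTactic false
set_option linter.unusedSectionVars false
set_option linter.unusedVariables false
set_option linter.ambiguousOpen false
set_option linter.dupNamespace false
set_option maxHeartbeats 2000000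

namespace Cfsg.Agent.Lib.ReeG2.L

open scoped MatrixGroups Matrix
open Cfsg Lie ChevalleyDatum
open Cfsg.Agent.Lib.Chev
open Tables Tables2 Tables3 Raise Basic AxBasic Torus Products Products2 Mono1 Mono2 Mono3 Bn ChevSimple
open Cfsg.Agent.Lib.Twisted.Fact Cfsg.Agent.Lib.Twisted.Bruhat Cfsg.Agent.Lib.Twisted.Tw
open Cfsg.Agent.Lib.Twisted.Struct Cfsg.Agent.Lib.Twisted.Check Cfsg.Agent.Lib.Twisted.Ortho
open Cfsg.Agent.Lib.ReeG2.Blocks Cfsg.Agent.Lib.ReeG2.Tw Cfsg.Agent.Lib.ReeG2.Blk7 Cfsg.Agent.Lib.ReeG2.Unip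
open Cfsg.Agent.Lib.ReeG2.RTD Cfsg.Agent.Lib.ReeG2.H1 Cfsg.Agent.Lib.ReeG2.Rank1 Cfsg.Agent.Lib.ReeG2.Str
open Cfsg.Agent.Lib.ReeG2.Fini Cfsg.Agent.Lib.ReeG2.Fini2
open Cfsg.Agent.Lib.Chev.SL2 (upM loM)

section Mat

variable {F : Type*} [Field F]

/-- The short block of the product of the two commuting root `SL₂`'s, `Sym²(g') ⊕ (g ⊗ g')`. -/
def Pm (α β γ δ α' β' γ' δ' : F) : Matrix (Fin 7) (Fin 7) F :=
  !![δ * δ', 0, δ * γ', 0, γ * δ', 0, -(γ * γ');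
    0, δ' ^ 2, 0, -(γ' * δ'), 0, -γ' ^ 2, 0;
    δ * β', 0, δ * α', 0, γ * β', 0, -(γ * α');
    0, -2 * (β' * δ'), 0, α' * δ' + β' * γ', 0, 2 * (α' * γ'), 0;
    β * δ', 0, β * γ', 0, α * δ', 0, -(α * γ');
    0, -β' ^ 2, 0, α' * β', 0, α' ^ 2, 0;
    -(β * β'), 0, -(β * α'), 0, -(α * β'), 0, α * α']

theorem Pm_mul (α₁ β₁ γ₁ δ₁ α₁' β₁' γ₁' δ₁' α₂ β₂ γ₂ δ₂ α₂' β₂' γ₂' δ₂' : F) :
    Pm α₁ β₁ γ₁ δ₁ α₁' β₁' γ₁' δ₁' * Pm α₂ β₂ γ₂ δ₂ α₂' β₂' γ₂' δ₂' =
      Pm (α₁ * α₂ + β₁ * γ₂) (α₁ * β₂ + β₁ * δ₂) (γ₁ * α₂ + δ₁ * γ₂) (γ₁ * β₂ + δ₁ * δ₂)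
        (α₁' * α₂' + β₁' * γ₂') (α₁' * β₂' + β₁' * δ₂') (γ₁' * α₂' + δ₁' * γ₂') (γ₁' * β₂' + δ₁' * δ₂') := by
  ext a b
  fin_cases a <;> fin_cases b <;> simp [Pm, Matrix.mul_apply, Fin.sum_univ_succ] <;> ring

variable [CharP F 3]

theorem Xab_Xaaab (s t : F) : Xab s * Xaaab t = Pm 1 t 0 1 1 s 0 1 := by
  have h3 : (3 : F) = 0 := three_eq_zero
  ext a b
  fin_cases a <;> fin_cases b <;> simp [Pm, Xab, Xaaab, Matrix.mul_apply, Fin.sum_univ_succ] <;>
    first | ring1 | linear_combination (-s) * h3 | linear_combination (s) * h3 | skip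

theorem Xm1_Xm3 (t s : F) : Xm1 t * Xm3 s = Pm 1 0 t 1 1 0 s 1 := by
  have h3 : (3 : F) = 0 := three_eq_zero
  ext a b
  fin_cases a <;> fin_cases b <;> simp [Pm, Xm1, Xm3, Matrix.mul_apply, Fin.sum_univ_succ] <;>
    first | ring1 | linear_combination (-s) * h3 | linear_combination (s) * h3 | skip

end Mat

section Hom

variable {F : Type*} [Field F]

/-- The short block as a function of the element of `SL₂`. -/
def PM (f : F ≃+* F) (g : SL(2, F)) : Matrix (Fin 7) (Fin 7) F :=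
  Pm (g.1 0 0) (g.1 0 1) (g.1 1 0) (g.1 1 1) (f (g.1 0 0)) (f (g.1 0 1)) (f (g.1 1 0)) (f (g.1 1 1))

lemma PM_mul (f : F ≃+* F) (g h : SL(2, F)) : PM f (g * h) = PM f g * PM f h := by
  simp only [PM]
  rw [Pm_mul]
  simp only [Matrix.SpecialLinearGroup.coe_mul, Matrix.mul_apply, Fin.sum_univ_two, map_add, map_mul]

lemma PM_one (f : F ≃+* F) : PM f (1 : SL(2, F)) = 1 := by
  ext a b
  fin_cases a <;> fin_cases b <;> simp [PM, Pm]

/-- `PM` as a homomorphism. -/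
def PMhom (f : F ≃+* F) : SL(2, F) →* Matrix (Fin 7) (Fin 7) F where
  toFun := PM f
  map_one' := PM_one f
  map_mul' := PM_mul f

/-- Every element of `SL₂` is a product of four transvections. -/
theorem sl2_form (g : SL(2, F)) : ∃ s t u v, g = upM s * loM t * upM u * loM v := by
  have key : ∀ g : SL(2, F), g.1 1 0 ≠ 0 → ∃ s t u, g = upM s * loM t * upM u := by
    intro g hc
    have hdet := Cfsg.Agent.Lib.Chev.SL2.det_eq g
    refine ⟨(g.1 0 0 - 1) / g.1 1 0, g.1 1 0, (g.1 1 1 - 1) / g.1 1 0, ?_⟩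
    apply Subtype.ext
    show g.1 = (upM _).1 * (loM _).1 * (upM _).1
    simp only [upM, loM]
    ext a b
    fin_cases a <;> fin_cases b <;>
      simp [Matrix.mul_apply, Fin.sum_univ_two] <;> field_simp <;> first | ring1 | linear_combination (-1 : F) * hdet | linear_combination hdet | skip
  by_cases hc : g.1 1 0 = 0
  · have hd : g.1 1 1 ≠ 0 := by
      intro h0
      have hdet := Cfsg.Agent.Lib.Chev.SL2.det_eq g
      rw [hc, h0] at hdet
      simp at hdet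
    have h1 : (g * loM 1).1 1 0 ≠ 0 := by
      have : (g * loM 1).1 = g.1 * (loM 1).1 := rfl
      rw [this]
      simpa [loM, Matrix.mul_apply, Fin.sum_univ_two, hc] using hd
    obtain ⟨s, t, u, e⟩ := key _ h1
    refine ⟨s, t, u, -1, ?_⟩
    rw [← e, mul_assoc]
    have : loM (1 : F) * loM (-1) = 1 := by
      apply Subtype.ext
      show (loM (1 : F)).1 * (loM (-1 : F)).1 = 1
      simp only [loM]
      ext a b
      fin_cases a <;> fin_cases b <;> simp [Matrix.mul_apply, Fin.sum_univ_two]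
    rw [this, mul_one]
  · obtain ⟨s, t, u, e⟩ := key g hc
    refine ⟨s, t, u, 0, ?_⟩
    rw [← e]
    have : loM (0 : F) = 1 := by
      apply Subtype.ext
      ext a b
      fin_cases a <;> fin_cases b <;> simp [loM]
    rw [this, mul_one]

variable [CharP F 3] (ax : Ax chevG2 F) (f : F ≃+* F)

/-- The lower root elements of `L`. -/
def yy (t : F) : GL chevG2.Idx F := xG ax 1 t * xG ax 3 (f t)

lemma xx0_mem (t : F) : xx ax f 0 t 0 ∈ chevG2.group F := UU_mem ax _ _ _ _ _ _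

lemma yy_mem (t : F) : yy ax f t ∈ chevG2.group F :=
  Subgroup.mul_mem _ (xG_mem ax ⟨1, by decide⟩ _) (xG_mem ax ⟨3, by decide⟩ _)

lemma blk_xx0 (t : F) :
    Blk ((xx ax f 0 t 0 : GL chevG2.Idx F) : Matrix chevG2.Idx chevG2.Idx F) = PM f (upM t) := by
  rw [xx_zero, blk_mul' ax (xG_mem ax ⟨10, by decide⟩ _)]
  simp only [xG_val, blk_x8, blk_x10]
  rw [Xab_Xaaab]
  simp [PM, upM]

lemma blk_yy (t : F) :
    Blk ((yy ax f t : GL chevG2.Idx F) : Matrix chevG2.Idx chevG2.Idx F) = PM f (loM t) := by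
  rw [yy, blk_mul' ax (xG_mem ax ⟨3, by decide⟩ _)]
  simp only [xG_val, blk_x1, blk_x3]
  rw [Xm1_Xm3]
  simp [PM, loM]

theorem exists_lam : ∃ φ : SL(2, F) →* ↥(chevG2.group F), ∀ g, psi ax (φ g) = PM f g := by
  have hr : ∀ g : SL(2, F), ∃ g' : ↥(chevG2.group F), psi ax g' = PM f g := by
    intro g
    obtain ⟨s, t, u, v, rfl⟩ := sl2_form g
    refine ⟨⟨xx ax f 0 s 0, xx0_mem ax f s⟩ * ⟨yy ax f t, yy_mem ax f t⟩ * ⟨xx ax f 0 u 0, xx0_mem ax f u⟩ *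
      ⟨yy ax f v, yy_mem ax f v⟩, ?_⟩
    simp only [map_mul, PM_mul]
    rw [psi_apply, psi_apply, psi_apply, psi_apply, blk_xx0, blk_xx0, blk_yy, blk_yy]
  choose σ hσ using hr
  refine ⟨MonoidHom.mk' σ fun a b => psi_injective ax ?_, hσ⟩
  rw [hσ, map_mul, hσ, hσ, PM_mul]

/-- The homomorphism `SL₂(F) → G₂(F)`. -/
noncomputable def lam : SL(2, F) →* ↥(chevG2.group F) := Classical.choose (exists_lam ax f)

lemma psi_lam (g : SL(2, F)) : psi ax (lam ax f g) = PM f g := Classical.choose_spec (exists_lam ax f) g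

lemma lam_up (t : F) : ((lam ax f (upM t) : ↥(chevG2.group F)) : GL chevG2.Idx F) = xx ax f 0 t 0 := by
  apply eq_of_blk ax (lam ax f _).2 (xx0_mem ax f t)
  rw [blk_xx0, ← psi_lam ax f]
  rfl

lemma lam_lo (t : F) : ((lam ax f (loM t) : ↥(chevG2.group F)) : GL chevG2.Idx F) = yy ax f t := by
  apply eq_of_blk ax (lam ax f _).2 (yy_mem ax f t)
  rw [blk_yy, ← psi_lam ax f]
  rfl

lemma blk_lam (g : SL(2, F)) :
    Blk (((lam ax f g : ↥(chevG2.group F)) : GL chevG2.Idx F) : Matrix chevG2.Idx chevG2.Idx F) = PM f g := by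
  rw [← psi_lam ax f]
  rfl

end Hom

section Twist

variable {F : Type*} [Field F] [CharP F 3] (ax : Ax chevG2 F)
variable (f : F ≃+* F) {e : ℕ} (hf : ∀ t, f t = t ^ e) (hff : ∀ t, f (f t) ^ 3 = t)

include ax hf hff

lemma yy_eq (t : F) : yy ax f t = n0 ax * xx ax f 0 (-t) 0 * n0 ax := by
  rw [V_zero]
  simp only [map_neg, neg_neg]
  exact ((comm_3_1' ax (f t) t).eq).symm

lemma yy_mem_G1 (t : F) : yy ax f t ∈ twistedG2 F e := by
  rw [yy_eq ax f hf hff]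
  exact Subgroup.mul_mem _ (Subgroup.mul_mem _ (n0_mem' ax f hf) (xx_mem ax f hf _ _ _)) (n0_mem' ax f hf)

lemma lam_mem_G1 (g : SL(2, F)) : ((lam ax f g : ↥(chevG2.group F)) : GL chevG2.Idx F) ∈ twistedG2 F e := by
  obtain ⟨s, t, u, v, rfl⟩ := sl2_form g
  simp only [map_mul, Subgroup.coe_mul, lam_up, lam_lo]
  exact Subgroup.mul_mem _ (Subgroup.mul_mem _ (Subgroup.mul_mem _ (xx_mem ax f hf _ _ _) (yy_mem_G1 ax f hf hff _))
    (xx_mem ax f hf _ _ _)) (yy_mem_G1 ax f hf hff _)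

/-- The homomorphism `SL₂(F) → G¹`. -/
noncomputable def LL : SL(2, F) →* ↥(twistedG2 F e) where
  toFun g := ⟨(lam ax f g).1, lam_mem_G1 ax f hf hff g⟩
  map_one' := Subtype.ext (by simp)
  map_mul' a b := Subtype.ext (by simp)

lemma LL_val (g : SL(2, F)) : ((LL ax f hf hff g : ↥(twistedG2 F e)) : GL chevG2.Idx F) = (lam ax f g).1 := rfl

lemma blk_LL (g : SL(2, F)) :
    Blk (((LL ax f hf hff g : ↥(twistedG2 F e)) : GL chevG2.Idx F) : Matrix chevG2.Idx chevG2.Idx F) = PM f g :=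
  blk_lam ax f g

lemma LL_grp (g : SL(2, F)) : ((LL ax f hf hff g : ↥(twistedG2 F e)) : GL chevG2.Idx F) ∈ chevG2.group F := (lam ax f g).2

end Twist

end Cfsg.Agent.Lib.ReeG2.L
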