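import Cfsg.Agent.Lib.ReeG2.Rank1

/-!
# Uniqueness in the Bruhat decomposition, centralisers of elements of `H`, fixed points
-/

set_option autoImplicit false
set_option linter.unusedSectionVars false
set_option linter.unusedVariables false

namespace Cfsg.Agent.Lib.ReeG2.Rank1b

open Cfsg.Agent.Lib.ReeG2.Rank1 Cfsg.Agent.Lib.ReeG2.Rank1.Sp

variable {G : Type*} [Group G] {U H : Subgroup G} {n : G} (S : Sp U H n)

include S

lemma borel_unique {u₁ u₂ h₁ h₂ : G} (hu₁ : u₁ ∈ U) (hu₂ : u₂ ∈ U) (hh₁ : h₁ ∈ H) (hh₂ : h₂ ∈ H)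
    (e : u₁ * h₁ = u₂ * h₂) : u₁ = u₂ ∧ h₁ = h₂ := by
  have e2 : u₂⁻¹ * u₁ = h₂ * h₁⁻¹ := by
    calc u₂⁻¹ * u₁ = u₂⁻¹ * (u₁ * h₁) * h₁⁻¹ := by group
      _ = u₂⁻¹ * (u₂ * h₂) * h₁⁻¹ := by rw [e]
      _ = _ := by group
  have e3 := S.U_H _ (mul_mem (inv_mem hu₂) hu₁) (by rw [e2]; exact mul_mem hh₂ (inv_mem hh₁))
  have e4 : u₂ = u₁ := inv_mul_eq_one.mp e3
  subst e4
  exact ⟨rfl, mul_left_cancel e⟩

lemma borel_unique' {u₁ u₂ h₁ h₂ : G} (hu₁ : u₁ ∈ U) (hu₂ : u₂ ∈ U) (hh₁ : h₁ ∈ H) (hh₂ : h₂ ∈ H)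
    (e : h₁ * u₁ = h₂ * u₂) : h₁ = h₂ ∧ u₁ = u₂ := by
  have e2 : h₂⁻¹ * h₁ = u₂ * u₁⁻¹ := by
    calc h₂⁻¹ * h₁ = h₂⁻¹ * (h₁ * u₁) * u₁⁻¹ := by group
      _ = h₂⁻¹ * (h₂ * u₂) * u₁⁻¹ := by rw [e]
      _ = _ := by group
  have e3 := S.U_H (u₂ * u₁⁻¹) (mul_mem hu₂ (inv_mem hu₁)) (by rw [← e2]; exact mul_mem (inv_mem hh₂) hh₁)
  have e4 : u₂ = u₁ := by
    rwa [mul_inv_eq_one] at e3
  subst e4
  exact ⟨mul_right_cancel e, rfl⟩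

lemma cell_unique {u₁ u₂ h₁ h₂ u₁' u₂' : G} (hu₁ : u₁ ∈ U) (hu₂ : u₂ ∈ U) (hh₁ : h₁ ∈ H) (hh₂ : h₂ ∈ H)
    (hu₁' : u₁' ∈ U) (hu₂' : u₂' ∈ U) (e : u₁ * n * h₁ * u₁' = u₂ * n * h₂ * u₂') :
    u₁ = u₂ ∧ h₁ = h₂ ∧ u₁' = u₂' := by
  have hk : ∀ {u h u' : G}, u ∈ U → h ∈ H → u' ∈ U → (u * n * h * u') • inf U H = pt U H n u := by
    intro u h u' hu hh hu'
    have : (u * n * h * u') = (u * n) * (h * u') := by group
    rw [this, mul_smul, S.smul_inf_eq.mpr (mul_mem (H_le_B hh) (U_le_B hu')), S.smul_inf]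
    rfl
  have e1 : (u₁ * n * h₁ * u₁') • inf U H = (u₂ * n * h₂ * u₂') • inf U H := by rw [e]
  rw [hk hu₁ hh₁ hu₁', hk hu₂ hh₂ hu₂'] at e1
  have e2 := S.pt_inj hu₁ hu₂ e1
  subst e2
  have e3 : h₁ * u₁' = h₂ * u₂' := by
    have : u₁ * n * (h₁ * u₁') = u₁ * n * (h₂ * u₂') := by
      simpa [mul_assoc] using e
    exact mul_left_cancel this
  obtain ⟨e4, e5⟩ := borel_unique' S hu₁' hu₂' hh₁ hh₂ e3
  exact ⟨rfl, e4, e5⟩

/-- The centraliser of an element of `H`. -/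
theorem centralizer_form {a g : G} (haH : a ∈ H) (han : a * n = n * a) (hcomm : ∀ h ∈ H, a * h = h * a)
    (hg : a * g = g * a) :
    (∃ u ∈ U, a * u = u * a ∧ ∃ h ∈ H, g = u * h) ∨
      ∃ u ∈ U, a * u = u * a ∧ ∃ h ∈ H, ∃ u' ∈ U, a * u' = u' * a ∧ g = u * n * h * u' := by
  have hg' : a * g * a⁻¹ = g := by rw [hg]; group
  rcases S.bruhat g with ⟨u, hu, h, hh, rfl⟩ | ⟨u, hu, h, hh, u', hu', rfl⟩
  · left
    have e1 : (a * u * a⁻¹) * h = u * h := by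
      rw [← hg']
      have : a * h * a⁻¹ = h := by rw [hcomm h hh]; group
      calc (a * u * a⁻¹) * h = (a * u * a⁻¹) * (a * h * a⁻¹) := by rw [this]
        _ = _ := by group
    obtain ⟨e2, -⟩ := borel_unique S (S.H_U a haH u hu) hu hh hh e1
    have e3 : a * u = u * a := by
      rw [mul_inv_eq_iff_eq_mul] at e2
      exact e2
    exact ⟨u, hu, e3, h, hh, rfl⟩
  · right
    have e1 : (a * u * a⁻¹) * n * h * (a * u' * a⁻¹) = u * n * h * u' := by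
      rw [← hg']
      have e5 : a * h * a⁻¹ = h := by rw [hcomm h hh]; group
      have e6 : a * n * a⁻¹ = n := by rw [han]; group
      calc (a * u * a⁻¹) * n * h * (a * u' * a⁻¹)
          = (a * u * a⁻¹) * (a * n * a⁻¹) * (a * h * a⁻¹) * (a * u' * a⁻¹) := by rw [e5, e6]
        _ = _ := by group
    obtain ⟨e2, -, e4⟩ := cell_unique S (S.H_U a haH u hu) hu hh hh (S.H_U a haH u' hu') hu' e1
    rw [mul_inv_eq_iff_eq_mul] at e2 e4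
    exact ⟨u, hu, e2, h, hh, u', hu', e4, rfl⟩

/-- The fixed points of an element of `H` acting without fixed points on `U`. -/
lemma fix_pt_eq {h u : G} (hh : h ∈ H) (hu : u ∈ U) (e : h • pt U H n u = pt U H n u) : h * u = u * h := by
  have := (S.stab_three (g := h) hu).mp ⟨S.smul_inf_eq.mpr (H_le_B hh), ((S.stab_two).mpr hh).2, e⟩
  exact this.2

end Cfsg.Agent.Lib.ReeG2.Rank1b
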