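import Cfsg.Agent.Lib.ReeG2.L
import Cfsg.Agent.Lib.ReeG2.Rank1b

/-!
# The centraliser of the involution of `H¹`
-/

set_option autoImplicit false
set_option linter.unusedTactic false
set_option linter.unreachableTactic false
set_option linter.unusedSectionVars false
set_option linter.unusedVariables false
set_option linter.ambiguousOpen false
set_option linter.dupNamespace false
set_option maxHeartbeats 2000000

namespace Cfsg.Agent.Lib.ReeG2.L2

open scoped MatrixGroups Matrix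
open Cfsg Lie ChevalleyDatum
open Cfsg.Agent.Lib.Chev
open Tables Tables2 Tables3 Raise Basic AxBasic Torus Products Products2 Mono1 Mono2 Mono3 Bn ChevSimple
open Cfsg.Agent.Lib.Twisted.Fact Cfsg.Agent.Lib.Twisted.Bruhat Cfsg.Agent.Lib.Twisted.Tw
open Cfsg.Agent.Lib.Twisted.Struct Cfsg.Agent.Lib.Twisted.Check Cfsg.Agent.Lib.Twisted.Ortho
open Cfsg.Agent.Lib.ReeG2.Blocks Cfsg.Agent.Lib.ReeG2.Tw Cfsg.Agent.Lib.ReeG2.Blk7 Cfsg.Agent.Lib.ReeG2.Unip
open Cfsg.Agent.Lib.ReeG2.RTD Cfsg.Agent.Lib.ReeG2.H1 Cfsg.Agent.Lib.ReeG2.Rank1 Cfsg.Agent.Lib.ReeG2.Str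
open Cfsg.Agent.Lib.ReeG2.Fini Cfsg.Agent.Lib.ReeG2.Fini2 Cfsg.Agent.Lib.ReeG2.L Cfsg.Agent.Lib.ReeG2.Rank1b
open Cfsg.Agent.Lib.Chev.SL2 (upM loM)

section Elts

variable {F : Type*} [Field F]

/-- `-1`. -/
def mOne : SL(2, F) := ⟨!![-1, 0; 0, -1], by simp [Matrix.det_fin_two]⟩

/-- The element `i` of the quaternion group. -/
def iM : SL(2, F) := ⟨!![0, 1; -1, 0], by simp [Matrix.det_fin_two]⟩

/-- A diagonal element. -/
def dM (d : Fˣ) : SL(2, F) := ⟨!![(d : F), 0; 0, ((d⁻¹ : Fˣ) : F)], by simp [Matrix.det_fin_two]⟩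

/-- Entries of the block. -/
lemma PM_apply (f : F ≃+* F) (g : SL(2, F)) : PM f g = Pm (g.1 0 0) (g.1 0 1) (g.1 1 0) (g.1 1 1) (f (g.1 0 0)) (f (g.1 0 1)) (f (g.1 1 0)) (f (g.1 1 1)) := rfl

lemma Pm_entries {α β γ δ α' β' γ' δ' : F} (h : Pm α β γ δ α' β' γ' δ' = 1) :
    α * α' = 1 ∧ β * β' = 0 ∧ γ * γ' = 0 ∧ α * δ' = 1 := by
  have e1 : α * α' = (1 : Matrix (Fin 7) (Fin 7) F) 6 6 := congrFun (congrFun h 6) 6
  have e2 : -(β * β') = (1 : Matrix (Fin 7) (Fin 7) F) 6 0 := congrFun (congrFun h 6) 0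
  have e3 : -(γ * γ') = (1 : Matrix (Fin 7) (Fin 7) F) 0 6 := congrFun (congrFun h 0) 6
  have e4 : α * δ' = (1 : Matrix (Fin 7) (Fin 7) F) 4 4 := congrFun (congrFun h 4) 4
  rw [Matrix.one_apply_eq] at e1 e4
  rw [Matrix.one_apply_ne (by decide)] at e2 e3
  exact ⟨e1, neg_eq_zero.mp e2, neg_eq_zero.mp e3, e4⟩

/-- The kernel of `PM`. -/
theorem PM_eq_one (f : F ≃+* F) {g : SL(2, F)} (h : PM f g = 1) : g = 1 ∨ g = mOne := by
  rw [PM_apply] at h
  obtain ⟨e1, e2, e3, e4⟩ := Pm_entries h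
  have hdet := Cfsg.Agent.Lib.Chev.SL2.det_eq g
  have hβ : g.1 0 1 = 0 := by
    rcases mul_eq_zero.mp e2 with h0 | h0
    · exact h0
    · simpa using h0
  have hγ : g.1 1 0 = 0 := by
    rcases mul_eq_zero.mp e3 with h0 | h0
    · exact h0
    · simpa using h0
  have hα0 : g.1 0 0 ≠ 0 := by
    intro h0
    rw [h0, zero_mul] at e1
    exact zero_ne_one e1
  have hδ : g.1 1 1 = g.1 0 0 := by
    have : f (g.1 1 1) = f (g.1 0 0) := mul_left_cancel₀ hα0 (e4.trans e1.symm)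
    exact f.injective this
  rw [hβ, hγ, hδ] at hdet
  have hα : g.1 0 0 = 1 ∨ g.1 0 0 = -1 := by
    apply mul_self_eq_one_iff.mp
    linear_combination hdet
  rcases hα with hα | hα
  · left
    apply Subtype.ext
    ext a b
    fin_cases a <;> fin_cases b <;> simp [hβ, hγ, hδ, hα]
  · right
    apply Subtype.ext
    ext a b
    fin_cases a <;> fin_cases b <;> simp [mOne, hβ, hγ, hδ, hα]

lemma PM_mOne (f : F ≃+* F) : PM f (mOne : SL(2, F)) = 1 := by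
  ext a b
  fin_cases a <;> fin_cases b <;> simp [PM, Pm, mOne]

lemma PM_iM (f : F ≃+* F) : PM f (iM : SL(2, F)) = Jm := by
  ext a b
  fin_cases a <;> fin_cases b <;> simp [PM, Pm, iM, Jm, Fin.rev]

lemma PM_dM (f : F ≃+* F) (d : Fˣ) : PM f (dM d : SL(2, F)) = Dm (d * (uf f d)⁻¹) ((uf f d) ^ 3 * d⁻¹) := by
  have h1 : (d : F) ≠ 0 := d.ne_zero
  have h2 : f (d : F) ≠ 0 := by simpa using h1
  ext a b
  fin_cases a <;> fin_cases b <;> simp [PM, Pm, dM, Dm, uf_val] <;> (try field_simp) <;> (try rfl) <;> (try ring1)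

end Elts

section Twist

variable {F : Type*} [Field F] [CharP F 3] (ax : Ax chevG2 F)
variable (f : F ≃+* F) {e : ℕ} (hf : ∀ t, f t = t ^ e) (hff : ∀ t, f (f t) ^ 3 = t)

include ax hf hff

/-- The kernel of `LL`. -/
theorem LL_eq_one_iff {g : SL(2, F)} : LL ax f hf hff g = 1 ↔ g = 1 ∨ g = mOne := by
  constructor
  · intro h
    have h1 := blk_LL ax f hf hff g
    rw [h] at h1
    have h2 : Blk (((1 : GL chevG2.Idx F)) : Matrix chevG2.Idx chevG2.Idx F) = PM f g := h1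
    rw [Units.val_one, Blk_one] at h2
    exact PM_eq_one f h2.symm
  · rintro (rfl | rfl)
    · exact map_one _
    · apply Subtype.ext
      apply eq_of_blk ax (LL_grp ax f hf hff _) (Subgroup.one_mem _)
      rw [blk_LL]
      show _ = Blk (((1 : GL chevG2.Idx F)) : Matrix chevG2.Idx chevG2.Idx F)
      rw [PM_mOne, Units.val_one, Blk_one]

theorem LL_eq_iff {g h : SL(2, F)} (E : LL ax f hf hff g = LL ax f hf hff h) : g = h ∨ g = mOne * h := by
  have h1 : LL ax f hf hff (g * h⁻¹) = 1 := by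
    rw [map_mul, map_inv, E, mul_inv_cancel]
  rcases (LL_eq_one_iff ax f hf hff).mp h1 with h2 | h2
  · left
    exact mul_inv_eq_one.mp h2
  · right
    rw [← h2]
    group

lemma LL_up (t : F) : ((LL ax f hf hff (upM t) : ↥(twistedG2 F e)) : GL chevG2.Idx F) = xx ax f 0 t 0 := lam_up ax f t

lemma LL_iM : ((LL ax f hf hff iM : ↥(twistedG2 F e)) : GL chevG2.Idx F) = n0 ax := by
  apply eq_of_blk ax (LL_grp ax f hf hff _) (n0_mem ax)
  rw [blk_LL, blk_n0, PM_iM]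

lemma LL_dM (d : Fˣ) : ((LL ax f hf hff (dM d) : ↥(twistedG2 F e)) : GL chevG2.Idx F) =
    tt (d * (uf f d)⁻¹) ((uf f d) ^ 3 * d⁻¹) := by
  apply eq_of_blk ax (LL_grp ax f hf hff _) (tt_mem_group ax _ _)
  rw [blk_LL, blk_tt, PM_dM]

/-- Squares in `H¹` lie in `L`. -/
lemma hh_sq_eq (ν : Fˣ) : hh f (ν ^ 2) = ((LL ax f hf hff (dM ((uf f ν) ^ 3 * ν)) : ↥(twistedG2 F e)) : GL chevG2.Idx F) := by
  rw [LL_dM]
  have huu : uf f (uf f ν) ^ 3 = ν := by
    apply Units.ext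
    simpa using hff (ν : F)
  have e1 : uf f ((uf f ν) ^ 3 * ν) = ν * uf f ν := by
    have : uf f ((uf f ν) ^ 3) = (uf f (uf f ν)) ^ 3 := map_pow _ _ _
    rw [uf_mul, this, huu]
  rw [e1]
  have e2 : ((uf f ν) ^ 3 * ν) * (ν * uf f ν)⁻¹ = uf f (ν ^ 2) := by
    have : uf f (ν ^ 2) = (uf f ν) ^ 2 := map_pow _ _ _
    rw [this]
    apply Units.ext
    have h1 : (ν : F) ≠ 0 := ν.ne_zero
    have h2 : f (ν : F) ≠ 0 := by simpa using h1
    simp only [Units.val_mul, Units.val_pow_eq_pow_val, Units.val_inv_eq_inv_val, uf_val]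
    field_simp
  have e3 : (ν * uf f ν) ^ 3 * ((uf f ν) ^ 3 * ν)⁻¹ = ν ^ 2 := by
    apply Units.ext
    have h1 : (ν : F) ≠ 0 := ν.ne_zero
    have h2 : f (ν : F) ≠ 0 := by simpa using h1
    simp only [Units.val_mul, Units.val_pow_eq_pow_val, Units.val_inv_eq_inv_val, uf_val]
    field_simp
  rw [e2, e3]
  rfl

/-- The involution of `H¹` as an element of `G¹`. -/
def aG : ↥(twistedG2 F e) := ⟨aa, aa_mem ax f hf hff⟩

lemma aG_val : ((aG ax f hf hff : ↥(twistedG2 F e)) : GL chevG2.Idx F) = aa := rfl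

lemma aa_eq_hh : (aa : GL chevG2.Idx F) = hh f (-1) := (hh_neg_one f).symm

lemma aG_sq : aG ax f hf hff * aG ax f hf hff = 1 := by
  apply Subtype.ext
  show (aa : GL chevG2.Idx F) * aa = 1
  rw [aa, tt_mul]
  simp [tt_one]

lemma aa_mem_H : (aa : GL chevG2.Idx F) ∈ chevG2.diagonalSubgroup F := tt_mem_H ax _ _

/-- `a` is not in `L`. -/
theorem aG_not_mem (g : SL(2, F)) : LL ax f hf hff g ≠ aG ax f hf hff := by
  intro E
  have h1 := blk_LL ax f hf hff g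
  rw [E, aG_val, aa, blk_tt, PM_apply] at h1
  have e1 : -(f (g.1 0 1)) ^ 2 = Dm (-1 : Fˣ) (-1) 5 1 := (congrFun (congrFun h1 5) 1).symm
  have e2 : -(f (g.1 1 0)) ^ 2 = Dm (-1 : Fˣ) (-1) 1 5 := (congrFun (congrFun h1 1) 5).symm
  have e3 : (f (g.1 0 0)) ^ 2 = Dm (-1 : Fˣ) (-1) 5 5 := (congrFun (congrFun h1 5) 5).symm
  have e4 : g.1 0 0 * f (g.1 0 0) = Dm (-1 : Fˣ) (-1) 6 6 := (congrFun (congrFun h1 6) 6).symm
  have d55 : Dm (-1 : Fˣ) (-1) 5 5 = 1 := by simp [Dm]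
  have d66 : Dm (-1 : Fˣ) (-1) 6 6 = -1 := by simp [Dm]
  rw [d55] at e3
  rw [d66] at e4
  have e5 : f (g.1 0 0) = 1 ∨ f (g.1 0 0) = -1 := by
    apply mul_self_eq_one_iff.mp
    rw [← pow_two, e3]
  have h3 : (3 : F) = 0 := three_eq_zero
  rcases e5 with h | h
  · have : g.1 0 0 = 1 := f.injective (by rw [h, map_one])
    rw [h, this] at e4
    exact neg_one_ne_one (by simpa using e4.symm)
  · have : g.1 0 0 = -1 := f.injective (by rw [h]; simp)
    rw [h, this] at e4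
    exact neg_one_ne_one (by simpa using e4.symm)

omit ax hf hff in
lemma Dm_comm_PM (g : SL(2, F)) :
    Dm (-1 : Fˣ) (-1) * PM f g = PM f g * Dm (-1 : Fˣ) (-1) := by
  ext a b
  fin_cases a <;> fin_cases b <;> simp [PM, Pm, Dm, Matrix.mul_apply, Fin.sum_univ_succ]

/-- `a` commutes with `L`. -/
theorem aG_comm (g : SL(2, F)) : aG ax f hf hff * LL ax f hf hff g = LL ax f hf hff g * aG ax f hf hff := by
  apply Subtype.ext
  apply eq_of_blk ax (Subgroup.mul_mem _ (tt_mem_group ax _ _) (LL_grp ax f hf hff _))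
    (Subgroup.mul_mem _ (LL_grp ax f hf hff _) (tt_mem_group ax _ _))
  show Blk (((aa * (LL ax f hf hff g).1 : GL chevG2.Idx F)) : Matrix chevG2.Idx chevG2.Idx F) =
    Blk ((((LL ax f hf hff g).1 * aa : GL chevG2.Idx F)) : Matrix chevG2.Idx chevG2.Idx F)
  have haa : (aa : GL chevG2.Idx F) ∈ chevG2.group F := tt_mem_group ax _ _
  rw [blk_mul' ax (LL_grp ax f hf hff _), blk_mul' ax haa, blk_LL, aa, blk_tt]
  exact Dm_comm_PM f g

omit ax hf hff in
lemma aa_comm_n0 (ax : Ax chevG2 F) : (aa : GL chevG2.Idx F) * n0 ax = n0 ax * aa := by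
  have h1 := n0_conj_tt ax (-1) (-1)
  have e1 : ((-1 : Fˣ)⁻¹) = -1 := by simp
  rw [e1, ← aa] at h1
  calc (aa : GL chevG2.Idx F) * n0 ax = (n0 ax * aa * n0 ax) * n0 ax := by rw [h1]
    _ = n0 ax * aa * (n0 ax * n0 ax) := by group
    _ = _ := by rw [n0_sq]; simp

end Twist

end Cfsg.Agent.Lib.ReeG2.L2
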