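import Cfsg.Agent.Lib.ReeG2.L2

/-!
# The centraliser of the involution of `H¹` is `Z₂ × PSL₂(q)`
-/

set_option autoImplicit false
set_option linter.unusedTactic false
set_option linter.unreachableTactic false
set_option linter.unusedSectionVars false
set_option linter.unusedVariables false
set_option linter.ambiguousOpen false
set_option linter.dupNamespace false
set_option maxHeartbeats 2000000

namespace Cfsg.Agent.Lib.ReeG2.L3

open scoped MatrixGroups Matrix
open Cfsg Lie ChevalleyDatum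
open Cfsg.Agent.Lib.Chev
open Tables Tables2 Tables3 Raise Basic AxBasic Torus Products Products2 Mono1 Mono2 Mono3 Bn ChevSimple
open Cfsg.Agent.Lib.Twisted.Fact Cfsg.Agent.Lib.Twisted.Bruhat Cfsg.Agent.Lib.Twisted.Tw
open Cfsg.Agent.Lib.Twisted.Struct Cfsg.Agent.Lib.Twisted.Check Cfsg.Agent.Lib.Twisted.Ortho
open Cfsg.Agent.Lib.ReeG2.Blocks Cfsg.Agent.Lib.ReeG2.Tw Cfsg.Agent.Lib.ReeG2.Blk7 Cfsg.Agent.Lib.ReeG2.Unip
open Cfsg.Agent.Lib.ReeG2.RTD Cfsg.Agent.Lib.ReeG2.H1 Cfsg.Agent.Lib.ReeG2.Rank1 Cfsg.Agent.Lib.ReeG2.Str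
open Cfsg.Agent.Lib.ReeG2.Fini Cfsg.Agent.Lib.ReeG2.Fini2 Cfsg.Agent.Lib.ReeG2.L Cfsg.Agent.Lib.ReeG2.Rank1b
open Cfsg.Agent.Lib.ReeG2.L2
open Cfsg.Agent.Lib.Chev.SL2 (upM loM)

section Twist

variable {F : Type*} [Field F] [CharP F 3] (ax : Ax chevG2 F)
variable (f : F ≃+* F) {e : ℕ} (hf : ∀ t, f t = t ^ e) (hff : ∀ t, f (f t) ^ 3 = t)
variable (hns : ∀ l : Fˣ, (∃ ν : Fˣ, l = ν ^ 2) ∨ ∃ ν : Fˣ, l = -ν ^ 2)

include ax hf hff

/-- `⟨a⟩ L`. -/
def AL : Subgroup ↥(twistedG2 F e) where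
  carrier := {x | ∃ g : SL(2, F), x = LL ax f hf hff g ∨ x = aG ax f hf hff * LL ax f hf hff g}
  one_mem' := ⟨1, Or.inl (map_one _).symm⟩
  mul_mem' := by
    have hs := aG_sq ax f hf hff
    have hc := aG_comm ax f hf hff
    rintro _ _ ⟨g, rfl | rfl⟩ ⟨g', rfl | rfl⟩
    · exact ⟨g * g', Or.inl (map_mul _ _ _).symm⟩
    · refine ⟨g * g', Or.inr ?_⟩
      rw [map_mul, ← mul_assoc, ← mul_assoc, hc]
    · refine ⟨g * g', Or.inr ?_⟩
      rw [map_mul, mul_assoc]
    · refine ⟨g * g', Or.inl ?_⟩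
      rw [map_mul]
      calc aG ax f hf hff * LL ax f hf hff g * (aG ax f hf hff * LL ax f hf hff g')
          = aG ax f hf hff * (LL ax f hf hff g * aG ax f hf hff) * LL ax f hf hff g' := by group
        _ = aG ax f hf hff * (aG ax f hf hff * LL ax f hf hff g) * LL ax f hf hff g' := by rw [hc]
        _ = (aG ax f hf hff * aG ax f hf hff) * LL ax f hf hff g * LL ax f hf hff g' := by group
        _ = _ := by rw [hs]; group
  inv_mem' := by
    have hs := aG_sq ax f hf hff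
    have hc := aG_comm ax f hf hff
    have hi : (aG ax f hf hff)⁻¹ = aG ax f hf hff := inv_eq_of_mul_eq_one_left hs
    rintro _ ⟨g, rfl | rfl⟩
    · exact ⟨g⁻¹, Or.inl (map_inv _ _).symm⟩
    · refine ⟨g⁻¹, Or.inr ?_⟩
      rw [mul_inv_rev, hi, map_inv]
      have := hc g⁻¹
      rw [map_inv] at this
      exact this.symm

lemma LL_mem_AL (g : SL(2, F)) : LL ax f hf hff g ∈ AL ax f hf hff := ⟨g, Or.inl rfl⟩

lemma aG_mem_AL : aG ax f hf hff ∈ AL ax f hf hff := ⟨1, Or.inr (by simp)⟩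

include hns in
lemma H1_le_AL {x : ↥(twistedG2 F e)} (hx : x ∈ HG F e) : x ∈ AL ax f hf hff := by
  obtain ⟨l, hl⟩ := H1_form ax f hf hff hx.1 hx.2
  have hl' : x.1 = hh f l := hl
  have key : ∀ ν : Fˣ, hh f (ν ^ 2) = ((LL ax f hf hff (dM ((uf f ν) ^ 3 * ν)) : ↥(twistedG2 F e)) : GL chevG2.Idx F) :=
    hh_sq_eq ax f hf hff
  rcases hns l with ⟨ν, rfl⟩ | ⟨ν, rfl⟩
  · have : x = LL ax f hf hff (dM ((uf f ν) ^ 3 * ν)) := Subtype.ext (hl'.trans (key ν))
    rw [this]
    exact LL_mem_AL ax f hf hff _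
  · have e1 : x = aG ax f hf hff * LL ax f hf hff (dM ((uf f ν) ^ 3 * ν)) := by
      apply Subtype.ext
      rw [hl']
      show _ = (aa : GL chevG2.Idx F) * _
      rw [← key ν, aa_eq_hh ax f hf hff, ← hh_mul]
      simp
    rw [e1]
    exact Subgroup.mul_mem _ (aG_mem_AL ax f hf hff) (LL_mem_AL ax f hf hff _)

/-- Elements of `U¹` commuting with `a` lie in `L`. -/
lemma U_comm_a {u : ↥(twistedG2 F e)} (hu : u ∈ UG F e) (hc : aG ax f hf hff * u = u * aG ax f hf hff) :
    ∃ s, u = LL ax f hf hff (upM s) := by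
  obtain ⟨t, s, v, hu'⟩ := (mem_U1_iff ax f hf hff).mp hu
  have hu'' : u.1 = xx ax f t s v := hu'
  have h1 : hh f (-1) * xx ax f t s v = xx ax f t s v * hh f (-1) := by
    rw [← hu'', ← aa_eq_hh ax f hf hff]
    exact congrArg Subtype.val hc
  obtain ⟨e1, -, e3⟩ := hh_comm_xx ax f hff h1
  have h2 : (2 : F) ≠ 0 := by
    intro h
    have h3 : (3 : F) = 0 := three_eq_zero
    have : (1 : F) = 0 := by linear_combination h3 - h
    exact one_ne_zero this
  have ht : t = 0 := by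
    have : 2 * t = 0 := by
      simp at e1
      linear_combination -e1
    simpa [h2] using this
  have hv : v = 0 := by
    have h5 : f ((-1 : Fˣ) : F) = -1 := by simp
    rw [h5] at e3
    have : 2 * v = 0 := by
      simp at e3
      linear_combination -e3
    simpa [h2] using this
  refine ⟨s, Subtype.ext ?_⟩
  rw [hu'', LL_up, ht, hv]

include hns in
/-- The centraliser of `a`. -/
theorem C_le_AL {x : ↥(twistedG2 F e)} (hx : aG ax f hf hff * x = x * aG ax f hf hff) : x ∈ AL ax f hf hff := by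
  have S := spR ax f hf hff hns
  have haH : aG ax f hf hff ∈ HG F e :=
    (⟨aa_mem_H ax f hf hff, aa_mem ax f hf hff⟩ : (aa : GL chevG2.Idx F) ∈ chevG2.diagonalSubgroup F ⊓ twistedG2 F e)
  have han : aG ax f hf hff * nG1 ax f hf = nG1 ax f hf * aG ax f hf hff := Subtype.ext (aa_comm_n0 ax)
  have hcomm : ∀ h ∈ HG F e, aG ax f hf hff * h = h * aG ax f hf hff := by
    intro h hh₀
    obtain ⟨l, hl⟩ := H1_form ax f hf hff hh₀.1 hh₀.2
    have hl' : h.1 = hh f l := hl
    apply Subtype.ext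
    show (aa : GL chevG2.Idx F) * h.1 = h.1 * aa
    rw [hl', aa_eq_hh ax f hf hff, ← hh_mul, ← hh_mul, mul_comm]
  have hn : nG1 ax f hf ∈ AL ax f hf hff := by
    have : nG1 ax f hf = LL ax f hf hff iM := Subtype.ext (LL_iM ax f hf hff).symm
    rw [this]
    exact LL_mem_AL ax f hf hff _
  have hU : ∀ {u : ↥(twistedG2 F e)}, u ∈ UG F e → aG ax f hf hff * u = u * aG ax f hf hff → u ∈ AL ax f hf hff := by
    intro u hu hc
    obtain ⟨s, rfl⟩ := U_comm_a ax f hf hff hu hc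
    exact LL_mem_AL ax f hf hff _
  rcases centralizer_form S haH han hcomm hx with ⟨u, hu, hc, h, hh₀, rfl⟩ | ⟨u, hu, hc, h, hh₀, u', hu', hc', rfl⟩
  · exact Subgroup.mul_mem _ (hU hu hc) (H1_le_AL ax f hf hff hns hh₀)
  · exact Subgroup.mul_mem _ (Subgroup.mul_mem _ (Subgroup.mul_mem _ (hU hu hc) hn) (H1_le_AL ax f hf hff hns hh₀)) (hU hu' hc')

/-- The centre of `SL₂` is in the kernel. -/
lemma center_le {g : SL(2, F)} (hg : g ∈ Subgroup.center (SL(2, F))) : LL ax f hf hff g = 1 := by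
  obtain ⟨r, hr, hg⟩ := Matrix.SpecialLinearGroup.mem_center_iff.mp hg
  have hr2 : r * r = 1 := by
    have : r ^ 2 = 1 := by simpa using hr
    rw [← pow_two, this]
  rcases mul_self_eq_one_iff.mp hr2 with rfl | rfl
  · rw [(LL_eq_one_iff ax f hf hff)]
    left
    apply Subtype.ext
    rw [← hg]
    simp
  · rw [(LL_eq_one_iff ax f hf hff)]
    right
    apply Subtype.ext
    rw [← hg]
    ext a b
    fin_cases a <;> fin_cases b <;> simp [mOne]

lemma mOne_mem_center : (mOne : SL(2, F)) ∈ Subgroup.center (SL(2, F)) := by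
  rw [Matrix.SpecialLinearGroup.mem_center_iff]
  refine ⟨-1, by simp, ?_⟩
  ext a b
  fin_cases a <;> fin_cases b <;> simp [mOne]

include hns in
/-- The isomorphism type of the centraliser of `a`. -/
theorem C_iso : Nonempty (↥(Subgroup.centralizer {aG ax f hf hff}) ≃* Multiplicative (ZMod 2) × PSL(2, F)) := by
  set a := aG ax f hf hff with ha
  set C := Subgroup.centralizer {a} with hC
  have mem_C : ∀ {x : ↥(twistedG2 F e)}, x ∈ C ↔ a * x = x * a := by
    intro x
    rw [hC, Subgroup.mem_centralizer_singleton_iff]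
    exact eq_comm
  have hLC : ∀ g : SL(2, F), LL ax f hf hff g ∈ C := fun g => mem_C.mpr (aG_comm ax f hf hff g)
  have haC : a ∈ C := mem_C.mpr rfl
  let LLc : SL(2, F) →* ↥C := (LL ax f hf hff).codRestrict C hLC
  have hLLc : ∀ g, ((LLc g : ↥C) : ↥(twistedG2 F e)) = LL ax f hf hff g := fun g => rfl
  let lq : PSL(2, F) →* ↥C := QuotientGroup.lift _ LLc (by
    intro g hg
    exact Subtype.ext (center_le ax f hf hff hg))
  have hlq : ∀ g : SL(2, F), lq (QuotientGroup.mk g) = LLc g := fun g => rfl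
  have hsq : (⟨a, haC⟩ : ↥C) * ⟨a, haC⟩ = 1 := Subtype.ext (aG_sq ax f hf hff)
  let zp : Multiplicative (ZMod 2) →* ↥C := zhom (⟨a, haC⟩ : ↥C) hsq
  have hcomm : ∀ (x : Multiplicative (ZMod 2)) (y : PSL(2, F)), Commute (zp x) (lq y) := by
    intro x y
    have hd : ∀ x : Multiplicative (ZMod 2), x = 1 ∨ x = Multiplicative.ofAdd 1 := by decide
    have h3 : Multiplicative.ofAdd (1 : ZMod 2) ≠ 1 := by decide
    rcases hd x with rfl | rfl
    · rw [map_one]
      exact Commute.one_left _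
    · have : zp (Multiplicative.ofAdd 1) = ⟨a, haC⟩ := by
        simp [zp, zhom, h3]
      rw [this]
      apply Subtype.ext
      exact mem_C.mp (lq y).2
  let Θ : Multiplicative (ZMod 2) × PSL(2, F) →* ↥C := MonoidHom.noncommCoprod zp lq hcomm
  have hd : ∀ x : Multiplicative (ZMod 2), x = 1 ∨ x = Multiplicative.ofAdd 1 := by decide
  have h3 : Multiplicative.ofAdd (1 : ZMod 2) ≠ 1 := by decide
  have hz1 : zp (Multiplicative.ofAdd 1) = ⟨a, haC⟩ := by
    simp [zp, zhom, h3]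
  have hinj : Function.Injective Θ := by
    rw [injective_iff_map_eq_one]
    rintro ⟨x, y⟩ h
    obtain ⟨g, rfl⟩ := QuotientGroup.mk_surjective y
    have h' : zp x * lq (QuotientGroup.mk g) = 1 := h
    rw [hlq] at h'
    rcases hd x with rfl | rfl
    · rw [map_one, one_mul] at h'
      have h1 : LL ax f hf hff g = 1 := congrArg Subtype.val h'
      have h2 : g ∈ Subgroup.center (SL(2, F)) := by
        rcases (LL_eq_one_iff ax f hf hff).mp h1 with rfl | rfl
        · exact Subgroup.one_mem _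
        · exact mOne_mem_center ax f hf hff
      have h4 : (QuotientGroup.mk g : PSL(2, F)) = 1 := (QuotientGroup.eq_one_iff g).mpr h2
      rw [h4]
      rfl
    · exfalso
      rw [hz1] at h'
      have h1 : a * LL ax f hf hff g = 1 := congrArg Subtype.val h'
      have h2 : LL ax f hf hff g = a := by
        have h5 : a⁻¹ = a := inv_eq_of_mul_eq_one_left (aG_sq ax f hf hff)
        rw [← h5]
        exact eq_inv_of_mul_eq_one_right h1
      exact aG_not_mem ax f hf hff g h2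
  have hsurj : Function.Surjective Θ := by
    rintro ⟨x, hx⟩
    obtain ⟨g, h | h⟩ := C_le_AL ax f hf hff hns (mem_C.mp hx)
    · refine ⟨(1, QuotientGroup.mk g), Subtype.ext ?_⟩
      show ((zp 1 * lq (QuotientGroup.mk g) : ↥C) : ↥(twistedG2 F e)) = x
      rw [map_one, one_mul, hlq, h]
      rfl
    · refine ⟨(Multiplicative.ofAdd 1, QuotientGroup.mk g), Subtype.ext ?_⟩
      show ((zp (Multiplicative.ofAdd 1) * lq (QuotientGroup.mk g) : ↥C) : ↥(twistedG2 F e)) = x
      rw [hz1, hlq, h]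
      rfl
  exact ⟨(MulEquiv.ofBijective Θ ⟨hinj, hsurj⟩).symm⟩

end Twist

end Cfsg.Agent.Lib.ReeG2.L3
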