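import Cfsg.Agent.Lib.ReeG2.L3
import Cfsg.Agent.Lib.ReeG2.E8

/-!
# The elementary abelian subgroup of order eight
-/

set_option autoImplicit false
set_option linter.unusedTactic false
set_option linter.unreachableTactic false
set_option linter.unusedSectionVars false
set_option linter.unusedVariables false
set_option linter.ambiguousOpen false
set_option linter.dupNamespace false
set_option maxHeartbeats 2000000

namespace Cfsg.Agent.Lib.ReeG2.L4

open scoped MatrixGroups Matrix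
open Cfsg Lie ChevalleyDatum
open Cfsg.Agent.Lib.Chev
open Tables Tables2 Tables3 Raise Basic AxBasic Torus Products Products2 Mono1 Mono2 Mono3 Bn ChevSimple
open Cfsg.Agent.Lib.Twisted.Fact Cfsg.Agent.Lib.Twisted.Bruhat Cfsg.Agent.Lib.Twisted.Tw
open Cfsg.Agent.Lib.Twisted.Struct Cfsg.Agent.Lib.Twisted.Check Cfsg.Agent.Lib.Twisted.Ortho
open Cfsg.Agent.Lib.ReeG2.Blocks Cfsg.Agent.Lib.ReeG2.Tw Cfsg.Agent.Lib.ReeG2.Blk7 Cfsg.Agent.Lib.ReeG2.Unip
open Cfsg.Agent.Lib.ReeG2.RTD Cfsg.Agent.Lib.ReeG2.H1 Cfsg.Agent.Lib.ReeG2.Rank1 Cfsg.Agent.Lib.ReeG2.Str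
open Cfsg.Agent.Lib.ReeG2.Fini Cfsg.Agent.Lib.ReeG2.Fini2 Cfsg.Agent.Lib.ReeG2.L Cfsg.Agent.Lib.ReeG2.Rank1b
open Cfsg.Agent.Lib.ReeG2.L2 Cfsg.Agent.Lib.ReeG2.L3 Cfsg.Agent.Lib.ReeG2.E8
open Cfsg.Agent.Lib.Chev.SL2 (upM loM)

section Elts

variable {F : Type*} [Field F] [CharP F 3]

/-- The element `j` of the quaternion group. -/
def jM : SL(2, F) := ⟨!![1, 1; 1, -1], by
  have h3 : (3 : F) = 0 := three_eq_zero
  simp [Matrix.det_fin_two]
  linear_combination -h3⟩

lemma iM_sq : (iM : SL(2, F)) * iM = mOne := by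
  apply Subtype.ext
  show (iM : SL(2, F)).1 * (iM : SL(2, F)).1 = _
  ext a b
  fin_cases a <;> fin_cases b <;> simp [iM, mOne, Matrix.mul_apply, Fin.sum_univ_succ]

lemma jM_sq : (jM : SL(2, F)) * jM = mOne := by
  have h3 : (3 : F) = 0 := three_eq_zero
  apply Subtype.ext
  show (jM : SL(2, F)).1 * (jM : SL(2, F)).1 = _
  ext a b
  fin_cases a <;> fin_cases b <;> simp [jM, mOne, Matrix.mul_apply, Fin.sum_univ_succ]
  all_goals linear_combination h3

lemma iM_jM : (iM : SL(2, F)) * jM = mOne * (jM * iM) := by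
  apply Subtype.ext
  show (iM : SL(2, F)).1 * (jM : SL(2, F)).1 = (mOne : SL(2, F)).1 * ((jM : SL(2, F)).1 * (iM : SL(2, F)).1)
  ext a b
  fin_cases a <;> fin_cases b <;> simp [iM, jM, mOne, Matrix.mul_apply, Fin.sum_univ_succ]

end Elts

section Twist

variable {F : Type*} [Field F] [CharP F 3] (ax : Ax chevG2 F)
variable (f : F ≃+* F) {e : ℕ} (hf : ∀ t, f t = t ^ e) (hff : ∀ t, f (f t) ^ 3 = t)

include ax hf hff

/-- The elementary abelian subgroup. -/
theorem isE8 : IsE8 (aG ax f hf hff) (LL ax f hf hff iM) (LL ax f hf hff jM) := by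
  have hm : LL ax f hf hff (mOne : SL(2, F)) = 1 := (LL_eq_one_iff ax f hf hff).mpr (Or.inr rfl)
  have h1neg : (1 : F) ≠ -1 := fun h => neg_one_ne_one (F := F) h.symm
  have hi1 : ∀ g : SL(2, F), g = 1 ∨ g = mOne → g.1 0 1 = 0 ∧ g.1 1 0 = 0 ∧ g.1 0 0 = g.1 1 1 := by
    rintro g (rfl | rfl)
    · simp
    · simp [mOne]
  refine ⟨aG_sq ax f hf hff, ?_, ?_, aG_comm ax f hf hff _, aG_comm ax f hf hff _, ?_, ?_⟩
  · rw [← map_mul, iM_sq, hm]
  · rw [← map_mul, jM_sq, hm]
  · rw [← map_mul, iM_jM, map_mul, hm, one_mul, map_mul]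
  · have key : ∀ j k : Bool, pw (LL ax f hf hff iM) j * pw (LL ax f hf hff jM) k =
        LL ax f hf hff (pw iM j * pw jM k) := by
      intro j k
      rw [map_mul]
      cases j <;> cases k <;> simp
    intro i j k h
    rw [mul_assoc, key] at h
    cases i
    · simp only [pw_false, one_mul] at h
      have h2 := (LL_eq_one_iff ax f hf hff).mp h
      obtain ⟨e1, e2, e3⟩ := hi1 _ h2
      refine ⟨rfl, ?_⟩
      cases j <;> cases k
      · exact ⟨rfl, rfl⟩
      · exfalso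
        have e1' : (jM : SL(2, F)).1 0 1 = 0 := by simpa using e1
        simp [jM] at e1'
      · exfalso
        have e1' : (iM : SL(2, F)).1 0 1 = 0 := by simpa using e1
        simp [iM] at e1'
      · exfalso
        have : (iM : SL(2, F)).1 * (jM : SL(2, F)).1 = (pw iM true * pw jM true : SL(2, F)).1 := rfl
        rw [← this] at e3
        simp [iM, jM, Matrix.mul_apply, Fin.sum_univ_succ] at e3
        exact h1neg e3
    · exfalso
      simp only [pw_true] at h
      have h5 : (aG ax f hf hff)⁻¹ = aG ax f hf hff := inv_eq_of_mul_eq_one_left (aG_sq ax f hf hff)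
      have h6 := eq_inv_of_mul_eq_one_right h
      rw [h5] at h6
      exact aG_not_mem ax f hf hff _ h6

end Twist

/-- The order of the group is eight times an odd number. -/
lemma card_eq_eight_mul {K : Type*} [Field K] [Fintype K] {m : ℕ} (hK : Fintype.card K = 3 ^ (2 * m + 1)) :
    ∃ k, Nat.card ↥(twistedG2 K (3 ^ m)) = 8 * k ∧ Odd k := by
  rw [res1069 hK]
  set q := 3 ^ (2 * m + 1) with hq
  have h8 : q % 8 = 3 := by
    rw [hq, pow_succ, pow_mul]
    norm_num [Nat.mul_mod, Nat.pow_mod]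
  have h3 : q ^ 3 % 8 = 3 := by
    rw [Nat.pow_mod, h8]
  have hqodd : Odd q := by
    rw [hq]
    exact Odd.pow (by decide)
  obtain ⟨x, hx⟩ : ∃ x, q = 8 * x + 3 := ⟨q / 8, by omega⟩
  obtain ⟨y, hy⟩ : ∃ y, q ^ 3 = 8 * y + 3 := ⟨q ^ 3 / 8, by omega⟩
  refine ⟨q ^ 3 * (4 * x + 1) * (2 * y + 1), ?_, ?_⟩
  · have e1 : q - 1 = 2 * (4 * x + 1) := by omega
    have e2 : q ^ 3 + 1 = 4 * (2 * y + 1) := by omega
    rw [e1, e2]
    ring
  · apply Odd.mul (Odd.mul (hqodd.pow) ?_) ?_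
    · exact ⟨2 * x, by ring⟩
    · exact ⟨y, by ring⟩

theorem res1152 {K : Type*} [Field K] [Fintype K] {m : ℕ} (hK : Fintype.card K = 3 ^ (2 * m + 1))
    (a : ↥(twistedG2 K (3 ^ m))) (haH : (a : GL chevG2.Idx K) ∈ chevG2.diagonalSubgroup K) (ha1 : a ≠ 1) (ha2 : a * a = 1) :
    Nonempty (↥(Subgroup.centralizer {a}) ≃* Multiplicative (ZMod 2) × Matrix.ProjectiveSpecialLinearGroup (Fin 2) K) ∧
      ∀ S : Sylow 2 ↥(twistedG2 K (3 ^ m)), Nat.card S = 8 ∧ ∀ x ∈ S, x * x = 1 := by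
  obtain ⟨hc, f, hf, hff, ax, hns⟩ := exists_ctx hK
  haveI := hc
  haveI : Finite ↥(twistedG2 K (3 ^ m)) := inferInstance
  constructor
  · have ha : a = aG ax f hf hff := by
      obtain ⟨l, hl⟩ := H1_form ax f hf hff haH a.2
      have hl' : a.1 = hh f l := hl
      have h1 : hh f (l * l) = 1 := by
        rw [hh_mul, ← hl']
        exact congrArg Subtype.val ha2
      have h2 : l * l = 1 := hh_injective ax f hff (by rw [h1, hh_one])
      have h3 : (l : K) * (l : K) = 1 := by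
        have := congrArg Units.val h2
        simpa using this
      have h4 : l = 1 ∨ l = -1 := by
        rcases mul_self_eq_one_iff.mp h3 with h5 | h5
        · exact Or.inl (Units.ext h5)
        · exact Or.inr (Units.ext (by simpa using h5))
      rcases h4 with rfl | rfl
      · exact absurd (Subtype.ext (by rw [hl', hh_one]; rfl)) ha1
      · apply Subtype.ext
        rw [hl', aG_val, aa_eq_hh ax f hf hff]
    rw [ha]
    exact C_iso ax f hf hff hns
  · obtain ⟨k, hk, hodd⟩ := card_eq_eight_mul hK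
    intro S
    exact (isE8 ax f hf hff).sylow hk hodd S

end Cfsg.Agent.Lib.ReeG2.L4
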