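import Cfsg.Agent.Lib.ReeG2.L5
import Cfsg.Agent.Lib.ReeG2.GL7

/-!
# The non-split torus of `SL₂` and its image in `G¹`
-/

set_option autoImplicit false
set_option linter.unusedTactic false
set_option linter.unreachableTactic false
set_option linter.unusedSectionVars false
set_option linter.unusedVariables false
set_option linter.ambiguousOpen false
set_option linter.dupNamespace false
set_option maxHeartbeats 2000000

namespace Cfsg.Agent.Lib.ReeG2.T

open scoped MatrixGroups Matrix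
open Cfsg Lie ChevalleyDatum
open Cfsg.Agent.Lib.Chev
open Tables Tables2 Tables3 Raise Basic AxBasic Torus Products Products2 Mono1 Mono2 Mono3 Bn ChevSimple
open Cfsg.Agent.Lib.Twisted.Fact Cfsg.Agent.Lib.Twisted.Bruhat Cfsg.Agent.Lib.Twisted.Tw
open Cfsg.Agent.Lib.Twisted.Struct Cfsg.Agent.Lib.Twisted.Check Cfsg.Agent.Lib.Twisted.Ortho
open Cfsg.Agent.Lib.ReeG2.Blocks Cfsg.Agent.Lib.ReeG2.Tw Cfsg.Agent.Lib.ReeG2.Blk7 Cfsg.Agent.Lib.ReeG2.Unip
open Cfsg.Agent.Lib.ReeG2.RTD Cfsg.Agent.Lib.ReeG2.H1 Cfsg.Agent.Lib.ReeG2.Rank1 Cfsg.Agent.Lib.ReeG2.Str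
open Cfsg.Agent.Lib.ReeG2.Fini Cfsg.Agent.Lib.ReeG2.Fini2 Cfsg.Agent.Lib.ReeG2.L Cfsg.Agent.Lib.ReeG2.Rank1b
open Cfsg.Agent.Lib.ReeG2.L2 Cfsg.Agent.Lib.ReeG2.L3 Cfsg.Agent.Lib.ReeG2.E8 Cfsg.Agent.Lib.ReeG2.L4 Cfsg.Agent.Lib.ReeG2.L5
open Cfsg.Agent.Lib.Chev.SL2 (upM loM)

section Torus

variable {F : Type*} [Field F] [CharP F 3]

/-- The non-split torus: the centraliser of `i`. -/
def TT (F : Type*) [Field F] : Subgroup SL(2, F) := Subgroup.centralizer {iM}

lemma mem_TT {g : SL(2, F)} : g ∈ TT F ↔ g.1 1 1 = g.1 0 0 ∧ g.1 1 0 = -(g.1 0 1) := by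
  have i00 : (iM : SL(2, F)).1 0 0 = 0 := rfl
  have i01 : (iM : SL(2, F)).1 0 1 = 1 := rfl
  have i10 : (iM : SL(2, F)).1 1 0 = -1 := rfl
  have i11 : (iM : SL(2, F)).1 1 1 = 0 := rfl
  rw [TT, Subgroup.mem_centralizer_singleton_iff]
  constructor
  · intro h
    have e1 : (g * iM).1 0 0 = (iM * g).1 0 0 := by rw [h]
    have e2 : (g * iM).1 0 1 = (iM * g).1 0 1 := by rw [h]
    rw [mul_entry, mul_entry, i00, i01, i10] at e1
    rw [mul_entry, mul_entry, i00, i01, i11] at e2
    constructor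
    · linear_combination -e2
    · linear_combination -e1
  · rintro ⟨h1, h2⟩
    apply Subtype.ext
    ext a b
    have e : ∀ x y : SL(2, F), ((x * y : SL(2, F)) : Matrix (Fin 2) (Fin 2) F) a b = x.1 a 0 * y.1 0 b + x.1 a 1 * y.1 1 b :=
      fun x y => mul_entry x y a b
    rw [e, e]
    fin_cases a <;> fin_cases b <;> simp only [Fin.zero_eta, Fin.mk_one, i00, i01, i10, i11, h1, h2] <;> ring

/-- An element of the torus. -/
def tmk (x y : F) (h : x * x + y * y = 1) : SL(2, F) :=
  ⟨!![x, y; -y, x], by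
    simp [Matrix.det_fin_two]
    linear_combination h⟩

lemma tmk_00 (x y : F) (h : x * x + y * y = 1) : (tmk x y h).1 0 0 = x := rfl
lemma tmk_01 (x y : F) (h : x * x + y * y = 1) : (tmk x y h).1 0 1 = y := rfl
lemma tmk_10 (x y : F) (h : x * x + y * y = 1) : (tmk x y h).1 1 0 = -y := rfl
lemma tmk_11 (x y : F) (h : x * x + y * y = 1) : (tmk x y h).1 1 1 = x := rfl

lemma tmk_mem (x y : F) (h : x * x + y * y = 1) : tmk x y h ∈ TT F := mem_TT.mpr ⟨rfl, rfl⟩

lemma TT_det {g : SL(2, F)} (hg : g ∈ TT F) : g.1 0 0 * g.1 0 0 + g.1 0 1 * g.1 0 1 = 1 := by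
  have h := Cfsg.Agent.Lib.Chev.SL2.det_eq g
  obtain ⟨h1, h2⟩ := mem_TT.mp hg
  rw [h1, h2] at h
  linear_combination h

lemma TT_ext {g g' : SL(2, F)} (hg : g ∈ TT F) (hg' : g' ∈ TT F) (e0 : g.1 0 0 = g'.1 0 0) (e1 : g.1 0 1 = g'.1 0 1) :
    g = g' := by
  obtain ⟨h1, h2⟩ := mem_TT.mp hg
  obtain ⟨h3, h4⟩ := mem_TT.mp hg'
  apply Subtype.ext
  ext a b
  fin_cases a <;> fin_cases b
  · exact e0
  · exact e1
  · show g.1 1 0 = g'.1 1 0
    rw [h2, h4, e1]
  · show g.1 1 1 = g'.1 1 1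
    rw [h1, h3, e0]

lemma mOne_mem_TT : (mOne : SL(2, F)) ∈ TT F := mem_TT.mpr ⟨rfl, by simp [mOne]⟩

lemma iM_mem_TT : (iM : SL(2, F)) ∈ TT F := mem_TT.mpr ⟨rfl, rfl⟩

/-- Stereographic projection. -/
theorem card_TT [Finite F] (h : ∀ c : F, c * c ≠ -1) : Nat.card (TT F) = Nat.card F + 1 := by
  classical
  have h3' : (3 : F) = 0 := three_eq_zero
  have h2 : (2 : F) ≠ 0 := by
    intro h5
    have : (1 : F) = 0 := by linear_combination h3' - h5
    exact one_ne_zero this
  have hne : ∀ t : F, 1 + t * t ≠ 0 := by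
    intro t ht
    exact h t (by linear_combination ht)
  have hne' : ∀ t : F, 1 + t ^ 2 ≠ 0 := by
    intro t
    rw [pow_two]
    exact hne t
  have hcirc : ∀ t : F, ((1 - t * t) / (1 + t * t)) * ((1 - t * t) / (1 + t * t)) + (2 * t / (1 + t * t)) * (2 * t / (1 + t * t)) = 1 := by
    intro t
    have := hne' t
    field_simp
    ring
  rw [← Finite.card_option]
  apply Nat.card_congr
  symm
  let fr : Option F → TT F := fun o => o.elim ⟨mOne, mOne_mem_TT⟩ (fun t => ⟨tmk _ _ (hcirc t), tmk_mem _ _ _⟩)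
  let tt : TT F → Option F := fun g => if g.1.1 0 0 = -1 then none else some (g.1.1 0 1 / (1 + g.1.1 0 0))
  refine ⟨fr, tt, ?_, ?_⟩
  · intro o
    cases o with
    | none =>
      show tt ⟨mOne, mOne_mem_TT⟩ = none
      exact if_pos rfl
    | some t =>
      show tt ⟨tmk _ _ (hcirc t), tmk_mem _ _ _⟩ = some t
      have h1 := hne t
      have h1' := hne' t
      have h3 : (1 - t * t) / (1 + t * t) ≠ -1 := by
        intro h4
        rw [div_eq_iff h1] at h4
        apply h2
        linear_combination h4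
      have e0 : (tmk _ _ (hcirc t)).1 0 0 = (1 - t * t) / (1 + t * t) := rfl
      have e1 : (tmk _ _ (hcirc t)).1 0 1 = 2 * t / (1 + t * t) := rfl
      show (if (tmk _ _ (hcirc t)).1 0 0 = -1 then none else some ((tmk _ _ (hcirc t)).1 0 1 / (1 + (tmk _ _ (hcirc t)).1 0 0))) = some t
      rw [e0, e1, if_neg h3]
      congr 1
      have h5 : 1 + (1 - t * t) / (1 + t * t) = 2 / (1 + t * t) := by
        rw [eq_div_iff h1, add_mul, div_mul_cancel₀ _ h1]
        ring
      rw [h5, div_div_eq_mul_div, div_mul_cancel₀ _ h1]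
      field_simp
  · rintro ⟨g, hg⟩
    have hd := TT_det hg
    by_cases hx : g.1 0 0 = -1
    · have e : tt ⟨g, hg⟩ = none := if_pos hx
      show fr (tt ⟨g, hg⟩) = ⟨g, hg⟩
      rw [e]
      apply Subtype.ext
      apply TT_ext mOne_mem_TT hg
      · rw [hx]; rfl
      · have : g.1 0 1 * g.1 0 1 = 0 := by
          rw [hx] at hd
          linear_combination hd
        have h4 : g.1 0 1 = 0 := mul_self_eq_zero.mp this
        rw [h4]
        rfl
    · have e : tt ⟨g, hg⟩ = some (g.1 0 1 / (1 + g.1 0 0)) := if_neg hx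
      show fr (tt ⟨g, hg⟩) = ⟨g, hg⟩
      rw [e]
      apply Subtype.ext
      show tmk _ _ (hcirc (g.1 0 1 / (1 + g.1 0 0))) = g
      set x := g.1 0 0 with hxd
      set y := g.1 0 1 with hyd
      have h1x : 1 + x ≠ 0 := by
        intro h5
        apply hx
        linear_combination h5
      have e5 : 1 + (y / (1 + x)) * (y / (1 + x)) = 2 / (1 + x) := by
        field_simp
        linear_combination hd
      apply TT_ext (tmk_mem _ _ (hcirc _)) hg
      · rw [tmk_00, e5, ← hxd]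
        field_simp
        linear_combination -hd
      · rw [tmk_01, e5, ← hyd]
        field_simp

/-- The torus is cyclic. -/
theorem isCyclic_TT [Finite F] (h : ∀ c : F, c * c ≠ -1) : IsCyclic (TT F) := by
  classical
  open Polynomial in
  have hirr : Irreducible (X ^ 2 + 1 : F[X]) := by
    have hm : (X ^ 2 + 1 : F[X]).Monic := by monicity!
    have hd : (X ^ 2 + 1 : F[X]).natDegree = 2 := by compute_degree!
    rw [hm.irreducible_iff_roots_eq_zero_of_degree_le_three (by omega) (by omega)]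
    rw [Multiset.eq_zero_iff_forall_notMem]
    intro c hc
    have hc' := (mem_roots'.mp hc).2
    simp only [IsRoot, eval_add, eval_pow, eval_X, eval_one] at hc'
    exact h c (by linear_combination hc')
  open Polynomial in
  haveI : Fact (Irreducible (X ^ 2 + 1 : F[X])) := ⟨hirr⟩
  open Polynomial in
  let E := AdjoinRoot (X ^ 2 + 1 : F[X])
  open Polynomial in
  let i : E := AdjoinRoot.root (X ^ 2 + 1 : F[X])
  open Polynomial in
  let κ : F →+* E := AdjoinRoot.of (X ^ 2 + 1 : F[X])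
  have hi : i * i = -1 := by
    have h1 : (AdjoinRoot.mk (Polynomial.X ^ 2 + 1 : Polynomial F)) (Polynomial.X ^ 2 + 1) = 0 := AdjoinRoot.mk_self
    rw [map_add, map_pow, AdjoinRoot.mk_X, map_one] at h1
    show i * i = -1
    have h2 : i ^ 2 + 1 = 0 := h1
    linear_combination h2
  let φ : TT F →* E :=
    { toFun := fun g => κ (g.1.1 0 0) + κ (g.1.1 0 1) * i
      map_one' := by
        show κ ((1 : SL(2, F)).1 0 0) + κ ((1 : SL(2, F)).1 0 1) * i = 1
        simp
      map_mul' := by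
        rintro ⟨g, hg⟩ ⟨g', hg'⟩
        show κ ((g * g').1 0 0) + κ ((g * g').1 0 1) * i = (κ (g.1 0 0) + κ (g.1 0 1) * i) * (κ (g'.1 0 0) + κ (g'.1 0 1) * i)
        obtain ⟨h1, h2⟩ := mem_TT.mp hg
        obtain ⟨h3, h4⟩ := mem_TT.mp hg'
        rw [mul_entry, mul_entry, h3, h4]
        simp only [map_add, map_mul, map_neg]
        linear_combination (-(κ (g.1 0 1)) * κ (g'.1 0 1)) * hi }
  apply isCyclic_of_subgroup_isDomain φ
  intro g g' e
  have e' : κ (g.1.1 0 0) + κ (g.1.1 0 1) * i = κ (g'.1.1 0 0) + κ (g'.1.1 0 1) * i := e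
  have hκ : Function.Injective κ := κ.injective
  have hy : g.1.1 0 1 = g'.1.1 0 1 := by
    by_contra hne
    have h5 : κ (g.1.1 0 1 - g'.1.1 0 1) ≠ 0 := by
      rw [Ne, map_eq_zero]
      exact sub_ne_zero.mpr hne
    have h6 : i = κ ((g'.1.1 0 0 - g.1.1 0 0) / (g.1.1 0 1 - g'.1.1 0 1)) := by
      rw [map_div₀, eq_div_iff h5, map_sub, map_sub]
      linear_combination e'
    rw [h6] at hi
    have h7 : κ (((g'.1.1 0 0 - g.1.1 0 0) / (g.1.1 0 1 - g'.1.1 0 1)) * ((g'.1.1 0 0 - g.1.1 0 0) / (g.1.1 0 1 - g'.1.1 0 1))) = κ (-1) := by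
      rw [map_mul, hi, map_neg, map_one]
    exact h _ (hκ h7)
  have hx : g.1.1 0 0 = g'.1.1 0 0 := by
    apply hκ
    rw [hy] at e'
    exact add_right_cancel e'
  exact Subtype.ext (TT_ext g.2 g'.2 hx hy)

end Torus

section Twist

variable {F : Type*} [Field F] [CharP F 3] (ax : Ax chevG2 F)
variable (f : F ≃+* F) {e : ℕ} (hf : ∀ t, f t = t ^ e) (hff : ∀ t, f (f t) ^ 3 = t)

/-- The image of the torus. -/
noncomputable def LLT : Subgroup ↥(twistedG2 F e) := ((LL ax f hf hff).comp (TT F).subtype).range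

lemma mem_LLT {x : ↥(twistedG2 F e)} : x ∈ LLT ax f hf hff ↔ ∃ g ∈ TT F, LL ax f hf hff g = x := by
  constructor
  · rintro ⟨g, rfl⟩
    exact ⟨g.1, g.2, rfl⟩
  · rintro ⟨g, hg, rfl⟩
    exact ⟨⟨g, hg⟩, rfl⟩

theorem isCyclic_LLT [Finite F] (h : ∀ c : F, c * c ≠ -1) : IsCyclic (LLT ax f hf hff) := by
  haveI := isCyclic_TT h
  exact isCyclic_of_surjective ((LL ax f hf hff).comp (TT F).subtype).rangeRestrict
    ((LL ax f hf hff).comp (TT F).subtype).rangeRestrict_surjective

theorem card_LLT [Finite F] (h : ∀ c : F, c * c ≠ -1) : 2 * Nat.card (LLT ax f hf hff) = Nat.card F + 1 := by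
  have h1 := Subgroup.card_mul_index ((LL ax f hf hff).comp (TT F).subtype).ker
  rw [Subgroup.index_ker, card_TT h] at h1
  have hker : Nat.card ((LL ax f hf hff).comp (TT F).subtype).ker = 2 := by
    rw [Nat.card_eq_two_iff]
    refine ⟨⟨1, ?_⟩, ⟨⟨mOne, mOne_mem_TT⟩, ?_⟩, ?_, ?_⟩
    · exact one_mem _
    · exact (LL_eq_one_iff ax f hf hff).mpr (Or.inr rfl)
    · intro h2
      have h3 : (1 : SL(2, F)) = mOne := congrArg (fun x => x.1.1) h2
      have h4 : (1 : SL(2, F)).1 0 0 = (mOne : SL(2, F)).1 0 0 := by rw [← h3]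
      have h5 : (1 : F) = -1 := by simpa [mOne] using h4
      exact neg_one_ne_one h5.symm
    · ext x
      simp only [Set.mem_insert_iff, Set.mem_singleton_iff, Set.mem_univ, iff_true]
      rcases (LL_eq_one_iff ax f hf hff).mp x.2 with h2 | h2
      · left
        exact Subtype.ext (Subtype.ext h2)
      · right
        exact Subtype.ext (Subtype.ext h2)
  rw [hker] at h1
  exact h1

end Twist

section Main

variable {K : Type*} [Field K] [Fintype K] {m : ℕ}

lemma neg_one_not_sq (hK : Fintype.card K = 3 ^ (2 * m + 1)) (c : K) : c * c ≠ -1 := by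
  intro h
  have h1 : IsSquare (-1 : K) := ⟨c, h.symm⟩
  rw [FiniteField.isSquare_neg_one_iff, hK] at h1
  apply h1
  rw [pow_succ, pow_mul]
  norm_num [Nat.mul_mod, Nat.pow_mod]

/-- The factorisation of the order of the group. -/
lemma card_G_eq (hK : Fintype.card K = 3 ^ (2 * m + 1)) :
    ∃ q, q = 3 ^ (2 * m + 1) ∧ Nat.card ↥(twistedG2 K (3 ^ m)) = q ^ 3 * (q - 1) * ((q + 1) * (q ^ 2 + 1 - q)) := by
  refine ⟨_, rfl, ?_⟩
  rw [res1069 hK]
  congr 1
  set q := 3 ^ (2 * m + 1) with hq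
  have h1 : 1 ≤ q := Nat.one_le_pow _ _ (by norm_num)
  zify [show q ≤ q ^ 2 + 1 by nlinarith]
  ring

/-- The Sylow subgroups for primes above three are cyclic. -/
theorem sylow_cyclic (hK : Fintype.card K = 3 ^ (2 * m + 1))
    {p : ℕ} [hp : Fact p.Prime] (hp3 : 3 < p) (P : Sylow p ↥(twistedG2 K (3 ^ m))) :
    IsCyclic (P : Subgroup ↥(twistedG2 K (3 ^ m))) := by
  obtain ⟨hc, f, hf, hff, ax, hns⟩ := exists_ctx hK
  haveI := hc
  haveI : Finite ↥(twistedG2 K (3 ^ m)) := inferInstance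
  obtain ⟨q, hq, hG⟩ := card_G_eq (K := K) hK
  have hq1 : 1 ≤ q := by rw [hq]; exact Nat.one_le_pow _ _ (by norm_num)
  have hq3 : 3 ≤ q := by
    rw [hq, pow_succ]
    have : 1 ≤ 3 ^ (2 * m) := Nat.one_le_pow _ _ (by norm_num)
    omega
  have hodd : Odd q := by rw [hq]; exact Odd.pow (by decide)
  have hpq : ¬ p ∣ q := by
    intro h
    rw [hq] at h
    have := hp.out.dvd_of_dvd_pow h
    have := Nat.le_of_dvd (by norm_num) this
    omega
  have hcardK : Nat.card K = q := by rw [Nat.card_eq_fintype_card, hK, hq]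
  by_cases hdvd : p ∣ Nat.card ↥(twistedG2 K (3 ^ m))
  · rw [hG, (Nat.Prime.dvd_mul hp.out), (Nat.Prime.dvd_mul hp.out), (Nat.Prime.dvd_mul hp.out)] at hdvd
    rcases hdvd with (h1 | h1) | (h1 | h1)
    · exact absurd (hp.out.dvd_of_dvd_pow h1) hpq
    · -- `p ∣ q - 1`
      let Hs := HG K (3 ^ m)
      haveI : IsCyclic Hs := by
        have e := Subgroup.subgroupOfEquivOfLe (G := GL chevG2.Idx K) (H := chevG2.diagonalSubgroup K ⊓ twistedG2 K (3 ^ m)) (K := twistedG2 K (3 ^ m)) inf_le_right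
        haveI := res1150 hK
        exact isCyclic_of_injective e.toMonoidHom e.injective
      have hcard : Nat.card Hs = q - 1 := by
        have e := Subgroup.subgroupOfEquivOfLe (G := GL chevG2.Idx K) (H := chevG2.diagonalSubgroup K ⊓ twistedG2 K (3 ^ m)) (K := twistedG2 K (3 ^ m)) inf_le_right
        rw [Nat.card_congr e.toEquiv, res1114 hK, hq]
      have hidx : ¬ p ∣ Hs.index := by
        have h2 := Subgroup.card_mul_index Hs
        rw [hcard, hG] at h2
        have h3 : Hs.index = q ^ 3 * ((q + 1) * (q ^ 2 + 1 - q)) := by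
          apply Nat.eq_of_mul_eq_mul_left (show 0 < q - 1 by omega)
          rw [h2]
          ring
        rw [h3, Nat.Prime.dvd_mul hp.out, Nat.Prime.dvd_mul hp.out]
        obtain ⟨d, rfl⟩ : ∃ d, q = d + 1 := ⟨q - 1, by omega⟩
        simp only [Nat.add_sub_cancel] at h1
        rintro (h4 | h4 | h4)
        · exact hpq (hp.out.dvd_of_dvd_pow h4)
        · have e5 : d + 1 + 1 = d + 2 := by ring
          rw [e5] at h4
          have h5 : p ∣ 2 := (Nat.dvd_add_right h1).mp h4
          have := Nat.le_of_dvd (by norm_num) h5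
          omega
        · have e5 : (d + 1) ^ 2 + 1 - (d + 1) = d * (d + 1) + 1 := by
            have : (d + 1) ^ 2 + 1 = d * (d + 1) + 1 + (d + 1) := by ring
            omega
          rw [e5] at h4
          have h5 : p ∣ 1 := (Nat.dvd_add_right (h1.mul_right (d + 1))).mp h4
          have := Nat.le_of_dvd (by norm_num) h5
          omega
      exact Cfsg.Agent.Lib.ReeG2.GL7.isCyclic_pGroup Hs hidx _ P.isPGroup'
    · -- `p ∣ q + 1`
      have hno := neg_one_not_sq hK
      haveI := isCyclic_LLT ax f hf hff hno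
      have hcard := card_LLT ax f hf hff hno
      rw [hcardK] at hcard
      set L := LLT ax f hf hff with hL
      have hidx : ¬ p ∣ L.index := by
        have h2 := Subgroup.card_mul_index L
        rw [hG] at h2
        have h3 : L.index = 2 * (q ^ 3 * (q - 1) * (q ^ 2 + 1 - q)) := by
          apply Nat.eq_of_mul_eq_mul_left (show 0 < Nat.card L by
            exact Nat.card_pos)
          rw [h2]
          have : q ^ 3 * (q - 1) * ((q + 1) * (q ^ 2 + 1 - q)) = (2 * Nat.card L) * (q ^ 3 * (q - 1) * (q ^ 2 + 1 - q)) := by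
            rw [hcard]
            ring
          rw [this]
          ring
        rw [h3, Nat.Prime.dvd_mul hp.out, Nat.Prime.dvd_mul hp.out, Nat.Prime.dvd_mul hp.out]
        obtain ⟨d, rfl⟩ : ∃ d, q = d + 1 := ⟨q - 1, by omega⟩
        simp only [Nat.add_sub_cancel]
        rintro (h4 | (h4 | h4) | h4)
        · have := Nat.le_of_dvd (by norm_num) h4
          omega
        · exact hpq (hp.out.dvd_of_dvd_pow h4)
        · have e5 : d + 1 + 1 = d + 2 := by ring
          rw [e5] at h1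
          have h5 : p ∣ 2 := (Nat.dvd_add_right h4).mp h1
          have := Nat.le_of_dvd (by norm_num) h5
          omega
        · skip
          -- `q² - q + 1 = (q + 1)(q - 2) + 3`
          have e6 : (d + 1) ^ 2 + 1 - (d + 1) = (d + 1 + 1) * (d - 1) + 3 := by
            obtain ⟨c, rfl⟩ : ∃ c, d = c + 1 := ⟨d - 1, by
              have : 1 ≤ d := by omega
              omega⟩
            simp only [Nat.add_sub_cancel]
            have : (c + 1 + 1) ^ 2 + 1 = (c + 1 + 1 + 1) * c + 3 + (c + 1 + 1) := by ring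
            omega
          rw [e6] at h4
          have h5 : p ∣ 3 := (Nat.dvd_add_right (h1.mul_right (d - 1))).mp h4
          have := Nat.le_of_dvd (by norm_num) h5
          omega
      exact Cfsg.Agent.Lib.ReeG2.GL7.isCyclic_pGroup L hidx _ P.isPGroup'
    · -- `p ∣ q² - q + 1`
      have hφ : Function.Injective (MonoidHom.toHomUnits (pG ax f hf hff)) := by
        intro x y hxy
        apply pG_inj ax f hf hff
        have := congrArg (fun z : GL (Fin 7) K => (z : Matrix (Fin 7) (Fin 7) K)) hxy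
        exact this
      refine Cfsg.Agent.Lib.ReeG2.GL7.isCyclic_pGroup_of_injective (MonoidHom.toHomUnits (pG ax f hf hff)) hφ
        (Cfsg.Agent.Lib.ReeG2.GL7.HE K) ?_ _ P.isPGroup'
      apply Cfsg.Agent.Lib.ReeG2.GL7.not_dvd_index_HE K hp3
      rw [hK, ← hq]
      exact h1
  · -- the Sylow subgroup is trivial
    have h1 : (P : Subgroup ↥(twistedG2 K (3 ^ m))) = ⊥ := by
      rw [Subgroup.eq_bot_iff_card]
      rw [Sylow.card_eq_multiplicity]
      rw [Nat.factorization_eq_zero_of_not_dvd hdvd]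
      simp
    rw [h1]
    infer_instance

end Main

end Cfsg.Agent.Lib.ReeG2.T
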